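import Groth.Agent.H17.FLI.TopForms
import Groth.Agent.H22Alg.ExtPowSES
import Groth.Agent.H02CA.Euler.Main
import Groth.Agent.H11Tilde.TwistPow
import Groth.Agent.H11Ample.UnitIso
import Groth.Agent.H26Smooth.ProjSmooth
import Groth.Agent.H3CAlg.DiagRegular
import Groth.Agent.S10829
import Groth.Agent.LeadPic.PnRel
import Groth.Agent.H17.PnExt.Twist
import Groth.Agent.H29RR.Degree
import Groth.Agent.H22Alg.RegSheaf

/-!
# Top forms of projective space
-/

set_option autoImplicit false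
set_option linter.style.haveILetI false
set_option backward.isDefEq.respectTransparency false
set_option synthInstance.maxHeartbeats 400000
set_option maxHeartbeats 1000000

universe u

open CategoryTheory CategoryTheory.Limits AlgebraicGeometry Opposite TopologicalSpace

namespace Groth.Agent.H17.FLI

variable {X : Scheme.{u}} {L : X.Modules}

theorem isFinLocFreeOfRank_copies (hL : PicF.IsInvertible L) (m : ℕ) :
    FlatMod.IsFinLocFreeOfRank m (∐ fun _ : Fin m => L) := fun x => by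
  obtain ⟨U, hxU, ⟨e⟩⟩ := hL x
  haveI : (Scheme.Modules.restrictFunctor U.ι).IsLeftAdjoint := inferInstance
  exact ⟨U, hxU, ⟨PreservesCoproduct.iso (Scheme.Modules.restrictFunctor U.ι) (fun _ : Fin m => L) ≪≫
    Sigma.mapIso fun _ => e⟩⟩

/-- Splitting off the last copy. -/
noncomputable def copiesSuccIso (L : X.Modules) (m : ℕ) :
    ((∐ fun _ : Fin m => L) ⊞ L) ≅ ∐ fun _ : Fin (m + 1) => L where
  hom := biprod.desc (Sigma.desc fun i => Sigma.ι (fun _ : Fin (m + 1) => L) i.castSucc)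
    (Sigma.ι (fun _ : Fin (m + 1) => L) (Fin.last m))
  inv := Sigma.desc fun i => Fin.lastCases (motive := fun _ => L ⟶ (∐ fun _ : Fin m => L) ⊞ L) biprod.inr
    (fun j => Sigma.ι (fun _ : Fin m => L) j ≫ biprod.inl) i
  hom_inv_id := by
    apply biprod.hom_ext'
    · refine Sigma.hom_ext _ _ fun j => ?_
      simp
    · simp
  inv_hom_id := by
    refine Sigma.hom_ext _ _ fun i => ?_
    induction i using Fin.lastCases with
    | last => simp
    | cast j => simp

/-- The determinant of copies of an invertible module. -/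
theorem nonempty_det_copies (hL : PicF.IsInvertible L) : ∀ (m : ℕ) {M : X.Modules},
    ExtPow.IsExtPow m (∐ fun _ : Fin m => L) M → Nonempty (M ≅ CohB1.tensorPow L m)
  | 0, _, hM => H22Alg.ExtPowHom.nonempty_iso hM (H22Alg.KExists.isExtPow_zero _)
  | m + 1, M, hM => by
    have hq : ∀ k, Coh.IsQCoh (∐ fun _ : Fin k => L) := fun k =>
      H8Props.FinLocFree.isQCoh_of_isFinLocFree _ (isFinLocFree_of_rank (isFinLocFreeOfRank_copies hL k))
    let A := ∐ fun _ : Fin m => L
    obtain ⟨LA, hLA⟩ := H22Alg.ExtPowSheaf.exists_isExtPow m (hq m)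
    let S : ShortComplex X.Modules := ShortComplex.mk (biprod.inl : A ⟶ A ⊞ L) biprod.snd (by simp)
    have hS : S.ShortExact := (ShortComplex.Splitting.ofHasBinaryBiproduct A L).shortExact
    have hM' : ExtPow.IsExtPow (m + 1) (A ⊞ L) M :=
      H22Alg.ExtPowSES.isExtPow_of_iso (copiesSuccIso L m).symm hM
    obtain ⟨e⟩ := DetSES.nonempty_iso (LA := LA) (LB := M) (LC := L) finSumFinEquiv hS
      (isFinLocFreeOfRank_copies hL m)
      ((SheafOfModules.isQuasicoherent.{u} (R := X.ringCatSheaf)).prop_of_iso (copiesSuccIso L m).symm (hq (m + 1)))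
      (H29RR.rank_one_of_isInvertible hL) hLA hM' (H22Alg.KExists.isExtPow_one L)
    obtain ⟨e'⟩ := nonempty_det_copies hL m hLA
    exact ⟨e.symm ≪≫ PicGrp.tensorModIso e' (Iso.refl L)⟩

variable (n : ℕ) (k : Type u) [Field k]

instance smoothOfRelativeDimension_projSpace : SmoothOfRelativeDimension n (CohB1.ProjSpace.toSpec n k) := by
  haveI : IsIntegral (CohB1.ProjSpace n k) := LeadPic.PnRel.isIntegral_projSpace (n := n) k
  exact H3CAlg.DiagRegular.smoothOfRelativeDimension _ n (S10829.result k n)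

theorem nonempty_tensorPow_twist : ∀ m : ℕ,
    Nonempty (CohB1.tensorPow (Twist.twistProjSpace n k (-1)) m ≅ Twist.twistProjSpace n k (-(m : ℤ)))
  | 0 => by
    obtain ⟨e⟩ := H11Tilde.nonempty_twist_zero_iso (CohB1.polyGrading n k)
    exact ⟨e.symm ≪≫ eqToIso (show Twist.twistProjSpace n k 0 = Twist.twistProjSpace n k (-((0 : ℕ) : ℤ)) by simp)⟩
  | m + 1 => by
    obtain ⟨e⟩ := nonempty_tensorPow_twist m
    obtain ⟨e'⟩ := H11Tilde.nonempty_twist_tensor_iso (CohB1.polyGrading n k) (PnExt.degOne n k)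
      (-(m : ℤ)) (-1) (-((m + 1 : ℕ) : ℤ)) (by push_cast; ring)
    exact ⟨PicGrp.tensorModIso e (Iso.refl _) ≪≫ e'⟩

/-- The top forms of projective space are `O(-n-1)`. -/
theorem nonempty_topForms_projSpace_iso {Ω : (CohB1.ProjSpace n k).Modules}
    (hΩ : ExtPow.IsExtPow n (Omega.sheaf (CohB1.ProjSpace.toSpec n k)) Ω) :
    Nonempty (Ω ≅ Twist.twistProjSpace n k (-((n : ℤ) + 1))) := by
  haveI : IsIntegral (CohB1.ProjSpace n k) := LeadPic.PnRel.isIntegral_projSpace (n := n) k
  have hS := H02CA.Euler.eulerSeq_shortExact n k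
  have hL : PicF.IsInvertible (Twist.twistProjSpace n k (-1)) := H22Alg.RegSheaf.isInvertible_twistProjSpace n k _
  have hL0 : PicF.IsInvertible (Twist.twistProjSpace n k 0) := H22Alg.RegSheaf.isInvertible_twistProjSpace n k _
  have hq : Coh.IsQCoh (∐ fun _ : Fin (n + 1) => Twist.twistProjSpace n k (-1)) :=
    H8Props.FinLocFree.isQCoh_of_isFinLocFree _ (isFinLocFree_of_rank (isFinLocFreeOfRank_copies hL (n + 1)))
  obtain ⟨M, hM⟩ := H22Alg.ExtPowSheaf.exists_isExtPow (n + 1) hq
  obtain ⟨e⟩ := DetSES.nonempty_iso (LA := Ω) (LB := M) (LC := Twist.twistProjSpace n k 0) finSumFinEquiv hS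
    (H28RR.isFinLocFreeOfRank_omega _ n) hq (H29RR.rank_one_of_isInvertible hL0) hΩ hM
    (H22Alg.KExists.isExtPow_one _)
  obtain ⟨e1⟩ := nonempty_det_copies hL (n + 1) hM
  obtain ⟨e2⟩ := nonempty_tensorPow_twist n k (n + 1)
  obtain ⟨e0⟩ := H11Tilde.nonempty_twist_zero_iso (CohB1.polyGrading n k)
  exact ⟨(H11Ample.tensorLeftUnitIso Ω).symm ≪≫ H11Ample.tensorCommIso _ _ ≪≫
    PicGrp.tensorModIso (Iso.refl Ω) e0.symm ≪≫ e ≪≫ e1 ≪≫ e2 ≪≫
    eqToIso (show Twist.twistProjSpace n k (-((n + 1 : ℕ) : ℤ)) = Twist.twistProjSpace n k (-((n : ℤ) + 1)) by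
      push_cast; rfl)⟩

end Groth.Agent.H17.FLI
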