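import Mathlib.LinearAlgebra.ExteriorPower.Basis
import Mathlib.LinearAlgebra.ExteriorAlgebra.Grading

/-!
# The wedge pairing between complementary exterior powers of a based module
-/

set_option autoImplicit false

universe u

open exteriorPower Set

noncomputable section

namespace Groth.Agent.H17.FLI.WedgeAlg

variable {R : Type u} [CommRing R] {M : Type u} [AddCommGroup M] [Module R M] {p q : ℕ}

/-- `z ↦ (x ↦ x ∧ z)`. -/
def mulMap (p q : ℕ) : ↥(⋀[R]^q M) →ₗ[R] ↥(⋀[R]^p M) →ₗ[R] ↥(⋀[R]^(p + q) M) :=
  LinearMap.mk₂ R (fun z x => ⟨(x : ExteriorAlgebra R M) * z, SetLike.mul_mem_graded x.2 z.2⟩)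
    (fun _ _ _ => Subtype.ext (mul_add _ _ _)) (fun _ _ _ => Subtype.ext (mul_smul_comm _ _ _))
    (fun _ _ _ => Subtype.ext (add_mul _ _ _)) (fun _ _ _ => Subtype.ext (smul_mul_assoc _ _ _))

theorem mulMap_ιMulti (a : Fin p → M) (b : Fin q → M) :
    mulMap p q (ιMulti R q b) (ιMulti R p a) = ιMulti R (p + q) (Fin.append a b) :=
  Subtype.ext (ExteriorAlgebra.ιMulti_mul_ιMulti a b)

/-- The complementary index set. -/
def compl (T : powersetCard (Fin (p + q)) q) : powersetCard (Fin (p + q)) p :=
  ⟨(T.1)ᶜ, by
    have h : (T.1).card = q := T.2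
    show (T.1)ᶜ.card = p
    rw [Finset.card_compl, h, Fintype.card_fin, Nat.add_sub_cancel]⟩

theorem disjoint_iff (S : powersetCard (Fin (p + q)) p) (T : powersetCard (Fin (p + q)) q) :
    Disjoint S.1 T.1 ↔ S = compl T := by
  refine ⟨fun h => Subtype.ext (Finset.eq_of_subset_of_card_le ?_ (le_of_eq ?_)), fun h => h ▸ disjoint_compl_left⟩
  · exact fun x hx => Finset.mem_compl.2 (Finset.disjoint_left.1 h hx)
  · exact (show ((compl T).1).card = p from (compl T).2).trans (show (S.1).card = p from S.2).symm

theorem compl_injective : Function.Injective (compl (p := p) (q := q)) := fun _ _ h =>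
  Subtype.ext (_root_.compl_injective (congrArg Subtype.val h))

theorem exists_compl (S : powersetCard (Fin (p + q)) p) : ∃ T, compl (q := q) T = S := by
  have h : (S.1).card = p := S.2
  refine ⟨⟨(S.1)ᶜ, ?_⟩, Subtype.ext (compl_compl _)⟩
  show (S.1)ᶜ.card = q
  rw [Finset.card_compl, h, Fintype.card_fin, Nat.add_sub_cancel_left]

variable (b : Module.Basis (Fin (p + q)) R M)

theorem subsingleton_top : Subsingleton (powersetCard (Fin (p + q)) (p + q)) :=
  ⟨fun S T => by
    have hS : (S.1).card = p + q := S.2
    have hT : (T.1).card = p + q := T.2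
    exact Subtype.ext ((Finset.eq_univ_of_card S.1 (by rw [hS, Fintype.card_fin])).trans
      (Finset.eq_univ_of_card T.1 (by rw [hT, Fintype.card_fin])).symm)⟩

/-- The only element of the top index type. -/
def top : powersetCard (Fin (p + q)) (p + q) :=
  ⟨Finset.univ, by show Finset.card _ = _; rw [Finset.card_univ, Fintype.card_fin]⟩

theorem mul_eq_zero {S : powersetCard (Fin (p + q)) p} {T : powersetCard (Fin (p + q)) q} (h : S ≠ compl T) :
    mulMap p q (b.exteriorPower q T) (b.exteriorPower p S) = 0 := by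
  refine Subtype.ext ?_
  rw [basis_apply, basis_apply]
  exact ExteriorAlgebra.ιMulti_family_mul_of_not_disjoint (R := R) b S T fun hd => h ((disjoint_iff S T).1 hd)

/-- The sign of a complementary pair. -/
theorem exists_sign (T : powersetCard (Fin (p + q)) q) : ∃ ε : R, IsUnit ε ∧
    mulMap p q (b.exteriorPower q T) (b.exteriorPower p (compl T)) = ε • b.exteriorPower (p + q) top := by
  have hd : Disjoint (compl T).1 T.1 := (disjoint_iff _ T).2 rfl
  refine ⟨((Equiv.Perm.sign (powersetCard.permOfDisjoint hd) : ℤ) : R),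
    ((Equiv.Perm.sign (powersetCard.permOfDisjoint hd)).isUnit).map (Int.castRingHom R), ?_⟩
  refine Subtype.ext ?_
  rw [basis_apply, basis_apply, basis_apply, Submodule.coe_smul]
  refine (ExteriorAlgebra.ιMulti_family_mul_of_disjoint (R := R) b (compl T) T hd).trans ?_
  rw [Units.smul_def, Int.cast_smul_eq_zsmul, @Subsingleton.elim _ subsingleton_top (powersetCard.disjUnion hd) top]
  rfl

/-- The wedge pairing is perfect. -/
theorem mulMap_bijective (b : Module.Basis (Fin (p + q)) R M) : Function.Bijective (mulMap (R := R) (M := M) p q) := by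
  classical
  let B := b.exteriorPower q
  let W := b.exteriorPower (p + q) (top (p := p) (q := q))
  choose ε hε hεW using exists_sign b
  have hev : ∀ (z : ↥(⋀[R]^q M)) (T : powersetCard (Fin (p + q)) q),
      mulMap p q z (b.exteriorPower p (compl T)) = (B.repr z T * ε T) • W := fun z T => by
    conv_lhs => rw [← B.sum_repr z]
    rw [map_sum, LinearMap.sum_apply, Finset.sum_eq_single T]
    · rw [map_smul, LinearMap.smul_apply, hεW, smul_smul]
    · intro T' _ hT'
      rw [map_smul, LinearMap.smul_apply, mul_eq_zero b (fun h => hT' (compl_injective h).symm), smul_zero]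
    · exact fun h => (h (Finset.mem_univ T)).elim
  refine ⟨(injective_iff_map_eq_zero _).2 fun z hz => B.ext_elem fun T => ?_, fun g => ?_⟩
  · have h := congrArg (fun w => (b.exteriorPower (p + q)).repr w top)
      ((hev z T).symm.trans (LinearMap.congr_fun hz _))
    simp only [W, map_smul, Module.Basis.repr_self, Finsupp.smul_apply, Finsupp.single_eq_same, smul_eq_mul, mul_one,
      LinearMap.zero_apply, map_zero, Finsupp.coe_zero, Pi.zero_apply] at h
    rw [map_zero, Finsupp.zero_apply]
    exact (hε T).mul_left_eq_zero.1 h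
  · refine ⟨∑ T, ((↑((hε T).unit⁻¹) : R) *
      (b.exteriorPower (p + q)).repr (g (b.exteriorPower p (compl T))) top) • B T, (b.exteriorPower p).ext fun S => ?_⟩
    obtain ⟨T, rfl⟩ := exists_compl (q := q) S
    rw [hev, Module.Basis.repr_sum_self, mul_comm, ← mul_assoc, IsUnit.mul_val_inv, one_mul]
    conv_rhs => rw [← (b.exteriorPower (p + q)).sum_repr (g _)]
    have := subsingleton_top (p := p) (q := q)
    rw [Fintype.sum_subsingleton _ top]

end Groth.Agent.H17.FLI.WedgeAlg
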