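import Groth.Agent.H17.FLI.DetSES
import Groth.Agent.H17.FLI.WedgeAlg
import Groth.Agent.H29Ref.HomSections

/-!
# Complementary exterior powers of a bundle are dual
-/

set_option autoImplicit false
set_option linter.style.haveILetI false
set_option backward.isDefEq.respectTransparency.types false
set_option maxHeartbeats 1000000

universe u

open CategoryTheory CategoryTheory.Limits AlgebraicGeometry TopologicalSpace Opposite exteriorPower

noncomputable section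

namespace Groth.Agent.H17.FLI.WedgeDual

open DetSES

variable {X : Scheme.{u}} {p q : ℕ} {E Lp Lq Ln : X.Modules}
  (Wp : Wedge p E Lp) (Wn : Wedge (p + q) E Ln) (hLp : Coh.IsQCoh Lp)

theorem append_comp {α β : Type*} {m n : ℕ} (f : α → β) (a : Fin m → α) (b : Fin n → α) :
    (fun i => f (Fin.append a b i)) = Fin.append (fun i => f (a i)) (fun i => f (b i)) := by
  funext i
  refine Fin.addCases (fun j => ?_) (fun j => ?_) i <;> simp

theorem span_w (U : X.affineOpens) :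
    Submodule.span Γ(X, U.1) (Set.range fun x : Fin p → Γ(E, U.1) => Wp.w U x) = ⊤ := by
  rw [show (fun x : Fin p → Γ(E, U.1) => Wp.w U x) = ⇑(Wp.φ U).symm.toLinearMap ∘ ⇑(ιMulti Γ(X, U.1) p) from rfl,
    Set.range_comp, Submodule.span_image, exteriorPower.ιMulti_span, Submodule.map_top, LinearMap.range_eq_top]
  exact (Wp.φ U).symm.surjective

/-- Sections of the sheaf Hom as linear maps. -/
def homEquiv (U : X.affineOpens) :
    Γ(RefHull.homSh Lp Ln, U.1) ≃ₗ[Γ(X, U.1)] (Γ(Lp, U.1) →ₗ[Γ(X, U.1)] Γ(Ln, U.1)) :=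
  LinearEquiv.ofBijective (H29Ref.toLinₗ Lp Ln U.1) (H29Ref.bijective_toLinₗ Lp Ln hLp U.2)

/-- The wedge pairing on sections. -/
def pairing (U : X.affineOpens) :
    ↥(⋀[Γ(X, U.1)]^q Γ(E, U.1)) →ₗ[Γ(X, U.1)] Γ(RefHull.homSh Lp Ln, U.1) :=
  (homEquiv (Ln := Ln) hLp U).symm.toLinearMap ∘ₗ
    (LinearEquiv.arrowCongr (Wp.φ U) (Wn.φ U)).symm.toLinearMap ∘ₗ WedgeAlg.mulMap p q

theorem pairing_apply (U : X.affineOpens) (e : Fin q → Γ(E, U.1)) (x : Fin p → Γ(E, U.1)) (y : U.1) :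
    (pairing Wp Wn hLp U (ιMulti _ q e)).1 y (Lp.presheaf.germ U.1 y.1 y.2 (Wp.w U x)) =
      Ln.presheaf.germ U.1 y.1 y.2 (Wn.w U (Fin.append x e)) := by
  rw [← H29Ref.germ_toLin]
  refine congrArg _ ?_
  have h := LinearMap.congr_fun ((homEquiv (Ln := Ln) hLp U).apply_symm_apply
    ((LinearEquiv.arrowCongr (Wp.φ U) (Wn.φ U)).symm (WedgeAlg.mulMap p q (ιMulti _ q e)))) (Wp.w U x)
  refine h.trans ?_
  show (Wn.φ U).symm (WedgeAlg.mulMap p q (ιMulti _ q e) (Wp.φ U ((Wp.φ U).symm (ιMulti _ p x)))) = _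
  rw [LinearEquiv.apply_symm_apply, WedgeAlg.mulMap_ιMulti]
  rfl

theorem pairing_res (U V : X.affineOpens) (h : V.1 ≤ U.1) (e : Fin q → Γ(E, U.1)) :
    pairing Wp Wn hLp V (ιMulti _ q fun j => E.presheaf.map (homOfLE h).op (e j)) =
      (RefHull.homSh Lp Ln).presheaf.map (homOfLE h).op (pairing Wp Wn hLp U (ιMulti _ q e)) := by
  refine H29Ref.homSh_ext h (fun x : Fin p → Γ(E, U.1) => Wp.w U x)
    (fun y hy => H29Ref.span_germ_affine Lp hLp U.2 _ (span_w Wp U) ⟨y, h hy⟩) fun x y => ?_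
  rw [H29Ref.res_apply h]
  refine Eq.trans ?_ (pairing_apply Wp Wn hLp U e x ⟨y.1, h y.2⟩).symm
  rw [← H29Ref.germ_res Lp h y.1 y.2 (Wp.w U x), Wp.w_res h, pairing_apply,
    ← H29Ref.germ_res Ln h y.1 y.2 (Wn.w U _), Wn.w_res h]
  exact congrArg _ (congrArg _ (append_comp _ _ _).symm)

theorem pairing_bijective (U : X.affineOpens) (b : Module.Basis (Fin (p + q)) Γ(X, U.1) Γ(E, U.1)) :
    Function.Bijective (pairing Wp Wn hLp U) :=
  (homEquiv (Ln := Ln) hLp U).symm.bijective.comp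
    ((LinearEquiv.arrowCongr (Wp.φ U) (Wn.φ U)).symm.bijective.comp (WedgeAlg.mulMap_bijective b))

/-- Complementary exterior powers are dual to each other with values in the determinant. -/
theorem nonempty_iso {n : ℕ} (hn : p + q = n) (hE : FlatMod.IsFinLocFreeOfRank n E)
    (hp : ExtPow.IsExtPow p E Lp) (hq : ExtPow.IsExtPow q E Lq) (hΛ : ExtPow.IsExtPow n E Ln) :
    Nonempty (Lq ≅ RefHull.homSh Lp Ln) := by
  subst hn
  have hE' : FlatMod.IsFinLocFree E := fun x => by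
    obtain ⟨U, hx, h⟩ := hE x; exact ⟨U, p + q, hx, h⟩
  have hqc : Coh.IsQCoh Lp :=
    H8Props.FinLocFree.isQCoh_of_isFinLocFree _ (H22Alg.ExtPowHom.finLocFree_of_isExtPow hE' hp)
  obtain ⟨φp, hφp⟩ := hp
  obtain ⟨φn, hφn⟩ := hΛ
  let Wp : Wedge p E Lp := ⟨fun U => φp U, hφp⟩
  let Wn : Wedge (p + q) E Ln := ⟨fun U => φn U, hφn⟩
  obtain ⟨φ, g, hg⟩ := H22Alg.ExtPowHom.exists_hom hq (fun U => pairing Wp Wn hqc U)
    (fun U V h e => pairing_res Wp Wn hqc U V h e)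
  let Good : X.Opens → Prop := fun U => ∃ hU : IsAffineOpen U,
    Nonempty (Module.Basis (Fin (p + q)) Γ(X, U) Γ(E, U))
  haveI : IsIso g := H22Alg.ExtPowHom.isIso_of_bijective g Good (fun W x hx => by
      obtain ⟨UE, hxE, ⟨eE⟩⟩ := hE x
      obtain ⟨U, hU, hxU, hle⟩ := exists_isAffineOpen_mem_and_subset (x := x) (U := W ⊓ UE) ⟨hx, hxE⟩
      exact ⟨U, ⟨hU, H8Props.FinLocFree.exists_basis_of_chart E eE (fun y hy => (hle hy).2)⟩, hxU,
        fun y hy => (hle hy).1⟩)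
    fun U ⟨hU, ⟨b⟩⟩ => by
      rw [show (g.app U : Γ(Lq, U) → _) = pairing Wp Wn hqc ⟨U, hU⟩ ∘ φ ⟨U, hU⟩ from funext (hg ⟨U, hU⟩)]
      exact (pairing_bijective Wp Wn hqc ⟨U, hU⟩ b).comp (φ ⟨U, hU⟩).bijective
  exact ⟨asIso g⟩

end Groth.Agent.H17.FLI.WedgeDual
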