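import Groth.Agent.H17.FLI.SmoothDual
import Groth.Agent.H17.FLI.WedgeDual
import Groth.Agent.H17.PnExt.SerreFLF
import Groth.Agent.H10Coh.Proper2
import Groth.Agent.H16Derived.KFlat.LTensorAssoc
import Groth.Agent.H10Coh.TensorBasics
import Groth.Agent.H10Coh.AffineAmple
import Groth.Agent.H10Coh.Proj.PnFinite

/-!
# Symmetry of the cohomology of forms
-/

set_option autoImplicit false
set_option linter.style.haveILetI false
set_option backward.isDefEq.respectTransparency false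
set_option synthInstance.maxHeartbeats 800000
set_option maxHeartbeats 1600000

universe u

open CategoryTheory CategoryTheory.Limits AlgebraicGeometry Opposite TopologicalSpace
open Groth.Agent.H10Inj.SheafExt

namespace Groth.Agent.H17.FLI

/-- `𝓗om(B, 𝓗om(A, G)) ≅ 𝓗om(A ⊗ B, G)`. -/
theorem nonempty_homSh_homSh_iso {X : Scheme.{u}} (A B G : X.Modules) :
    Nonempty (RefHull.homSh B (RefHull.homSh A G) ≅ RefHull.homSh (CohB1.tensorMod A B) G) := by
  let θ : (DCoh.tensorBi (X := X)).obj (CohB1.tensorMod A B) ≅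
      (DCoh.tensorBi (X := X)).obj B ⋙ (DCoh.tensorBi (X := X)).obj A :=
    NatIso.ofComponents (fun N => (((H16Derived.KFlat.Stalk.sheafAssoc (X := X)).app A).app B).app N)
      (fun g => (((H16Derived.KFlat.Stalk.sheafAssoc (X := X)).app A).app B).hom.naturality g)
  exact ⟨((((homAdj B).comp (homAdj A)).ofNatIsoLeft θ.symm).rightAdjointUniq (homAdj (CohB1.tensorMod A B))).app G⟩

theorem finrank_eq_of_dual {k V W : Type u} [Field k] [AddCommGroup V] [Module k V] [AddCommGroup W] [Module k W]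
    [Module.Finite k V] (e : Module.Dual k V ≃ₗ[k] W) : Module.finrank k V = Module.finrank k W :=
  Subspace.dual_finrank_eq.symm.trans e.finrank_eq

variable {k : Type u} [Field k]

theorem finrank_extPow_symm {n N : ℕ} {X : Scheme.{u}} [X.Over (Spec (CommRingCat.of k))] [Nonempty X]
    [SmoothOfRelativeDimension n (X ↘ Spec (CommRingCat.of k))]
    (ι : X ⟶ CohB1.ProjSpace N k) [IsClosedImmersion ι]
    (hι : ι ≫ CohB1.ProjSpace.toSpec N k = X ↘ Spec (CommRingCat.of k))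
    {p q : ℕ} (hp : p ≤ n) (hq : q ≤ n) {L L' : X.Modules}
    (hL : ExtPow.IsExtPow p (Omega.sheaf (X ↘ Spec (CommRingCat.of k))) L)
    (hL' : ExtPow.IsExtPow (n - p) (Omega.sheaf (X ↘ Spec (CommRingCat.of k))) L') :
    Module.finrank k (Coh.HH X L q) = Module.finrank k (Coh.HH X L' (n - q)) := by
  haveI : Smooth (X ↘ Spec (CommRingCat.of k)) := SmoothOfRelativeDimension.smooth n _
  haveI : IsLocallyNoetherian X := LocallyOfFiniteType.isLocallyNoetherian (X ↘ Spec (CommRingCat.of k))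
  haveI : IsProper (X ↘ Spec (CommRingCat.of k)) := by rw [← hι]; infer_instance
  have hrk := H28RR.isFinLocFreeOfRank_omega (X ↘ Spec (CommRingCat.of k)) n
  obtain ⟨Ω, hΩ⟩ := H22Alg.ExtPowSheaf.exists_isExtPow n (H29Omega.isQCoh_sheaf (X ↘ Spec (CommRingCat.of k)))
  have hLv := H22Alg.ExtPowHom.finLocFree_of_isExtPow (isFinLocFree_of_rank hrk) hL
  haveI := H10Coh.SheafHom.hasSheafHom L
  obtain ⟨e⟩ := nonempty_dual_linearEquiv_vb ι hι hΩ hLv hq
  obtain ⟨w⟩ := WedgeDual.nonempty_iso (Nat.add_sub_cancel' hp) hrk hL hL' hΩ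
  haveI : Module.Finite k (Coh.HH X L q) := H10Coh.finite_HH_proper k X L (H10Coh.Tw.isCoh_of_vb hLv) q
  exact (finrank_eq_of_dual e).trans
    (H22Alg.CurveAmple.finrank_HH_congr (k := k) (w ≪≫ (H10Coh.SheafHom.homShIso L Ω).symm) (n - q)).symm

theorem finrank_extPow_twist_symm {r p q : ℕ} (hp : p ≤ r) (hq : q ≤ r) {L L' : (CohB1.ProjSpace r k).Modules}
    (hL : ExtPow.IsExtPow p (Omega.sheaf (CohB1.ProjSpace.toSpec r k)) L)
    (hL' : ExtPow.IsExtPow (r - p) (Omega.sheaf (CohB1.ProjSpace.toSpec r k)) L') (d : ℤ) :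
    Module.finrank k (Coh.HH (CohB1.ProjSpace r k) (CohB1.tensorMod L (Twist.twistProjSpace r k d)) q) =
      Module.finrank k (Coh.HH (CohB1.ProjSpace r k)
        (CohB1.tensorMod L' (Twist.twistProjSpace r k (-d))) (r - q)) := by
  haveI : IsLocallyNoetherian (CohB1.ProjSpace r k) :=
    LocallyOfFiniteType.isLocallyNoetherian (CohB1.ProjSpace.toSpec r k)
  have hrk := H28RR.isFinLocFreeOfRank_omega (CohB1.ProjSpace.toSpec r k) r
  obtain ⟨Ω, hΩ⟩ := H22Alg.ExtPowSheaf.exists_isExtPow r (H29Omega.isQCoh_sheaf (CohB1.ProjSpace.toSpec r k))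
  obtain ⟨eΩ⟩ := nonempty_topForms_projSpace_iso r k hΩ
  obtain ⟨w⟩ := WedgeDual.nonempty_iso (Nat.add_sub_cancel' hp) hrk hL hL' hΩ
  have hLv := H22Alg.ExtPowHom.finLocFree_of_isExtPow (isFinLocFree_of_rank hrk) hL
  have hd : PicF.IsInvertible (Twist.twistProjSpace r k d) := H22Alg.RegSheaf.isInvertible_twistProjSpace r k d
  let B := Twist.twistProjSpace r k d
  let B' := Twist.twistProjSpace r k (-d)
  have hLB : FlatMod.IsFinLocFree (CohB1.tensorMod L B) :=
    H10Coh.Tw.isFinLocFree_tensorMod hLv (isFinLocFree_of_rank (H29RR.rank_one_of_isInvertible hd))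
  haveI := H10Coh.SheafHom.hasSheafHom (CohB1.tensorMod L B)
  obtain ⟨e⟩ := PnExt.nonempty_dual_sheafHom k r _ hLB q hq
  obtain ⟨h1⟩ := nonempty_homSh_homSh_iso L B (Twist.twistProjSpace r k (-((r : ℤ) + 1)))
  obtain ⟨h2⟩ := nonempty_homSh_tensor_iso hd (CohB1.tensorMod B' L')
  obtain ⟨t⟩ := H11Tilde.nonempty_twist_tensor_iso (CohB1.polyGrading r k) (PnExt.degOne r k) d (-d) 0 (by ring)
  obtain ⟨t0⟩ := H11Tilde.nonempty_twist_zero_iso (CohB1.polyGrading r k)
  haveI : Module.Finite k (Coh.HH (CohB1.ProjSpace r k) (CohB1.tensorMod L B) q) :=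
    H10Coh.Pn.finite_HH_projSpace r _ (H10Coh.Tw.isCoh_of_vb hLB) q
  let hB : CohB1.tensorMod B (CohB1.tensorMod B' L') ≅ L' := (H11Ample.tensorAssocIso B B' L').symm ≪≫
    PicGrp.tensorModIso (t ≪≫ t0) (Iso.refl L') ≪≫ H11Ample.tensorLeftUnitIso L'
  refine (finrank_eq_of_dual e).trans (H22Alg.CurveAmple.finrank_HH_congr (k := k) ?_ (r - q))
  exact H10Coh.SheafHom.homShIso _ _ ≪≫ h1.symm ≪≫
    (homFunctor B).mapIso ((homFunctor L).mapIso eΩ.symm ≪≫ w.symm ≪≫ hB.symm) ≪≫ h2 ≪≫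
    H11Ample.tensorCommIso B' L'

end Groth.Agent.H17.FLI
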