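import Groth.Agent.H10Coh.Pn.Hodge
import Groth.Agent.H10Coh.Pn.HyperPn
import Groth.Agent.H17.FLI.HodgeSymm

/-!
# Bott's formula for twisted forms on projective space
-/

set_option autoImplicit false
set_option linter.style.haveILetI false
set_option linter.unusedSectionVars false
set_option backward.isDefEq.respectTransparency false
set_option synthInstance.maxHeartbeats 400000
set_option maxHeartbeats 1000000

noncomputable section

universe u

open CategoryTheory CategoryTheory.Limits AlgebraicGeometry Opposite TopologicalSpace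
open Groth.Agent.H10Coh

namespace Groth.Agent.H17.FLI.Bott

variable {F : Type u} [Field F] {X : Scheme.{u}} [X.Over (Spec (CommRingCat.of F))]

/-- Additivity on global sections. -/
theorem h0_add {S : ShortComplex X.Modules} (hS : S.ShortExact) (h : Subsingleton (Coh.HH X S.X₁ 1))
    [Module.Finite F (Coh.HH X S.X₁ 0)] [Module.Finite F (Coh.HH X S.X₃ 0)] :
    Module.Finite F (Coh.HH X S.X₂ 0) ∧ Module.finrank F (Coh.HH X S.X₂ 0) =
      Module.finrank F (Coh.HH X S.X₁ 0) + Module.finrank F (Coh.HH X S.X₃ 0) := by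
  let f := Hyper.Hmₗ (F := F) S.f 0
  let g := Hyper.Hmₗ (F := F) S.g 0
  have hk : LinearMap.ker g = LinearMap.range f := Hyper.ker_Hmₗ hS 0
  have hg : Function.Surjective g := fun x => by
    rw [← LinearMap.mem_range, Hyper.range_Hmₗ hS 0]
    exact h.elim _ _
  haveI : Module.Finite F (LinearMap.ker g) :=
    hk ▸ (Module.Finite.range f : Module.Finite F (LinearMap.range f))
  haveI : Module.Finite F (Coh.HH X S.X₂ 0) := by
    haveI : Module.Finite F (Coh.HH X S.X₂ 0 ⧸ LinearMap.ker g) :=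
      Module.Finite.equiv (g.quotKerEquivOfSurjective hg).symm
    exact Module.Finite.of_submodule_quotient (LinearMap.ker g)
  refine ⟨inferInstance, ?_⟩
  rw [← g.finrank_range_add_finrank_ker, hk, LinearMap.finrank_range_of_inj (f := f) (HHSeq.injective_Hm_zero hS),
    LinearMap.range_eq_top.2 hg, _root_.finrank_top, add_comm]

variable {N : X.Modules} (hN : PicF.IsInvertible N) {h : ℕ}
  (hN1 : Subsingleton (Coh.HH X N 1)) [Module.Finite F (Coh.HH X N 0)]
  (hN0 : Module.finrank F (Coh.HH X N 0) = h)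

include hN hN1 hN0 in
/-- Sections of twisted exterior powers of a free module. -/
theorem h0_extPow_free : ∀ (r p : ℕ) {L : X.Modules}, ExtPow.IsExtPow p (ExtPowFree.F X r) L →
    Module.Finite F (Coh.HH X (CohB1.tensorMod L N) 0) ∧
      Module.finrank F (Coh.HH X (CohB1.tensorMod L N) 0) = Nat.choose r p * h
  | r, 0, L, hL => by
    obtain ⟨e⟩ := H22Alg.ExtPowHom.nonempty_iso (H22Alg.KExists.isExtPow_zero (ExtPowFree.F X r)) hL
    let e' := HHSeq.isoₗ (A := F) ((Tw.leftUnitIso N).symm ≪≫ PicGrp.tensorModIso e (Iso.refl N)) 0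
    exact ⟨Module.Finite.equiv e', by rw [← e'.finrank_eq, hN0, Nat.choose_zero_right, one_mul]⟩
  | 0, p + 1, L, hL => by
    haveI := ExtPowFree.subsingleton_HH_of_isZero
      (H22Alg.ESZ.isZero_tensor (ExtPowFree.isZero_of_lt 0 (p + 1) (Nat.succ_pos p) hL) N) 0
    exact ⟨inferInstance, by rw [Module.finrank_zero_of_subsingleton, Nat.choose_zero_succ, zero_mul]⟩
  | r + 1, p + 1, L, hL => by
    obtain ⟨S, hS, rfl, h₁, h₃⟩ := ExtPowFree.exists_seq r p hL
    obtain ⟨f1, d1⟩ := h0_extPow_free r (p + 1) h₁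
    obtain ⟨f3, d3⟩ := h0_extPow_free r p h₃
    haveI : Module.Finite F (Coh.HH X (Tw.seq S hN).X₁ 0) := f1
    haveI : Module.Finite F (Coh.HH X (Tw.seq S hN).X₃ 0) := f3
    obtain ⟨f2, d2⟩ := h0_add (F := F) (Tw.shortExact_seq hS hN) (ExtPowFree.subsingleton_HH hN hN1 r (p + 1) h₁)
    exact ⟨f2, d2.trans ((congrArg₂ (· + ·) d1 d3).trans (by rw [← add_mul, Nat.choose_succ_succ', add_comm]))⟩

theorem choose_identity (a b p : ℕ) :
    Nat.choose (a + p + 2) (p + 1) * Nat.choose (a + b + 1) (a + p + 1) =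
      Nat.choose (a + b + 2) (b + 1) * Nat.choose b p + Nat.choose (a + b + 1) (b + 1) * Nat.choose b (p + 1) := by
  rcases lt_or_ge b p with h | h
  · rw [Nat.choose_eq_zero_of_lt h, Nat.choose_eq_zero_of_lt (Nat.lt_succ_of_lt h),
      Nat.choose_eq_zero_of_lt (show a + b + 1 < a + p + 1 by omega)]
    simp
  obtain ⟨c, rfl⟩ := Nat.exists_eq_add_of_le h
  rcases c with _ | c
  · simp only [Nat.add_zero]
    rw [Nat.choose_self, Nat.choose_self, Nat.choose_succ_self, mul_zero, add_zero]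
  refine Nat.cast_injective (R := ℚ) ?_
  push_cast [Nat.cast_choose ℚ (show p + 1 ≤ a + p + 2 by omega), Nat.cast_choose ℚ (show a + p + 1 ≤ a + (p + (c + 1)) + 1 by omega),
    Nat.cast_choose ℚ (show p + (c + 1) + 1 ≤ a + (p + (c + 1)) + 2 by omega), Nat.cast_choose ℚ (show p ≤ p + (c + 1) by omega),
    Nat.cast_choose ℚ (show p + (c + 1) + 1 ≤ a + (p + (c + 1)) + 1 by omega), Nat.cast_choose ℚ (show p + 1 ≤ p + (c + 1) by omega)]
  rw [show a + p + 1 - p = a + 1 by omega, show a + (p + (c + 1)) - (a + p) = c + 1 by omega,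
    show a + (p + (c + 1)) + 1 - (p + (c + 1)) = a + 1 by omega, Nat.add_sub_cancel_left,
    show a + (p + (c + 1)) - (p + (c + 1)) = a by omega, show p + (c + 1) - (p + 1) = c by omega,
    show a + (p + (c + 1)) + 2 = (a + p + c + 2) + 1 by omega, show a + (p + (c + 1)) + 1 = a + p + c + 2 by omega,
    show p + (c + 1) + 1 = (p + c + 1) + 1 by omega, show p + (c + 1) = p + c + 1 by omega,
    show a + p + 2 = (a + p + 1) + 1 by omega,
    Nat.factorial_succ (a + p + c + 2), Nat.factorial_succ (p + c + 1), Nat.factorial_succ (a + p + 1),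
    Nat.factorial_succ p, Nat.factorial_succ c, Nat.factorial_succ a]
  push_cast
  field_simp
  ring

theorem key_identity {d r p : ℕ} (hp : p < r) (hd : 0 < d) :
    Nat.choose (r + 1) (p + 1) * Nat.choose ((d : ℤ) - p - 1 + r).toNat r =
      Nat.choose (d + r - p) d * Nat.choose (d - 1) p + Nat.choose (d + r - (p + 1)) d * Nat.choose (d - 1) (p + 1) := by
  obtain ⟨b, rfl⟩ : ∃ b, d = b + 1 := ⟨d - 1, by omega⟩
  obtain ⟨a, rfl⟩ : ∃ a, r = a + p + 1 := ⟨r - p - 1, by omega⟩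
  have e1 : (((b + 1 : ℕ) : ℤ) - p - 1 + ((a + p + 1 : ℕ) : ℤ)).toNat = a + b + 1 := by omega
  have e2 : b + 1 + (a + p + 1) - (p + 1) = a + b + 1 := by omega
  have e3 : b + 1 + (a + p + 1) - p = a + b + 2 := by omega
  rw [e1, e2, e3, Nat.add_sub_cancel]
  exact choose_identity a b p

/-- Bott's formula for sections. -/
theorem finrank_h0 (k : Type u) [Field k] (r : ℕ) : ∀ (j p : ℕ), p + j = r →
    ∀ {L : (CohB1.ProjSpace r k).Modules}, ExtPow.IsExtPow p (Omega.sheaf (CohB1.ProjSpace.toSpec r k)) L →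
    ∀ d : ℕ, 0 < d →
      Module.Finite k (Coh.HH (CohB1.ProjSpace r k) (CohB1.tensorMod L (Twist.twistProjSpace r k (d : ℤ))) 0) ∧
        Module.finrank k (Coh.HH (CohB1.ProjSpace r k) (CohB1.tensorMod L (Twist.twistProjSpace r k (d : ℤ))) 0) =
          Nat.choose (d + r - p) d * Nat.choose (d - 1) p
  | 0, p, hpj, L, hL, d, hd => by
    obtain rfl : p = r := by omega
    obtain ⟨e⟩ := nonempty_topForms_projSpace_iso p k hL
    obtain ⟨e'⟩ := H11Tilde.nonempty_twist_tensor_iso (CohB1.polyGrading p k) (PnExt.degOne p k)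
      (-((p : ℤ) + 1)) (d : ℤ) ((d : ℤ) - p - 1) (by ring)
    let E : Coh.HH (CohB1.ProjSpace p k) (CohB1.tensorMod L (Twist.twistProjSpace p k (d : ℤ))) 0 ≃ₗ[k]
        Coh.HH (CohB1.ProjSpace p k) (Twist.twistProjSpace p k ((d : ℤ) - p - 1)) 0 :=
      HHSeq.isoₗ (A := k) (PicGrp.tensorModIso e (Iso.refl _) ≪≫ e') 0
    obtain ⟨f, hdim⟩ : Module.Finite k (Coh.HH (CohB1.ProjSpace p k) (Twist.twistProjSpace p k ((d : ℤ) - p - 1)) 0) ∧
        Module.finrank k (Coh.HH (CohB1.ProjSpace p k) (Twist.twistProjSpace p k ((d : ℤ) - p - 1)) 0) =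
          Nat.choose (d - 1) p := by
      rcases Nat.eq_zero_or_pos p with rfl | hp
      · obtain ⟨m, rfl⟩ : ∃ m, d = m + 1 := ⟨d - 1, by omega⟩
        rw [show ((m + 1 : ℕ) : ℤ) - ((0 : ℕ) : ℤ) - 1 = (m : ℤ) by push_cast; ring]
        obtain ⟨e⟩ := S0843.result k 0 m
        obtain ⟨hf, hh⟩ := H3CAlg.finrank_homogeneous (k := k) 0 m
        exact ⟨Module.Finite.equiv e.symm, by rw [e.finrank_eq, hh]; simp⟩
      · obtain ⟨h1, h2⟩ := Hyper.finrank_H0 k hp.ne' ((d : ℤ) - p - 1)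
        exact ⟨h1, by rw [h2, show ((d : ℤ) - p - 1 + p).toNat = d - 1 by omega]⟩
    exact ⟨Module.Finite.equiv E.symm, by rw [E.finrank_eq, hdim, Nat.add_sub_cancel, Nat.choose_self, one_mul]⟩
  | j + 1, p, hpj, L, hL, d, hd => by
    haveI : QuasiSeparated (CohB1.ProjSpace.toSpec r k) := inferInstance
    let P := CohB1.ProjSpace r k
    let S := PnHodge.setup r k
    obtain ⟨L₁, hL₁⟩ := Hodge.exists_extPow S (p + 1)
    obtain ⟨e₂⟩ := S.middle
    obtain ⟨M, i, g, w, hM, hS⟩ := ExtPowEuler.exists_seq S.exact S.e₃ (S.inv (-1)) e₂ S.qc p hL₁ hL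
    obtain ⟨eP⟩ := Hodge.nonempty_pow_neg S (p + 1)
    obtain ⟨eA⟩ := S.add (-((p + 1 : ℕ) : ℤ)) (d : ℤ) ((d : ℤ) - p - 1) (by push_cast; ring)
    obtain ⟨fm, dm⟩ := Hyper.finrank_H0 k (show r ≠ 0 by omega) ((d : ℤ) - p - 1)
    haveI := fm
    have v1 : Subsingleton (Coh.HH P (Twist.twistProjSpace r k ((d : ℤ) - p - 1)) 1) :=
      PnHodge.subsingleton_twist r k _ 1 (by omega) (by omega)
    obtain ⟨fM, dM⟩ := h0_extPow_free (F := k) (X := P) (H22Alg.RegSheaf.isInvertible_twistProjSpace r k _) v1 dm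
      (r + 1) (p + 1) hM
    let E : Coh.HH P (CohB1.tensorMod (CohB1.tensorMod M (CohB1.tensorPow (S.O (-1)) (p + 1))) (S.O (d : ℤ))) 0 ≃ₗ[k]
        Coh.HH P (CohB1.tensorMod M (Twist.twistProjSpace r k ((d : ℤ) - p - 1))) 0 := HHSeq.isoₗ (A := k) (Tw.assoc M (CohB1.tensorPow (S.O (-1)) (p + 1)) (S.O (d : ℤ)) ≪≫
      PicGrp.tensorModIso (Iso.refl M) (PicGrp.tensorModIso eP (Iso.refl _) ≪≫ eA)) 0
    obtain ⟨f1, d1⟩ := finrank_h0 k r j (p + 1) (by omega) hL₁ d hd
    let T := Tw.seq (ShortComplex.mk i g w) (S.inv (d : ℤ))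
    have hT : T.ShortExact := Tw.shortExact_seq hS (S.inv _)
    have hv : Subsingleton (Coh.HH P T.X₁ 1) :=
      Hodge.subsingleton_pos S (r + 1) (p + 1) (by omega) hL₁ (d : ℤ) 1 (by omega) (by omega)
    haveI : Module.Finite k (Coh.HH P T.X₁ 0) := f1
    haveI f2 : Module.Finite k (Coh.HH P T.X₂ 0) := Module.Finite.equiv E.symm
    haveI : Module.Finite k (Coh.HH P T.X₃ 0) := Module.Finite.of_surjective (Hyper.Hmₗ (F := k) T.g 0) fun x => by
      rw [← LinearMap.mem_range, Hyper.range_Hmₗ hT 0]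
      exact hv.elim _ _
    obtain ⟨-, d2⟩ := h0_add (F := k) hT hv
    refine ⟨‹Module.Finite k (Coh.HH P T.X₃ 0)›, ?_⟩
    have key := key_identity (d := d) (r := r) (p := p) (by omega) hd
    have h2 : Module.finrank k (Coh.HH P T.X₂ 0) =
        Nat.choose (r + 1) (p + 1) * Nat.choose ((d : ℤ) - p - 1 + r).toNat r := E.finrank_eq.trans dM
    have h1 : Module.finrank k (Coh.HH P T.X₁ 0) =
        Nat.choose (d + r - (p + 1)) d * Nat.choose (d - 1) (p + 1) := d1
    rw [h2, h1, key, add_comm] at d2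
    exact (Nat.add_left_cancel d2).symm

end Groth.Agent.H17.FLI.Bott
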