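import Groth.Agent.H17.FLI.Stalk
import Groth.Agent.H29Omega.ConormalStalk
import Groth.Prelude.Def_RegImm
import Mathlib.RingTheory.Regular.Flat

/-!
# Regular charts of a regular immersion, read on stalks
-/

set_option autoImplicit false
set_option linter.style.haveILetI false

universe u

open CategoryTheory CategoryTheory.Limits AlgebraicGeometry Opposite TopologicalSpace

namespace Groth.Agent.H17.FLI

theorem Res.regular_of_forall {A : Type u} [CommRing A] : ∀ {c : ℕ} (f : Fin c → A),
    (∀ k : Fin c, IsSMulRegular (A ⧸ Ideal.span (f '' {j | j < k})) (f k)) → Res.Regular f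
  | 0, _, _ => trivial
  | c + 1, f, h => by
    refine ⟨Res.regular_of_forall _ fun k => ?_, ?_⟩
    · have e : (fun i : Fin c => f i.castSucc) '' {j | j < k} = f '' {j | j < k.castSucc} := by
        ext a
        constructor
        · rintro ⟨j, hj, rfl⟩
          exact ⟨j.castSucc, Fin.castSucc_lt_castSucc_iff.2 hj, rfl⟩
        · rintro ⟨j, hj, rfl⟩
          obtain ⟨j', rfl⟩ : ∃ j' : Fin c, j'.castSucc = j :=
            Fin.exists_castSucc_eq.2 (ne_of_lt (lt_of_lt_of_le hj (Fin.le_last _)))
          exact ⟨j', Fin.castSucc_lt_castSucc_iff.1 hj, rfl⟩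
      show IsSMulRegular (A ⧸ Ideal.span ((fun i : Fin c => f i.castSucc) '' {j | j < k})) (f k.castSucc)
      rw [e]
      exact h k.castSucc
    · have e : Set.range (fun i : Fin c => f i.castSucc) = f '' {j | j < Fin.last c} := by
        ext a
        constructor
        · rintro ⟨j, rfl⟩
          exact ⟨j.castSucc, Fin.castSucc_lt_last j, rfl⟩
        · rintro ⟨j, hj, rfl⟩
          obtain ⟨j', rfl⟩ : ∃ j' : Fin c, j'.castSucc = j := Fin.exists_castSucc_eq.2 (ne_of_lt hj)
          exact ⟨j', rfl⟩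
      show IsSMulRegular (A ⧸ Ideal.span (Set.range fun i : Fin c => f i.castSucc)) (f (Fin.last c))
      rw [e]
      exact h (Fin.last c)

theorem Res.regular_of_isWeaklyRegular {A : Type u} [CommRing A] {c : ℕ} (f : Fin c → A)
    (h : RingTheory.Sequence.IsWeaklyRegular A (List.ofFn f)) : Res.Regular f := by
  refine Res.regular_of_forall f fun k => ?_
  have hk : k.1 < (List.ofFn f).length := by simp
  have h' := h.regular_mod_prev k.1 hk
  have e : Ideal.ofList ((List.ofFn f).take k.1) = Ideal.span (f '' {j | j < k}) := by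
    refine congrArg Ideal.span (Set.ext fun a => ?_)
    simp only [Set.mem_setOf_eq, List.mem_take_iff_getElem, List.getElem_ofFn, Set.mem_image]
    constructor
    · rintro ⟨j, hj, rfl⟩
      exact ⟨⟨j, by simp at hj; omega⟩, by simp at hj; exact hj, rfl⟩
    · rintro ⟨j, hj, rfl⟩
      exact ⟨j.1, by simp; exact hj, rfl⟩
  rw [List.getElem_ofFn, e, smul_eq_mul, Ideal.mul_top] at h'
  exact h'

variable {X P : Scheme.{u}} (ι : X ⟶ P) [IsClosedImmersion ι]

/-- Around each point a regular immersion is cut out by a sequence which is regular in every local ring. -/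
theorem exists_chart {r : ℕ} (hι : RegImm.IsRegularImmersionOfCodim RegImm.Kind.regular r ι) (x : X) :
    ∃ U : P.affineOpens, ι.base x ∈ U.1 ∧ ∃ f : Fin r → Γ(P, U.1), (∀ i, f i ∈ ι.ker.ideal U) ∧
      ∀ (y : X) (hy : ι.base y ∈ U.1), Res.Regular (fun i => P.presheaf.germ U.1 (ι.base y) hy (f i)) ∧
        Res.spanOf (fun i => P.presheaf.germ U.1 (ι.base y) hy (f i)) = idI ι y := by
  obtain ⟨U, hx, -, rs, rfl, hreg, hker⟩ := hι.2 x
  have hker' : ι.ker.ideal U = Ideal.ofList rs := by rw [Scheme.Hom.ker_apply]; exact hker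
  refine ⟨U, hx, rs.get, fun i => hker' ▸ Ideal.subset_span (List.get_mem rs i), fun y hy => ?_⟩
  letI := P.presheaf.algebra_section_stalk (⟨ι.base y, hy⟩ : U.1)
  haveI := U.2.isLocalization_stalk ⟨ι.base y, hy⟩
  haveI : Module.Flat Γ(P, U.1) (P.presheaf.stalk (ι.base y)) :=
    IsLocalization.flat _ (U.2.primeIdealOf ⟨ι.base y, hy⟩).asIdeal.primeCompl
  refine ⟨Res.regular_of_isWeaklyRegular _ ?_, ?_⟩
  · have h := (hreg : RingTheory.Sequence.IsRegular Γ(P, U.1) rs).toIsWeaklyRegular.of_flat (S := P.presheaf.stalk (ι.base y))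
    rw [show (fun i => P.presheaf.germ U.1 (ι.base y) hy (rs.get i)) =
        (algebraMap Γ(P, U.1) (P.presheaf.stalk (ι.base y))) ∘ rs.get from rfl, ← List.map_ofFn, List.ofFn_get]
    exact h
  · show _ = RingHom.ker (ι.stalkMap y).hom
    rw [← H29Omega.range_idealStalk_ker ι y, H29Omega.range_idealStalk ι.ker (ι.base y) U hy, hker',
      Ideal.map_ofList]
    refine congrArg Ideal.span (Set.ext fun a => ?_)
    constructor
    · rintro ⟨i, rfl⟩; exact List.mem_map.2 ⟨_, List.get_mem rs i, rfl⟩
    · intro h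
      obtain ⟨b, hb, rfl⟩ := List.mem_map.1 h
      obtain ⟨i, rfl⟩ := List.mem_iff_get.1 hb
      exact ⟨i, rfl⟩

end Groth.Agent.H17.FLI
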