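import Groth.Agent.H17.FLI.Stalk
import Groth.Agent.H29Omega.ConormalStalk
import Mathlib.LinearAlgebra.Determinant

/-!
# The pairing at a point
-/

set_option autoImplicit false
set_option linter.style.haveILetI false
set_option linter.unusedSectionVars false
set_option synthInstance.maxHeartbeats 400000
set_option maxHeartbeats 1000000
set_option backward.isDefEq.respectTransparency false

universe u

open CategoryTheory CategoryTheory.Limits AlgebraicGeometry Opposite TopologicalSpace
open Groth.Agent.H10Inj.SheafExt Groth.Agent.H16Derived.ProjFormula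

namespace Groth.Agent.H17.FLI

/-- One division step. -/
theorem Res.op_d {A : Type u} [CommRing A] {R : Res A} {c : ℕ} {f : Fin (c + 1) → A} (h : ∀ i, R.Hmt (f i))
    {v : R.K c} (hv : v ∈ R.divS (Res.spanOf fun i : Fin c => f i.castSucc) (f (Fin.last c)) c) :
    Res.op h (R.d c v) = Res.op (fun i : Fin c => h i.castSucc) (f (Fin.last c) • v) := by
  rw [Res.op_succ]
  refine Res.op_eq_of_bd (I := Res.spanOf fun i : Fin c => f i.castSucc) _ (fun i => Ideal.subset_span ⟨i, rfl⟩) ?_
  cases c with
  | zero => show _ = 0; rw [(h (Fin.last 0)).h_zero, sub_self]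
  | succ c =>
    refine ⟨-(h (Fin.last (c + 1))).h c v, (hv.1.map _).neg, ?_⟩
    rw [map_neg, ← (h (Fin.last (c + 1))).h_succ c v]; abel

variable {X P : Scheme.{u}} (ι : X ⟶ P) [IsClosedImmersion ι] [IsLocallyNoetherian P] (x : X) (r : ℕ)
  {M : X.Modules} (J : InjectiveResolution ((push ι).obj M)) (hFP : CohB1.IsFP (O' ι))

/-- The stalk of `M` inside the resolution. -/
noncomputable def val (m : M.presheaf.stalk x) : (stalkRes J (ι.base x)).K 0 :=
  (DerSch.stalkFunctor P (ι.base x)).map (J.ι.f 0) (Function.surjInv (pushStalk_bijective ι M x).2 m)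

theorem val_pushStalk (n : ((push ι).obj M).presheaf.stalk (ι.base x)) :
    val ι x J (pushStalk ι M x n) = (DerSch.stalkFunctor P (ι.base x)).map (J.ι.f 0) n :=
  congrArg _ ((pushStalk_bijective ι M x).1 (Function.surjInv_eq (pushStalk_bijective ι M x).2 _))

theorem val_injective : Function.Injective (val ι x J) := by
  intro a b h
  haveI : Mono ((DerSch.stalkFunctor P (ι.base x)).map (J.ι.f 0)) := inferInstance
  have h' := (ModuleCat.mono_iff_injective _).1 ‹Mono ((DerSch.stalkFunctor P (ι.base x)).map (J.ι.f 0))› h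
  have h'' : Function.surjInv (pushStalk_bijective ι M x).2 a = Function.surjInv (pushStalk_bijective ι M x).2 b := h'
  exact (Function.surjInv_eq (pushStalk_bijective ι M x).2 a).symm.trans
    ((congrArg (pushStalk ι M x) h'').trans (Function.surjInv_eq (pushStalk_bijective ι M x).2 b))

theorem val_add (a b : M.presheaf.stalk x) : val ι x J (a + b) = val ι x J a + val ι x J b := by
  obtain ⟨a, rfl⟩ := (pushStalk_bijective ι M x).2 a
  obtain ⟨b, rfl⟩ := (pushStalk_bijective ι M x).2 b
  rw [← map_add, val_pushStalk, val_pushStalk, val_pushStalk]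
  exact map_add ((DerSch.stalkFunctor P (ι.base x)).map (J.ι.f 0)).hom a b

theorem val_smul (a : P.presheaf.stalk (ι.base x)) (m : M.presheaf.stalk x) :
    val ι x J ((ι.stalkMap x).hom a • m) = a • val ι x J m := by
  obtain ⟨n, rfl⟩ := (pushStalk_bijective ι M x).2 m
  rw [← pushStalk_smul, val_pushStalk, val_pushStalk]
  exact map_smul ((DerSch.stalkFunctor P (ι.base x)).map (J.ι.f 0)).hom a n

theorem d_val (m : M.presheaf.stalk x) : (stalkRes J (ι.base x)).d 0 (val ι x J m) = 0 := by
  show (DerSch.stalkFunctor P (ι.base x)).map (J.cocomplex.d 0 1) _ = 0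
  erw [stalkLin_map_comp]
  rw [J.ι_f_zero_comp_complex_d, Functor.map_zero]
  rfl

theorem exists_val {n : (stalkRes J (ι.base x)).K 0} (hn : (stalkRes J (ι.base x)).d 0 n = 0) :
    ∃ m, val ι x J m = n := by
  have h : (ShortComplex.mk (J.ι.f 0) (J.cocomplex.d 0 1) J.ι_f_zero_comp_complex_d).Exact :=
    ShortComplex.exact_of_f_is_kernel _ J.isLimitKernelFork
  have h' := h.map (DerSch.stalkFunctor P (ι.base x))
  rw [ShortComplex.moduleCat_exact_iff] at h'
  obtain ⟨b, hb⟩ := h' n hn
  exact ⟨pushStalk ι M x b, (val_pushStalk ι x J b).trans hb⟩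

theorem smul_ker_d {a : P.presheaf.stalk (ι.base x)} (ha : a ∈ idI ι x) (n : (stalkRes J (ι.base x)).K 0)
    (hn : (stalkRes J (ι.base x)).d 0 n = 0) : a • n = 0 := by
  obtain ⟨m, rfl⟩ := exists_val ι x J hn
  obtain ⟨b, rfl⟩ := (pushStalk_bijective ι M x).2 m
  rw [← val_smul, ← pushStalk_smul, val_pushStalk,
    show a • b = 0 from (killed_push ι M).smul_eq_zero x a ha b]
  exact map_zero _

/-- A homotopy for each element of the ideal. -/
noncomputable def hm (a : idI ι x) : (stalkRes J (ι.base x)).Hmt (a : P.presheaf.stalk (ι.base x)) :=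
  ((stalkRes J (ι.base x)).nonempty_hmt _ (fun n hn => smul_ker_d ι x J a.2 n hn)).some

theorem op_exists_val {f : Fin r → idI ι x} (h : ((homCx ι J).homology r).presheaf.stalk (ι.base x)) :
    ∃ m, val ι x J m = Res.op (fun i => hm ι x J (f i)) (exists_rep ι x J h).choose :=
  exists_val ι x J (Res.op_mem (I := idI ι x) _ (fun i => (f i).2) (rep_zc ι x J (exists_rep ι x J h).choose_spec)).1

/-- The pairing on tuples of elements of the ideal. -/
noncomputable def opF (h : ((homCx ι J).homology r).presheaf.stalk (ι.base x)) (f : Fin r → idI ι x) :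
    M.presheaf.stalk x :=
  (op_exists_val ι x r J (f := f) h).choose

include hFP in
theorem opF_spec {h : ((homCx ι J).homology r).presheaf.stalk (ι.base x)} {z} (hz : Rep ι x J r h z)
    {f : Fin r → idI ι x} {g : Fin r → P.presheaf.stalk (ι.base x)} (hg : g = fun i => (f i).1)
    (H : ∀ i, (stalkRes J (ι.base x)).Hmt (g i)) :
    val ι x J (opF ι x r J h f) = Res.op H z := by
  refine ((op_exists_val ι x r J (f := f) h).choose_spec).trans ?_
  have h0 := (exists_rep ι x J h).choose_spec
  have hI : ∀ i, g i ∈ idI ι x := fun i => hg ▸ (f i).2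
  have hbd : (stalkRes J (ι.base x)).Bd (idI ι x) r ((exists_rep ι x J h).choose - z) := by
    rw [← rep_zero_iff ι x hFP J]
    have h2 := rep_add ι x J h0 (rep_smul ι x J (-1) hz)
    simpa [sub_eq_add_neg] using h2
  refine (Res.op_eq_of_bd _ (fun i => (f i).2) hbd).trans ?_
  exact Res.op_congr _ _ hg.symm (fun i => (f i).2) (rep_zc ι x J hz)

include hFP in
theorem opF_add (h h' : ((homCx ι J).homology r).presheaf.stalk (ι.base x)) (f : Fin r → idI ι x) :
    opF ι x r J (h + h') f = opF ι x r J h f + opF ι x r J h' f := by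
  obtain ⟨z, hz⟩ := exists_rep ι x J h
  obtain ⟨z', hz'⟩ := exists_rep ι x J h'
  apply val_injective ι x J
  rw [val_add, opF_spec ι x r J hFP (rep_add ι x J hz hz') rfl (fun i => hm ι x J (f i)),
    opF_spec ι x r J hFP hz rfl (fun i => hm ι x J (f i)), opF_spec ι x r J hFP hz' rfl (fun i => hm ι x J (f i)),
    map_add]

include hFP in
theorem opF_smul (a : P.presheaf.stalk (ι.base x)) (h : ((homCx ι J).homology r).presheaf.stalk (ι.base x))
    (f : Fin r → idI ι x) : opF ι x r J (a • h) f = (ι.stalkMap x).hom a • opF ι x r J h f := by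
  obtain ⟨z, hz⟩ := exists_rep ι x J h
  apply val_injective ι x J
  rw [val_smul, opF_spec ι x r J hFP (rep_smul ι x J a hz) rfl (fun i => hm ι x J (f i)),
    opF_spec ι x r J hFP hz rfl (fun i => hm ι x J (f i)), map_smul]

include hFP in
theorem opF_update_add (h : ((homCx ι J).homology r).presheaf.stalk (ι.base x)) (f : Fin r → idI ι x) (i : Fin r)
    (a b : idI ι x) : opF ι x r J h (Function.update f i (a + b)) =
      opF ι x r J h (Function.update f i a) + opF ι x r J h (Function.update f i b) := by
  obtain ⟨z, hz⟩ := exists_rep ι x J h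
  apply val_injective ι x J
  rw [val_add, opF_spec ι x r J hFP hz rfl (fun j => hm ι x J (Function.update f i (a + b) j)),
    opF_spec ι x r J hFP hz rfl (fun j => hm ι x J (Function.update f i a j)),
    opF_spec ι x r J hFP hz rfl (fun j => hm ι x J (Function.update f i b j))]
  refine Res.op_update_add (fun j => (f j).1) i a.1 b.1 _ _ _ ?_ ?_ ?_
    (fun j => (Function.update f i a j).2) (fun j => (Function.update f i b j).2) (rep_zc ι x J hz) <;>
  · funext j
    rcases eq_or_ne j i with rfl | hj
    · simp
    · simp [hj]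

include hFP in
theorem opF_update_smul (h : ((homCx ι J).homology r).presheaf.stalk (ι.base x)) (f : Fin r → idI ι x) (i : Fin r)
    (t : P.presheaf.stalk (ι.base x)) (a : idI ι x) : opF ι x r J h (Function.update f i (t • a)) =
      (ι.stalkMap x).hom t • opF ι x r J h (Function.update f i a) := by
  obtain ⟨z, hz⟩ := exists_rep ι x J h
  apply val_injective ι x J
  rw [val_smul, opF_spec ι x r J hFP hz rfl (fun j => hm ι x J (Function.update f i (t • a) j)),
    opF_spec ι x r J hFP hz rfl (fun j => hm ι x J (Function.update f i a j))]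
  refine Res.op_update_smul (fun j => (f j).1) i t a.1 _ _ ?_ ?_ (fun j => (Function.update f i a j).2)
    (rep_zc ι x J hz) <;>
  · funext j
    rcases eq_or_ne j i with rfl | hj
    · simp
    · simp [hj]

include hFP in
theorem opF_eq_zero_of_eq (h : ((homCx ι J).homology r).presheaf.stalk (ι.base x)) (f : Fin r → idI ι x)
    (i j : Fin r) (e : f i = f j) (hij : i ≠ j) : opF ι x r J h f = 0 := by
  obtain ⟨z, hz⟩ := exists_rep ι x J h
  apply val_injective ι x J
  have h0 : val ι x J (0 : M.presheaf.stalk x) = 0 := by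
    rw [← map_zero (pushStalk ι M x), val_pushStalk]; exact map_zero _
  rw [h0, opF_spec ι x r J hFP hz rfl (fun j => hm ι x J (f j))]
  rcases lt_or_gt_of_ne hij with hlt | hlt
  · exact Res.op_eq_zero_of_eq _ i j hlt (congrArg Subtype.val e) (fun i => (f i).2) (rep_zc ι x J hz)
  · exact Res.op_eq_zero_of_eq _ j i hlt (congrArg Subtype.val e.symm) (fun i => (f i).2) (rep_zc ι x J hz)

theorem cgen_surjective : Function.Surjective (H29Omega.cgen ι x) := by
  intro c
  have hc : c ∈ Submodule.span (X.presheaf.stalk x) (Set.range (H29Omega.cgen ι x)) := by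
    rw [H29Omega.span_cgen]; trivial
  induction hc using Submodule.span_induction with
  | mem c hc => exact hc
  | zero => exact ⟨0, map_zero _⟩
  | add a b _ _ ha hb =>
    obtain ⟨a', rfl⟩ := ha
    obtain ⟨b', rfl⟩ := hb
    exact ⟨a' + b', map_add _ a' b'⟩
  | smul t a _ ha =>
    obtain ⟨a', rfl⟩ := ha
    obtain ⟨s, rfl⟩ := stalkMap_surj ι x t
    exact ⟨s • a', H29Omega.cgen_smul ι x s a'⟩

include hFP in
theorem opF_congr (h : ((homCx ι J).homology r).presheaf.stalk (ι.base x)) (f g : Fin r → idI ι x)
    (e : ∀ i, H29Omega.cgen ι x (f i) = H29Omega.cgen ι x (g i)) : opF ι x r J h f = opF ι x r J h g := by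
  classical
  have one : ∀ (F : Fin r → idI ι x) (i : Fin r) (a b : idI ι x), H29Omega.cgen ι x a = H29Omega.cgen ι x b →
      opF ι x r J h (Function.update F i a) = opF ι x r J h (Function.update F i b) := by
    intro F i a b hab
    obtain ⟨l, hl⟩ := H29Omega.exists_lift_cgen ι x
      (AddMonoidHom.mk' (fun a => opF ι x r J h (Function.update F i a)) (opF_update_add ι x r J hFP h F i))
      (fun t a => opF_update_smul ι x r J hFP h F i t a)
    exact (hl a).symm.trans ((congrArg l hab).trans (hl b))
  have main : ∀ (s : Finset (Fin r)), opF ι x r J h (fun j => if j ∈ s then g j else f j) = opF ι x r J h f := by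
    intro s
    induction s using Finset.induction_on with
    | empty => simp
    | @insert i s hi ih =>
      rw [← ih]
      have e1 : (fun j => if j ∈ insert i s then g j else f j) =
          Function.update (fun j => if j ∈ s then g j else f j) i (g i) := by
        funext j
        rcases eq_or_ne j i with rfl | hj
        · simp
        · simp [hj]
      rw [e1, one _ i (g i) (f i) (e i).symm]
      congr 1
      funext j
      rcases eq_or_ne j i with rfl | hj
      · simp [hi]
      · simp [hj]
  simpa using (main Finset.univ).symm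

/-- The pairing with conormal classes. -/
noncomputable def psiFun (h : ((homCx ι J).homology r).presheaf.stalk (ι.base x))
    (c : Fin r → (Omega.conormal ι).presheaf.stalk x) : M.presheaf.stalk x :=
  opF ι x r J h fun i => Function.surjInv (cgen_surjective ι x) (c i)

include hFP in
theorem psiFun_cgen (h : ((homCx ι J).homology r).presheaf.stalk (ι.base x)) (f : Fin r → idI ι x) :
    psiFun ι x r J h (fun i => H29Omega.cgen ι x (f i)) = opF ι x r J h f :=
  opF_congr ι x r J hFP h _ _ fun _ => Function.surjInv_eq (cgen_surjective ι x) _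

/-- The alternating pairing with conormal classes. -/
noncomputable def psi (h : ((homCx ι J).homology r).presheaf.stalk (ι.base x)) :
    (Omega.conormal ι).presheaf.stalk x [⋀^Fin r]→ₗ[X.presheaf.stalk x] M.presheaf.stalk x where
  toFun := psiFun ι x r J h
  map_update_add' {_} c i a b := by
    obtain ⟨f, rfl⟩ := (cgen_surjective ι x).comp_left c
    obtain ⟨a, rfl⟩ := cgen_surjective ι x a
    obtain ⟨b, rfl⟩ := cgen_surjective ι x b
    rw [← map_add, ← Function.comp_update, ← Function.comp_update, ← Function.comp_update]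
    simp only [Function.comp_def, psiFun_cgen ι x r J hFP]
    convert opF_update_add ι x r J hFP h f i a b
  map_update_smul' {_} c i t a := by
    obtain ⟨f, rfl⟩ := (cgen_surjective ι x).comp_left c
    obtain ⟨a, rfl⟩ := cgen_surjective ι x a
    obtain ⟨t, rfl⟩ := stalkMap_surj ι x t
    rw [← H29Omega.cgen_smul, ← Function.comp_update, ← Function.comp_update]
    simp only [Function.comp_def, psiFun_cgen ι x r J hFP]
    convert opF_update_smul ι x r J hFP h f i t a
  map_eq_zero_of_eq' c i j e hij := by
    have e' : Function.surjInv (cgen_surjective ι x) (c i) = Function.surjInv (cgen_surjective ι x) (c j) := by rw [e]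
    exact opF_eq_zero_of_eq ι x r J hFP h _ i j e' hij

theorem psi_cgen (h : ((homCx ι J).homology r).presheaf.stalk (ι.base x)) (f : Fin r → idI ι x) :
    psi ι x r J hFP h (fun i => H29Omega.cgen ι x (f i)) = opF ι x r J h f :=
  psiFun_cgen ι x r J hFP h f

theorem psi_add (h h' : ((homCx ι J).homology r).presheaf.stalk (ι.base x)) :
    psi ι x r J hFP (h + h') = psi ι x r J hFP h + psi ι x r J hFP h' :=
  AlternatingMap.ext fun _ => opF_add ι x r J hFP h h' _

theorem psi_smul (a : P.presheaf.stalk (ι.base x)) (h : ((homCx ι J).homology r).presheaf.stalk (ι.base x)) :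
    psi ι x r J hFP (a • h) = (ι.stalkMap x).hom a • psi ι x r J hFP h :=
  AlternatingMap.ext fun _ => opF_smul ι x r J hFP a h _

/-- At a point where the ideal is generated by a regular sequence, the value at it is bijective. -/
theorem psi_bijective (f : Fin r → idI ι x) (hreg : Res.Regular fun i => (f i).1)
    (hspan : Res.spanOf (fun i => (f i).1) = idI ι x) :
    Function.Bijective fun h => psi ι x r J hFP h (fun i => H29Omega.cgen ι x (f i)) := by
  have hN : ∀ n, (stalkRes J (ι.base x)).d 0 n = 0 → ∀ i, (f i).1 • n = 0 :=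
    fun n hn i => smul_ker_d ι x J (f i).2 n hn
  obtain ⟨-, hb⟩ := Res.main (fun i => (f i).1) hreg hN
  obtain ⟨hs, hi⟩ := hb fun i => hm ι x J (f i)
  simp only [psi_cgen]
  constructor
  · intro h h' e
    obtain ⟨z, hz⟩ := exists_rep ι x J h
    obtain ⟨z', hz'⟩ := exists_rep ι x J h'
    have hsub : Rep ι x J r (h - h') (z - z') := by
      simpa [sub_eq_add_neg] using rep_add ι x J hz (rep_smul ι x J (-1) hz')
    have h1 := hi (z - z') (hspan.symm ▸ rep_zc ι x J hsub) (by
      rw [map_sub, ← opF_spec ι x r J hFP hz rfl, ← opF_spec ι x r J hFP hz' rfl,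
        show opF ι x r J h f = opF ι x r J h' f from e, sub_self])
    rw [hspan, ← rep_zero_iff ι x hFP J] at h1
    obtain ⟨c, hc, hc'⟩ := h1
    obtain ⟨c', hc1, hc1'⟩ := hsub
    have : c = c' := iCycles_stalk_injective ι x J r (evOne_injective ι x hFP _ (hc'.trans hc1'.symm))
    exact sub_eq_zero.1 (hc1.symm.trans ((congrArg _ this.symm).trans hc))
  · intro m
    obtain ⟨z, hz, e⟩ := hs (val ι x J m) (d_val ι x J m)
    rw [hspan] at hz
    obtain ⟨h, hh⟩ := exists_rep_of_zc ι x hFP J hz
    exact ⟨h, val_injective ι x J (by rw [← e, opF_spec ι x r J hFP hh rfl])⟩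

end Groth.Agent.H17.FLI
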