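import Groth.Agent.H17.FLI.DetSES
import Groth.Agent.H17.FLI.Chart
import Groth.Agent.H17.FLI.Pairing
import Groth.Agent.H17.RegQuasi
import Groth.Agent.H17.Conormal.DiffSeq
import Groth.Agent.H17.PrinOmega
import Groth.Agent.H06Unram.ConormalRank
import Groth.Agent.H29Ref.ConormalQReg
import Groth.Agent.H8Props.AlgSpLci.Lci
import Groth.Agent.H8Props.FieldDimSmooth
import Groth.Agent.H8Props.FormallySmoothScheme
import Groth.Agent.H26Def.LiftExist
import Groth.Agent.H28RR.Omega
import Groth.Agent.S8656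
import Groth.Agent.S8905
import Groth.Agent.S5020
import Groth.Agent.S9370
import Groth.Agent.H15Site.Invertible
import Groth.Agent.H11Sym.InvertibleInverse
import Groth.Agent.H11Ample.UnitIso
import Groth.Agent.H10Inj.SheafExt.HomFunctor

/-!
# Adjunction for a smooth closed subscheme of a smooth scheme
-/

set_option autoImplicit false
set_option linter.style.haveILetI false
set_option backward.isDefEq.respectTransparency false
set_option synthInstance.maxHeartbeats 400000
set_option maxHeartbeats 1000000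

universe u

open CategoryTheory CategoryTheory.Limits AlgebraicGeometry Opposite TopologicalSpace

namespace Groth.Agent.H17.FLI

/-- Quasi-regular equations give independent conormal classes at a point. -/
theorem linearIndependent_cgen {X P : Scheme.{u}} (ι : X ⟶ P) [IsClosedImmersion ι] (x : X) {d : ℕ}
    (f : Fin d → idI ι x) (hq : CAlgX.IsQuasiRegular fun i => (f i).1)
    (hspan : Ideal.span (Set.range fun i => (f i).1) = idI ι x) :
    LinearIndependent (X.presheaf.stalk x) fun i => H29Omega.cgen ι x (f i) := by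
  obtain ⟨hli, -⟩ := H06QR.cotangent_basis hq hspan f fun i => rfl
  rw [Fintype.linearIndependent_iff] at hli ⊢
  intro c hc k
  choose a ha using fun k => stalkMap_surj ι x (c k)
  have h0 : H29Omega.cgen ι x (∑ i, a i • f i) = 0 := by
    rw [map_sum]
    refine Eq.trans (Finset.sum_congr rfl fun i _ => ?_) hc
    rw [H29Omega.cgen_smul, ha i]
  have h1 : (idI ι x).toCotangent (∑ i, a i • f i) = 0 :=
    (Ideal.toCotangent_eq_zero _ _).2 (H17.Conormal.mem_sq_of_cgen_eq_zero ι x _ h0)
  rw [map_sum] at h1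
  have h2 := hli (fun i => Ideal.Quotient.mk (idI ι x) (a i)) (Eq.trans (Finset.sum_congr rfl fun i _ => by
    rw [map_smul]
    exact algebraMap_smul (P.presheaf.stalk (ι.base x) ⧸ idI ι x) (a i) _) h1) k
  rw [← ha k]
  exact RingHom.mem_ker.1 (Ideal.Quotient.eq_zero_iff_mem.1 h2)

theorem isFinLocFree_of_rank {X : Scheme.{u}} {M : X.Modules} {n : ℕ} (h : FlatMod.IsFinLocFreeOfRank n M) :
    FlatMod.IsFinLocFree M := fun x => by
  obtain ⟨U, hx, hU⟩ := h x
  exact ⟨U, n, hx, hU⟩

variable {S P X : Scheme.{u}} [IsLocallyNoetherian S] (g : P ⟶ S) (f : X ⟶ S) (ι : X ⟶ P) [IsClosedImmersion ι]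
  (hι : ι ≫ g = f) (n r : ℕ) [SmoothOfRelativeDimension n g] [SmoothOfRelativeDimension r f]

include g f hι in
/-- A smooth closed subscheme of a smooth scheme is regularly immersed, with locally free conormal sheaf. -/
theorem regImm_of_smooth :
    RegImm.IsRegularImmersionOfCodim RegImm.Kind.regular (n - r) ι ∧
      FlatMod.IsFinLocFreeOfRank (n - r) (Omega.conormal ι) ∧ (Nonempty X → r ≤ n) := by
  haveI : Smooth g := SmoothOfRelativeDimension.smooth n _
  haveI : Smooth f := SmoothOfRelativeDimension.smooth r _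
  haveI : IsLocallyNoetherian P := LocallyOfFiniteType.isLocallyNoetherian g
  haveI hsm : Smooth (ι ≫ g) := hι ▸ ‹Smooth f›
  have hfs : MoreMor.IsFormallySmoothHom (ι ≫ g) :=
    (H8Props.FormallySmoothScheme.isFormallySmoothHom_iff (ι ≫ g)).mpr fun U V hU hV hUV =>
      RingHom.Smooth.formallySmooth ((ι ≫ g).smooth_appLE hV hU hUV)
  have hk : RegImm.IsRegularImmersion .koszul ι :=
    S8656.result (ι ≫ g) (fun z => H8Props.AlgSpLci.isKoszulAt_of_smooth (ι ≫ g) z) g ι rfl
  have hq : RegImm.IsRegularImmersion .quasi ι := (S8905.result ι).2.2 ((S8905.result ι).2.1 hk)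
  have hlf := H29Ref.ConormalQReg.isFinLocFree_conormal_of_quasi ι hq.2
  have hrk : ∀ (x : X) (m : ℕ)
      (_ : Module.Basis (Fin m) (X.presheaf.stalk x) ((Omega.conormal ι).presheaf.stalk x)), n = r + m := by
    intro x m bc
    have h := H06Unram.ConormalRank.finrank_conormal g ι hfs x bc
    rw [H8Props.FieldDim.fibreDimAt_of_smoothOfRelativeDimension g n,
      show FlatMor.fibreDimAt (ι ≫ g) x = (r : WithBot ℕ∞) by
        subst hι; exact H8Props.FieldDim.fibreDimAt_of_smoothOfRelativeDimension (ι ≫ g) r x] at h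
    exact_mod_cast h
  have hbasis : ∀ (x : X) (U : X.Opens) (m : ℕ), x ∈ U →
      Nonempty ((Omega.conormal ι).restrict U.ι ≅ FlatMod.freeMod (↑U) m) →
      Nonempty (Module.Basis (Fin m) (X.presheaf.stalk x) ((Omega.conormal ι).presheaf.stalk x)) := by
    intro x U m hxU ⟨e⟩
    obtain ⟨V, hV, hxV, hle⟩ := exists_isAffineOpen_mem_and_subset (x := x) (U := U) hxU
    obtain ⟨b⟩ := H8Props.FinLocFree.exists_basis_of_chart _ e hle
    exact H22Alg.ExtPowSum.exists_stalkBasis (H8Props.FinLocFree.isQCoh_of_isFinLocFree _ hlf) hV b hxV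
  refine ⟨⟨inferInstance, fun z => ?_⟩, fun x => ?_, fun ⟨x⟩ => ?_⟩
  · obtain ⟨U, hzU, hcl, rs, hrs, hker⟩ := H17.RegQuasi.regularImmersionAt_of_quasi ι z (hq.2 z)
    refine ⟨U, hzU, hcl, rs, ?_, hrs, hker⟩
    haveI := U.2.isLocalization_stalk ⟨ι.base z, hzU⟩
    letI := P.presheaf.algebra_section_stalk (⟨ι.base z, hzU⟩ : U.1)
    haveI : Module.Flat Γ(P, U.1) (P.presheaf.stalk (ι.base z)) :=
      IsLocalization.flat _ (U.2.primeIdealOf ⟨ι.base z, hzU⟩).asIdeal.primeCompl
    let φ := algebraMap Γ(P, U.1) (P.presheaf.stalk (ι.base z))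
    let gv : Fin rs.length → P.presheaf.stalk (ι.base z) := fun i => φ (rs.get i)
    have hspan : Ideal.span (Set.range gv) = idI ι z := by
      show _ = RingHom.ker (ι.stalkMap z).hom
      rw [← H29Omega.range_idealStalk_ker ι z, H29Omega.range_idealStalk ι.ker (ι.base z) U hzU,
        show ι.ker.ideal U = Ideal.ofList rs by rw [Scheme.Hom.ker_apply]; exact hker, Ideal.map_ofList]
      refine congrArg Ideal.span (Set.ext fun a => ⟨?_, fun h => ?_⟩)
      · rintro ⟨i, rfl⟩; exact List.mem_map.2 ⟨_, List.get_mem rs i, rfl⟩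
      · obtain ⟨b, hb, rfl⟩ := List.mem_map.1 h
        obtain ⟨i, rfl⟩ := List.mem_iff_get.1 hb
        exact ⟨i, rfl⟩
    have hqr : CAlgX.IsQuasiRegular gv := by
      refine H06QR.Regular.isQuasiRegular_of_isWeaklyRegular gv ?_
      rw [show gv = φ ∘ rs.get from rfl, ← List.map_ofFn, List.ofFn_get]
      exact (hrs : RingTheory.Sequence.IsRegular Γ(P, U.1) rs).toIsWeaklyRegular.of_flat
    let fv : Fin rs.length → idI ι z := fun i => ⟨gv i, hspan ▸ Ideal.subset_span ⟨i, rfl⟩⟩
    let b : Module.Basis (Fin rs.length) (X.presheaf.stalk z) ((Omega.conormal ι).presheaf.stalk z) :=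
      Module.Basis.mk (linearIndependent_cgen ι z fv hqr hspan) (by
        rintro v -
        obtain ⟨a, rfl⟩ := cgen_surjective ι z v
        have hmem : a.1 ∈ Ideal.span (Set.range gv) := hspan.symm ▸ a.2
        obtain ⟨c, hc⟩ := Ideal.mem_span_range_iff_exists_fun.1 hmem
        rw [show a = ∑ k, c k • fv k from
          Subtype.ext (hc.symm.trans (by rw [AddSubmonoidClass.coe_finsetSum]; rfl)), map_sum]
        refine Submodule.sum_mem _ fun k _ => ?_
        rw [H29Omega.cgen_smul]
        exact Submodule.smul_mem _ _ (Submodule.subset_span ⟨k, rfl⟩))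
    have := hrk z _ b
    omega
  · obtain ⟨U, m, hxU, he⟩ := hlf x
    obtain ⟨bc⟩ := hbasis x U m hxU he
    have := hrk x m bc
    obtain rfl : m = n - r := by omega
    exact ⟨U, hxU, he⟩
  · obtain ⟨U, m, hxU, he⟩ := hlf x
    obtain ⟨bc⟩ := hbasis x U m hxU he
    have := hrk x m bc
    omega

include g f hι in
/-- The conormal sequence of a smooth closed subscheme is short exact. -/
theorem exists_conormal_ses (r : ℕ) [SmoothOfRelativeDimension r f] [QuasiSeparated g] [QuasiSeparated f] :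
    ∃ (φ : Omega.conormal ι ⟶ (Scheme.Modules.pullback ι).obj (Omega.sheaf g))
      (c : (Scheme.Modules.pullback ι).obj (Omega.sheaf g) ⟶ Omega.sheaf f) (w : φ ≫ c = 0),
      (ShortComplex.mk φ c w).ShortExact := by
  haveI : Smooth f := SmoothOfRelativeDimension.smooth r f
  subst hι
  have hfs : MoreMor.IsFormallySmoothHom (ι ≫ g) :=
    (H8Props.FormallySmoothScheme.isFormallySmoothHom_iff (ι ≫ g)).mpr fun U V hU hV hUV =>
      RingHom.Smooth.formallySmooth ((ι ≫ g).smooth_appLE hV hU hUV)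
  have hY := H17.PrinOmega.isUniversal_dOmega g
  have hX := H17.PrinOmega.isUniversal_dOmega (ι ≫ g)
  obtain ⟨φ, hφ⟩ := H26Def.exists_isConormalDiff ι (OmegaSh.dOmega g)
  obtain ⟨c, hc, -⟩ := S9370.result g (ι ≫ g) ι (𝟙 S) (Category.comp_id _) _ (OmegaSh.dOmega g) hY _
    (OmegaSh.dOmega (ι ≫ g)) hX
  obtain ⟨w, hex, hepi⟩ := H17.Conormal.exact_conormalDiffSeq g ι hY hX hφ hc
  haveI := S5020.result ι g hfs _ _ hY φ hφ
  haveI : Epi c := hepi
  exact ⟨φ, c, w, { exact := hex }⟩

include g f hι in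
/-- Adjunction. -/
theorem nonempty_adjunction_iso [QuasiSeparated g] [QuasiSeparated f]
    {ΩP : P.Modules} (hΩP : ExtPow.IsExtPow n (Omega.sheaf g) ΩP)
    {ΩX : X.Modules} (hΩX : ExtPow.IsExtPow r (Omega.sheaf f) ΩX)
    {L : X.Modules} (hL : ExtPow.IsExtPow (n - r) (Omega.conormal ι) L) [Nonempty X] :
    Nonempty (CohB1.tensorMod L ΩX ≅ (Scheme.Modules.pullback ι).obj ΩP) := by
  obtain ⟨-, hrk, hle⟩ := regImm_of_smooth g f ι hι n r
  have hle := hle inferInstance
  obtain ⟨φ, c, w, hS⟩ := exists_conormal_ses g f ι hι r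
  have hq : Coh.IsQCoh (Omega.sheaf g) := H29Omega.isQCoh_sheaf g
  exact DetSES.nonempty_iso (LA := L) (LC := ΩX) (LB := (Scheme.Modules.pullback ι).obj ΩP)
    (finSumFinEquiv.trans (finCongr (by omega))) hS hrk (H29Fitt.isQCoh_pullback ι _ hq)
    (H28RR.isFinLocFreeOfRank_omega f r) hL (H22Alg.ExtPowHom.isExtPow_pullback ι hq hΩP) hΩX

end Groth.Agent.H17.FLI

namespace Groth.Agent.H17.FLI

open H10Inj.SheafExt

/-- Tensoring with an invertible module is inverse to homomorphisms out of it. -/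
theorem nonempty_homSh_tensor_iso {X : Scheme.{u}} {L : X.Modules} (hL : PicF.IsInvertible L) (M : X.Modules) :
    Nonempty (RefHull.homSh L (CohB1.tensorMod L M) ≅ M) := by
  obtain ⟨L', -, ⟨e⟩⟩ := H11Sym.exists_inverse hL
  haveI : ((DCoh.tensorBi (X := X)).obj L).IsEquivalence :=
    H15Site.Invertible.isEquivalence_of_iso_unit (O := X.sheaf) (L := L) (N := L')
      (H11Ample.tensorCommIso L L' ≪≫ e)
  haveI : IsIso (homAdj L).unit := inferInstance
  exact ⟨((asIso (homAdj L).unit).app M).symm⟩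

end Groth.Agent.H17.FLI
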