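import Groth.Agent.H17.FLI.Main
import Groth.Agent.H17.FLI.Adjunction

/-!
# Top forms of a smooth closed subscheme as an Ext sheaf
-/

set_option autoImplicit false
set_option linter.style.haveILetI false
set_option backward.isDefEq.respectTransparency false
set_option synthInstance.maxHeartbeats 400000
set_option maxHeartbeats 1000000

universe u

open CategoryTheory CategoryTheory.Limits AlgebraicGeometry Opposite TopologicalSpace
open Groth.Agent.H10Inj.SheafExt Groth.Agent.H16Derived.ProjFormula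

namespace Groth.Agent.H17.FLI

variable {S P X : Scheme.{u}} [IsLocallyNoetherian S] [IsLocallyNoetherian P] [IsLocallyNoetherian X]
  (g : P ⟶ S) (f : X ⟶ S) (ι : X ⟶ P) [IsClosedImmersion ι]
  (hι : ι ≫ g = f) (n r : ℕ) [SmoothOfRelativeDimension n g] [SmoothOfRelativeDimension r f]

theorem isInvertible_extPow {X : Scheme.{u}} {c : ℕ} {E L : X.Modules} (hE : FlatMod.IsFinLocFreeOfRank c E)
    (hL : ExtPow.IsExtPow c E L) : FlatMod.IsFinLocFreeOfRank 1 L := fun x => by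
  have hE' := isFinLocFree_of_rank hE
  obtain ⟨U, m, hxU, ⟨e⟩⟩ := H22Alg.ExtPowHom.finLocFree_of_isExtPow hE' hL x
  obtain ⟨UE, hxE, ⟨eE⟩⟩ := hE x
  obtain ⟨V, hV, hxV, hle⟩ := exists_isAffineOpen_mem_and_subset (x := x) (U := U ⊓ UE) ⟨hxU, hxE⟩
  obtain ⟨bE⟩ := H8Props.FinLocFree.exists_basis_of_chart E eE (fun y hy => (hle hy).2)
  obtain ⟨bL⟩ := H8Props.FinLocFree.exists_basis_of_chart L e (fun y hy => (hle hy).1)
  obtain ⟨φ, -⟩ := hL
  let φ' : Γ(L, V) ≃ₗ[Γ(X, V)] ↥(⋀[Γ(X, V)]^c Γ(E, V)) := φ ⟨V, hV⟩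
  let b1 : Module.Basis Unit Γ(X, V) Γ(L, V) :=
    ((Module.Basis.singleton Unit Γ(X, V)).map (DetSES.topEquiv bE)).map φ'.symm
  haveI : Nontrivial Γ(X, V) := (X.presheaf.germ V x hxV).hom.domain_nontrivial
  obtain rfl : m = 1 := by
    have := (Module.finrank_eq_card_basis bL).symm.trans (Module.finrank_eq_card_basis b1)
    simpa using this
  exact ⟨U, hxU, ⟨e⟩⟩

theorem isInvertible_of_rank_one {X : Scheme.{u}} {L : X.Modules} (h : FlatMod.IsFinLocFreeOfRank 1 L) :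
    PicF.IsInvertible L := fun x =>
  let ⟨U, hxU, ⟨e⟩⟩ := h x
  ⟨U, hxU, ⟨e ≪≫ coproductUniqueIso fun _ : Fin 1 => Coh.structureModule (↑U : Scheme.{u})⟩⟩

include g f hι in
/-- Top forms as an Ext sheaf. -/
theorem nonempty_topForms_iso {ΩP : P.Modules} (hΩP : ExtPow.IsExtPow n (Omega.sheaf g) ΩP)
    {ΩX : X.Modules} (hΩX : ExtPow.IsExtPow r (Omega.sheaf f) ΩX)
    [ModSite.HasSheafHom (O := P.sheaf) (O' ι)] [HasInjectiveResolutions (ModSite.Mod P.sheaf)] :
    Nonempty ((push ι).obj ΩX ≅ (ModSite.extSh (O := P.sheaf) (O' ι) (n - r)).obj ΩP) := by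
  haveI : HasInjectiveResolutions P.Modules := ‹HasInjectiveResolutions (ModSite.Mod P.sheaf)›
  obtain ⟨hreg, hrk, hle⟩ := regImm_of_smooth g f ι hι n r
  have hc : Coh.IsQCoh (Omega.conormal ι) :=
    H8Props.FinLocFree.isQCoh_of_isFinLocFree _ (isFinLocFree_of_rank hrk)
  obtain ⟨L, hL⟩ := H22Alg.ExtPowSheaf.exists_isExtPow (n - r) hc
  let J : InjectiveResolution ΩP := injectiveResolution ΩP
  let J' : InjectiveResolution ((push ι).obj ((pull ι).obj ΩP)) := injectiveResolution _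
  obtain ⟨e1⟩ := nonempty_reduce_iso ι hreg ΩP J J'
  obtain ⟨e2⟩ := nonempty_extH_iso ι J' (isFP_O' ι) hreg hL
  obtain ⟨e3⟩ : Nonempty (RefHull.homSh L ((pull ι).obj ΩP) ≅ ΩX) := by
    rcases isEmpty_or_nonempty X with hX | hX
    · haveI : ∀ (M : X.Modules) (x : X), Subsingleton (M.presheaf.stalk x) := fun M x => isEmptyElim x
      have hz : ∀ M : X.Modules, IsZero M := fun M =>
        H16Derived.KFlat.Stalk.isZero_of_stalk fun x => isEmptyElim x
      exact ⟨(hz _).iso (hz _)⟩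
    · obtain ⟨a⟩ := nonempty_adjunction_iso g f ι hι n r hΩP hΩX hL
      obtain ⟨b⟩ := nonempty_homSh_tensor_iso
        (isInvertible_of_rank_one (isInvertible_extPow hrk hL)) ΩX
      exact ⟨(homFunctor L).mapIso a.symm ≪≫ b⟩
  exact ⟨(extShIso (O' ι) (n - r) ΩP ≪≫ J.isoRightDerivedObj (homFunctor (O' ι)) (n - r) ≪≫ e1 ≪≫ e2 ≪≫
    (push ι).mapIso e3).symm⟩

end Groth.Agent.H17.FLI
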