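import Groth.Agent.H10Inj.SheafExt.FirstVarRes
import Groth.Agent.H10Inj.SheafExt.DualTensor
import Groth.Agent.H28Vert.Symm
import Groth.Agent.H15Site.Invertible
import Groth.Agent.H22Alg.KPush
import Groth.Agent.H11Ample.UnitIso

/-!
# The first Ext sheaf out of the structure sheaf of an effective Cartier divisor
-/

set_option autoImplicit false
set_option linter.style.haveILetI false
set_option synthInstance.maxHeartbeats 800000
set_option maxHeartbeats 1600000
set_option backward.isDefEq.respectTransparency false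

universe u

open CategoryTheory CategoryTheory.Limits AlgebraicGeometry Opposite TopologicalSpace
open Groth.Agent.H10Inj.SheafExt

namespace Groth.Agent.H17.FLI.DivExt

theorem rightDerivedZero_natural {A B : Type*} [Category A] [Abelian A] [HasInjectiveResolutions A]
    [Category B] [Abelian B] {H P : A ⥤ B} [H.Additive] [P.Additive] (b : H ⟶ P) (X : A) :
    b.app X ≫ P.toRightDerivedZero.app X = H.toRightDerivedZero.app X ≫ (NatTrans.rightDerived b 0).app X := by
  let R := injectiveResolution X
  have h0 : b.app X ≫ R.toRightDerivedZero' P = R.toRightDerivedZero' H ≫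
      HomologicalComplex.cyclesMap ((NatTrans.mapHomologicalComplex b _).app R.cocomplex) 0 := by
    simp [← cancel_mono (HomologicalComplex.iCycles _ _)]
  rw [R.toRightDerivedZero_eq P, R.toRightDerivedZero_eq H, R.rightDerived_app_eq b 0, reassoc_of% h0]
  simp only [Category.assoc, Iso.inv_hom_id_assoc]
  congr 1
  rw [← Category.assoc, ← Category.assoc]
  congr 1
  exact (HomologicalComplex.homologyπ_naturality ((NatTrans.mapHomologicalComplex b _).app R.cocomplex) 0).symm

variable {X : Scheme.{u}}

theorem isEquivalence_flip {M N : X.Modules} (e : CohB1.tensorMod M N ≅ Coh.structureModule X) :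
    ((DCoh.tensorBi (X := X)).flip.obj M).IsEquivalence := by
  have h := H15Site.Invertible.isEquivalence_of_iso_unit (O := X.sheaf) (L := M) (N := N) e
  exact @Functor.isEquivalence_of_iso _ _ _ _ _ _ (H15Site.ModTensor.tLIso (O := X.sheaf) M) h

/-- The cokernel of restricting along a cosection of an invertible module. -/
theorem nonempty_cokernel_homPre {M L : X.Modules} (e : CohB1.tensorMod L M ≅ Coh.structureModule X)
    (u : M ⟶ Coh.structureModule X) (ω : X.Modules) :
    Nonempty (cokernel ((homPre u).app ω) ≅ CohB1.tensorMod (cokernel u) (CohB1.tensorMod L ω)) := by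
  haveI := isEquivalence_flip (H11Ample.tensorCommIso M L ≪≫ e)
  haveI := isEquivalence_flip (H11Ample.tensorLeftUnitIso (Coh.structureModule X))
  let O := Coh.structureModule X
  let F := (DCoh.tensorBi (X := X)).flip.obj M
  let W := (homFunctor O).obj ω
  let T := (DCoh.tensorBi (X := X)).obj W
  haveI : IsIso ((flipAdj M).counit.app ω) := inferInstance
  haveI : IsIso ((flipAdj O).counit.app ω) := inferInstance
  haveI : T.IsLeftAdjoint := (homAdj W).isLeftAdjoint
  haveI : F.IsLeftAdjoint := (flipAdj M).isLeftAdjoint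
  haveI : T.Additive :=
    haveI := preservesBinaryBiproducts_of_preservesBinaryCoproducts T
    Functor.additive_of_preservesBinaryBiproducts _
  haveI : F.Additive :=
    haveI := preservesBinaryBiproducts_of_preservesBinaryCoproducts F
    Functor.additive_of_preservesBinaryBiproducts _
  have key : F.map ((homPre u).app ω) ≫ (flipAdj M).counit.app ω = T.map u ≫ (flipAdj O).counit.app ω :=
    conjugateEquiv_counit (flipAdj O) (flipAdj M) ((DCoh.tensorBi (X := X)).flip.map u) ω
  let s : cokernel (F.map ((homPre u).app ω)) ≅ cokernel (T.map u) :=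
    cokernel.mapIso _ _ (Iso.refl _) (asIso ((flipAdj M).counit.app ω) ≪≫ (asIso ((flipAdj O).counit.app ω)).symm)
      (by simp [reassoc_of% key])
  let w : W ≅ ω := (H11Ample.tensorLeftUnitIso W).symm ≪≫ H11Ample.tensorCommIso _ _ ≪≫
    asIso ((flipAdj O).counit.app ω)
  let C := cokernel ((homPre u).app ω)
  let Q := cokernel u
  let a : CohB1.tensorMod C M ≅ CohB1.tensorMod Q ω :=
    PreservesCokernel.iso F _ ≪≫ s ≪≫ (PreservesCokernel.iso T u).symm ≪≫
      PicGrp.tensorModIso w (Iso.refl Q) ≪≫ H11Ample.tensorCommIso ω Q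
  exact ⟨((H11Ample.tensorLeftUnitIso C).symm ≪≫ H11Ample.tensorCommIso O C) ≪≫
    PicGrp.tensorModIso (Iso.refl C) (e.symm ≪≫ H11Ample.tensorCommIso L M) ≪≫
    (H11Ample.tensorAssocIso C M L).symm ≪≫ PicGrp.tensorModIso a (Iso.refl L) ≪≫
    H11Ample.tensorAssocIso Q ω L ≪≫ PicGrp.tensorModIso (Iso.refl Q) (H11Ample.tensorCommIso ω L)⟩

/-- The first Ext sheaf out of a Cartier divisor. -/
theorem nonempty_ext_one_iso {D : Scheme.{u}} (i : D ⟶ X) [IsClosedImmersion i] {L : X.Modules}
    (e : CohB1.tensorMod L (ClSub.idealMod i.ker) ≅ Coh.structureModule X) (ω : X.Modules)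
    [HasInjectiveResolutions X.Modules] :
    Nonempty (((homFunctor ((Coh.push i).obj (Coh.structureModule D))).rightDerived 1).obj ω ≅
      CohB1.tensorMod ((Coh.push i).obj (Coh.structureModule D)) (CohB1.tensorMod L ω)) := by
  haveI := H10Coh.epi_toSubscheme i.ker
  let S : ShortComplex X.Modules :=
    ShortComplex.mk (ClSub.idealModι i.ker) (ClSub.toSubscheme i.ker) (kernel.condition _)
  have hS : S.ShortExact := H10Coh.shortExact_kernel (ClSub.toSubscheme i.ker)
  obtain ⟨-, -, δ, hδ⟩ := rightDerived_les (homPre S.g) (homPre S.f)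
    (NatTrans.ext (funext fun I => conjG_comp_conjF_app S (flipAdj S.X₁) (flipAdj S.X₂) (flipAdj S.X₃) I))
    (fun I _ => shortExact_homPre S hS I) ω
  obtain ⟨⟨w1, hex1⟩, ⟨w2, hex2⟩⟩ := hδ 0
  haveI := preservesFiniteColimits_homFunctor (Coh.structureModule X) (H22Alg.KPush.finLocFree_structure X)
  have hz : IsZero (((homFunctor S.X₂).rightDerived 1).obj ω) :=
    isZero_rightDerived_of_exact (homFunctor (Coh.structureModule X)) ω 1 le_rfl
  haveI : Epi (δ 0) := hex2.epi_f (hz.eq_of_tgt _ _)
  let q : cokernel ((homPre S.f).app ω) ≅ cokernel ((NatTrans.rightDerived (homPre S.f) 0).app ω) :=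
    cokernel.mapIso _ _ (asIso ((homFunctor S.X₂).toRightDerivedZero.app ω))
      (asIso ((homFunctor S.X₁).toRightDerivedZero.app ω)) (rightDerivedZero_natural (homPre S.f) ω)
  let d : cokernel ((NatTrans.rightDerived (homPre S.f) 0).app ω) ≅ ((homFunctor S.X₃).rightDerived 1).obj ω :=
    (cokernelIsCokernel _).coconePointUniqueUpToIso hex1.gIsCokernel
  obtain ⟨c⟩ := nonempty_cokernel_homPre e (ClSub.idealModι i.ker) ω
  let t : S.X₃ ≅ (Coh.push i).obj (Coh.structureModule D) := H28Vert.quotModKerIso i
  let η : homFunctor ((Coh.push i).obj (Coh.structureModule D)) ≅ homFunctor S.X₃ :=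
    conjugateIsoEquiv (flipAdj _) (flipAdj _) ((DCoh.tensorBi (X := X)).flip.mapIso t)
  let η1 : (homFunctor ((Coh.push i).obj (Coh.structureModule D))).rightDerived 1 ≅ (homFunctor S.X₃).rightDerived 1 :=
    { hom := NatTrans.rightDerived η.hom 1
      inv := NatTrans.rightDerived η.inv 1
      hom_inv_id := by rw [← NatTrans.rightDerived_comp, η.hom_inv_id, NatTrans.rightDerived_id]
      inv_hom_id := by rw [← NatTrans.rightDerived_comp, η.inv_hom_id, NatTrans.rightDerived_id] }
  exact ⟨η1.app ω ≪≫ d.symm ≪≫ q.symm ≪≫ c ≪≫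
    PicGrp.tensorModIso (H28Vert.cokernelIdealModιIso i.ker ≪≫ t) (Iso.refl _)⟩

end Groth.Agent.H17.FLI.DivExt
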