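import Groth.Agent.H17.FLI.Smooth
import Groth.Agent.H17.DualSh.Equidim
import Groth.Agent.H19Grp.RegularSmooth
import Groth.Agent.H4Depth.Regular
import Groth.Agent.H28Int.Dual
import Groth.Agent.H29RR.Consts
import Groth.Agent.H28Neron.Extend
import Groth.Agent.H22Alg.CurveAmple
import Groth.Agent.H10Coh.SheafHom.Adj
import Groth.Agent.H22Alg.KExists

/-!
# Serre duality for smooth projective schemes
-/

set_option autoImplicit false
set_option linter.style.haveILetI false
set_option linter.unusedSectionVars false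
set_option synthInstance.maxHeartbeats 800000
set_option maxHeartbeats 1600000
set_option backward.isDefEq.respectTransparency false

universe u

open CategoryTheory CategoryTheory.Limits AlgebraicGeometry Opposite TopologicalSpace

namespace Groth.Agent.H17.FLI

variable {k : Type u} [Field k] {r : ℕ} {X : Scheme.{u}} [X.Over (Spec (CommRingCat.of k))]
  [SmoothOfRelativeDimension r (X ↘ Spec (CommRingCat.of k))]

theorem smooth_dim (k : Type u) [Field k] {r : ℕ} {X : Scheme.{u}} [X.Over (Spec (CommRingCat.of k))]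
    [SmoothOfRelativeDimension r (X ↘ Spec (CommRingCat.of k))] [Nonempty X] :
    topologicalKrullDim ↥X = (r : WithBot ℕ∞) := by
  refine le_antisymm (dim_le_of_smooth k) ?_
  obtain ⟨x⟩ := ‹Nonempty X›
  rw [S5792.result]
  exact (H8Props.FieldDim.localDim_eq_of_smooth (X ↘ Spec (CommRingCat.of k)) r x).ge.trans (le_iSup _ x)

theorem smooth_cm (k : Type u) [Field k] {r : ℕ} {X : Scheme.{u}} [X.Over (Spec (CommRingCat.of k))]
    [SmoothOfRelativeDimension r (X ↘ Spec (CommRingCat.of k))] (x : X) (hx : IsClosed ({x} : Set ↥X)) :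
    LocCoh.IsCohenMacaulayLocalRing (X.presheaf.stalk x) ∧ ringKrullDim (X.presheaf.stalk x) = r := by
  haveI : Smooth (X ↘ Spec (CommRingCat.of k)) := SmoothOfRelativeDimension.smooth r _
  haveI := H19Grp.isRegularLocalRing_stalk_of_smooth (X ↘ Spec (CommRingCat.of k)) x
  refine ⟨H4Depth.isCohenMacaulayLocalRing_of_regular _, ?_⟩
  have h := H8Props.FieldDim.localDim_eq_stalk_add_cdim (X ↘ Spec (CommRingCat.of k)) x
  rw [H8Props.FieldDim.localDim_eq_of_smooth (X ↘ Spec (CommRingCat.of k)) r, DualSh.cdim_closed hx, add_zero] at h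
  exact h.symm

variable {N : ℕ} (ι : X ⟶ CohB1.ProjSpace N k) [IsClosedImmersion ι]
  (hι : ι ≫ CohB1.ProjSpace.toSpec N k = X ↘ Spec (CommRingCat.of k))

include hι in
theorem isCoh_topForms [HasExt.{u} X.Modules] {Ω : X.Modules}
    (hΩ : ExtPow.IsExtPow r (Omega.sheaf (X ↘ Spec (CommRingCat.of k))) Ω) : Coh.IsCoh Ω := by
  haveI : Smooth (X ↘ Spec (CommRingCat.of k)) := SmoothOfRelativeDimension.smooth r _
  haveI : IsLocallyNoetherian X := LocallyOfFiniteType.isLocallyNoetherian (X ↘ Spec (CommRingCat.of k))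
  haveI : QuasiSeparated (X ↘ Spec (CommRingCat.of k)) := by rw [← hι]; infer_instance
  exact H10Coh.Tw.isCoh_of_vb (H22Alg.ExtPowHom.finLocFree_of_isExtPow
    (isFinLocFree_of_rank (H28RR.isFinLocFreeOfRank_omega _ r)) hΩ)

include hι in
/-- Serre duality for coherent sheaves. -/
theorem nonempty_ext_linearEquiv_dual [Nonempty X] [HasExt.{u} X.Modules] {Ω : X.Modules}
    (hΩ : ExtPow.IsExtPow r (Omega.sheaf (X ↘ Spec (CommRingCat.of k))) Ω) {F : X.Modules} (hF : Coh.IsCoh F)
    {i : ℕ} (hi : i ≤ r) :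
    Nonempty (Abelian.Ext.{u} F Ω i ≃ₗ[k] Module.Dual k (Coh.HH X F (r - i))) := by
  obtain ⟨t, ht⟩ := exists_repDual_topForms ι hι hΩ
    (DualSh.add_sub_le (le_of_nonempty ι hι) (dim_le_of_smooth k))
  exact ⟨LinearEquiv.ofBijective _ (DualSh.theta_bijective_range ι hι (isCoh_topForms ι hι hΩ) ht le_rfl
    (fun q hq _ => DualSh.van_of_cm ι (smooth_dim k) (smooth_cm k) q hq) hF hi
    (Nat.sub_add_cancel hi))⟩

include hι in
/-- Serre duality for bundles. -/
theorem nonempty_dual_linearEquiv_vb [Nonempty X] {Ω : X.Modules}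
    (hΩ : ExtPow.IsExtPow r (Omega.sheaf (X ↘ Spec (CommRingCat.of k))) Ω) {F : X.Modules}
    (hF : FlatMod.IsFinLocFree F) [DCoh.HasSheafHom F] {p : ℕ} (hp : p ≤ r) :
    Nonempty (Module.Dual k (Coh.HH X F p) ≃ₗ[k] Coh.HH X ((DCoh.sheafHom F).obj Ω) (r - p)) := by
  haveI : IsGrothendieckAbelian.{u} X.Modules := H10Coh.isGrothendieckAbelian_sheafOfModules _
  haveI : EnoughInjectives X.Modules := inferInstance
  haveI : HasExt.{u} X.Modules := inferInstance
  haveI : Smooth (X ↘ Spec (CommRingCat.of k)) := SmoothOfRelativeDimension.smooth r _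
  haveI : IsLocallyNoetherian X := LocallyOfFiniteType.isLocallyNoetherian (X ↘ Spec (CommRingCat.of k))
  obtain ⟨e⟩ := nonempty_ext_linearEquiv_dual ι hι hΩ (H10Coh.Tw.isCoh_of_vb hF) (Nat.sub_le r p)
  obtain ⟨e'⟩ := PnExt.nonempty_ext_linearEquiv k hF Ω (r - p)
  rw [Nat.sub_sub_self hp] at e
  exact ⟨e.symm.trans e'⟩

include hι in
/-- The top cohomology of the top forms is a line. -/
theorem finrank_top [IsAlgClosed k] [ConnectedSpace X] {Ω : X.Modules}
    (hΩ : ExtPow.IsExtPow r (Omega.sheaf (X ↘ Spec (CommRingCat.of k))) Ω) :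
    Module.finrank k (Coh.HH X Ω r) = 1 := by
  haveI : Smooth (X ↘ Spec (CommRingCat.of k)) := SmoothOfRelativeDimension.smooth r _
  haveI : IsProper (X ↘ Spec (CommRingCat.of k)) := by rw [← hι]; infer_instance
  haveI : IsReduced X := H28Neron.isReduced_of_smooth (X ↘ Spec (CommRingCat.of k))
  haveI := H10Coh.SheafHom.hasSheafHom (Coh.structureModule X)
  obtain ⟨e⟩ := nonempty_dual_linearEquiv_vb ι hι hΩ
    (H22Alg.KExists.finLocFree_structure X) (Nat.zero_le r)
  rw [Nat.sub_zero] at e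
  let h : DCoh.sheafHom (Coh.structureModule X) ≅ 𝟭 X.Modules :=
    (DCoh.sheafHomAdj (Coh.structureModule X)).rightAdjointUniq
      (Adjunction.id.ofNatIsoLeft H28Int.tensorLeftUnitIso.symm)
  have e' := H22Alg.CurveAmple.finrank_HH_congr (k := k) (h.app Ω) r
  have h1 := H29RR.finrank_h0_structure k X
  haveI : Module.Finite k (Coh.HH X (Coh.structureModule X) 0) := Module.finite_of_finrank_eq_succ h1
  exact e'.symm.trans (e.finrank_eq.symm.trans (Subspace.dual_finrank_eq.trans h1))

end Groth.Agent.H17.FLI
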