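import Groth.Agent.H17.FLI.ProjTop
import Groth.Agent.H17.DualSh.Closed
import Groth.Agent.H17.DualSh.Dim
import Groth.Agent.H17.EdgeIso.Main
import Groth.Agent.H10Inj.SheafExt.Stalks
import Groth.Agent.H28Top.Dim
import Groth.Agent.H8Props.FieldDimSmooth
import Groth.Agent.S5792
import Groth.Agent.H22Alg.ESZPush

/-!
# Top forms of a smooth closed subscheme of projective space are dualizing
-/

set_option autoImplicit false
set_option linter.style.haveILetI false
set_option backward.isDefEq.respectTransparency false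
set_option synthInstance.maxHeartbeats 400000
set_option maxHeartbeats 1000000

universe u

open CategoryTheory CategoryTheory.Limits AlgebraicGeometry Opposite TopologicalSpace
open Groth.Agent.H10Inj.SheafExt Groth.Agent.H16Derived.ProjFormula

namespace Groth.Agent.H17.FLI

variable {k : Type u} [Field k] {n r : ℕ} {X : Scheme.{u}} [X.Over (Spec (CommRingCat.of k))]
  (ι : X ⟶ CohB1.ProjSpace n k) [IsClosedImmersion ι]
  (hι : ι ≫ CohB1.ProjSpace.toSpec n k = X ↘ Spec (CommRingCat.of k))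
  [SmoothOfRelativeDimension r (X ↘ Spec (CommRingCat.of k))]

include hι in
theorem le_of_nonempty [Nonempty X] : r ≤ n :=
  (regImm_of_smooth (CohB1.ProjSpace.toSpec n k) (X ↘ Spec (CommRingCat.of k)) ι hι n r).2.2 ‹_›

include hι in
/-- The iso needed by the duality theorem. -/
theorem nonempty_push_topForms_iso {Ω : X.Modules}
    (hΩ : ExtPow.IsExtPow r (Omega.sheaf (X ↘ Spec (CommRingCat.of k))) Ω)
    [ModSite.HasSheafHom (O := (CohB1.ProjSpace n k).sheaf) (O' ι)]
    [HasInjectiveResolutions (ModSite.Mod (CohB1.ProjSpace n k).sheaf)] :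
    Nonempty ((push ι).obj Ω ≅ (ModSite.extSh (O := (CohB1.ProjSpace n k).sheaf) (O' ι) (n - r)).obj
      (Twist.twistProjSpace n k (-((n : ℤ) + 1)))) := by
  haveI : Smooth (CohB1.ProjSpace.toSpec n k) := H26Smooth.smooth_toSpec n k
  haveI : Smooth (X ↘ Spec (CommRingCat.of k)) := SmoothOfRelativeDimension.smooth r _
  haveI : IsLocallyNoetherian (CohB1.ProjSpace n k) :=
    LocallyOfFiniteType.isLocallyNoetherian (CohB1.ProjSpace.toSpec n k)
  haveI : IsLocallyNoetherian X := LocallyOfFiniteType.isLocallyNoetherian (X ↘ Spec (CommRingCat.of k))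
  have hq : Coh.IsQCoh (Omega.sheaf (CohB1.ProjSpace.toSpec n k)) := H29Omega.isQCoh_sheaf _
  obtain ⟨ΩP, hΩP⟩ := H22Alg.ExtPowSheaf.exists_isExtPow n hq
  obtain ⟨a⟩ := nonempty_topForms_iso (CohB1.ProjSpace.toSpec n k) (X ↘ Spec (CommRingCat.of k)) ι hι n r hΩP hΩ
  obtain ⟨b⟩ := nonempty_topForms_projSpace_iso n k hΩP
  exact ⟨a ≪≫ (ModSite.extSh (O := (CohB1.ProjSpace n k).sheaf) (O' ι) (n - r)).mapIso b⟩

/-- A scheme smooth of relative dimension `r` over a field has dimension at most `r`. -/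
theorem dim_le_of_smooth (k : Type u) [Field k] {r : ℕ} {X : Scheme.{u}} [X.Over (Spec (CommRingCat.of k))]
    [SmoothOfRelativeDimension r (X ↘ Spec (CommRingCat.of k))] : topologicalKrullDim ↥X ≤ (r : WithBot ℕ∞) := by
  rw [S5792.result]
  exact iSup_le fun x => (H8Props.FieldDim.localDim_eq_of_smooth (X ↘ Spec (CommRingCat.of k)) r x).le

include hι in
/-- Top forms are dualizing. -/
theorem exists_repDual_topForms {Ω : X.Modules}
    (hΩ : ExtPow.IsExtPow r (Omega.sheaf (X ↘ Spec (CommRingCat.of k))) Ω) [Nonempty X]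
    (hd : topologicalKrullDim ↥X + ((n - r : ℕ) : WithBot ℕ∞) ≤ (n : WithBot ℕ∞)) :
    ∃ t : Coh.HH X Ω r →ₗ[k] k, ∀ F : X.Modules, Coh.IsCoh F → H29Serre.RepDual t F := by
  haveI := H17.EdgeIso.hasSheafHom (O' ι)
  haveI : IsGrothendieckAbelian.{u} (CohB1.ProjSpace n k).Modules := H10Coh.isGrothendieckAbelian_sheafOfModules _
  haveI : EnoughInjectives (CohB1.ProjSpace n k).Modules := inferInstance
  haveI : HasInjectiveResolutions (ModSite.Mod (CohB1.ProjSpace n k).sheaf) :=
    (inferInstance : HasInjectiveResolutions (CohB1.ProjSpace n k).Modules)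
  exact DualSh.exists_repDual_closed ι hι (c := n - r) (Nat.add_sub_cancel' (le_of_nonempty ι hι))
    hd Ω (nonempty_push_topForms_iso ι hι hΩ)

include hι in
/-- Top forms are dualizing, in the form of unique morphisms. -/
theorem existsUnique_topForms {Ω : X.Modules}
    (hΩ : ExtPow.IsExtPow r (Omega.sheaf (X ↘ Spec (CommRingCat.of k))) Ω) :
    ∃ t : Coh.HH X Ω r →ₗ[k] k, ∀ F : X.Modules, Coh.IsCoh F → ∀ ψ : Coh.HH X F r →ₗ[k] k,
      ∃! φ : F ⟶ Ω, ∀ x : Coh.HH X F r,
        ψ x = t (Sheaf.H.map ((SheafOfModules.toSheaf X.ringCatSheaf).map φ) r x) := by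
  rcases isEmpty_or_nonempty X with hX | hX
  · refine ⟨0, fun F _ ψ => ⟨0, fun x => ?_, fun φ _ => ?_⟩⟩
    · haveI : Subsingleton (Coh.HH X F r) :=
        H22Alg.ESZ.subsingleton_HH_of_isZero (H16Derived.KFlat.Stalk.isZero_of_stalk fun x => isEmptyElim x) r
      rw [Subsingleton.elim x 0, map_zero]
      rfl
    · exact (H16Derived.KFlat.Stalk.isZero_of_stalk fun x => isEmptyElim x : IsZero F).eq_of_src _ _
  · obtain ⟨t, ht⟩ := exists_repDual_topForms ι hι hΩ (DualSh.add_sub_le (le_of_nonempty ι hι) (dim_le_of_smooth k))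
    refine ⟨t, fun F hF ψ => ?_⟩
    obtain ⟨φ, hφ, hu⟩ := ht F hF ψ
    exact ⟨φ, fun x => LinearMap.congr_fun hφ x, fun φ' hφ' => hu φ' (LinearMap.ext hφ')⟩

end Groth.Agent.H17.FLI
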