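import Groth.Agent.H17.FLI.LciReg
import Groth.Agent.H17.FLI.TopForms
import Groth.Agent.H17.FLI.Smooth

/-!
# The dualizing sheaf of a local complete intersection in projective space
-/

set_option autoImplicit false
set_option linter.style.haveILetI false
set_option linter.unusedSectionVars false
set_option synthInstance.maxHeartbeats 800000
set_option maxHeartbeats 1600000
set_option backward.isDefEq.respectTransparency false

universe u

open CategoryTheory CategoryTheory.Limits AlgebraicGeometry Opposite TopologicalSpace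
open Groth.Agent.H10Inj.SheafExt Groth.Agent.H16Derived.ProjFormula

namespace Groth.Agent.H17.FLI

/-- The conormal sheaf of a regular immersion is locally free of the codimension. -/
theorem isFinLocFreeOfRank_conormal {P X : Scheme.{u}} (ι : X ⟶ P) [IsClosedImmersion ι] [IsLocallyNoetherian P] {c : ℕ}
    (h : RegImm.IsRegularImmersionOfCodim RegImm.Kind.regular c ι) :
    FlatMod.IsFinLocFreeOfRank c (Omega.conormal ι) := by
  haveI : IsLocallyNoetherian X := LocallyOfFiniteType.isLocallyNoetherian ι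
  have hlf := H29Ref.ConormalQReg.isFinLocFree_conormal_of_quasi ι fun z => by
    obtain ⟨U, hz, hcl, rs, -, hrs, hker⟩ := h.2 z
    exact ⟨U, hz, hcl, rs, RegQuasi.quasi_of_regular hrs, hker⟩
  intro x
  obtain ⟨W, m, hxW, ⟨e⟩⟩ := hlf x
  obtain ⟨U, hzU, hcl, rs, hlen, hrs, hker⟩ := h.2 x
  haveI := U.2.isLocalization_stalk ⟨ι.base x, hzU⟩
  letI := P.presheaf.algebra_section_stalk (⟨ι.base x, hzU⟩ : U.1)
  haveI : Module.Flat Γ(P, U.1) (P.presheaf.stalk (ι.base x)) :=
    IsLocalization.flat _ (U.2.primeIdealOf ⟨ι.base x, hzU⟩).asIdeal.primeCompl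
  let φ := algebraMap Γ(P, U.1) (P.presheaf.stalk (ι.base x))
  let gv : Fin rs.length → P.presheaf.stalk (ι.base x) := fun i => φ (rs.get i)
  have hspan : Ideal.span (Set.range gv) = idI ι x := by
    show _ = RingHom.ker (ι.stalkMap x).hom
    rw [← H29Omega.range_idealStalk_ker ι x, H29Omega.range_idealStalk ι.ker (ι.base x) U hzU,
      show ι.ker.ideal U = Ideal.ofList rs by rw [Scheme.Hom.ker_apply]; exact hker, Ideal.map_ofList]
    refine congrArg Ideal.span (Set.ext fun a => ⟨?_, fun h => ?_⟩)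
    · rintro ⟨i, rfl⟩; exact List.mem_map.2 ⟨_, List.get_mem rs i, rfl⟩
    · obtain ⟨b, hb, rfl⟩ := List.mem_map.1 h
      obtain ⟨i, rfl⟩ := List.mem_iff_get.1 hb
      exact ⟨i, rfl⟩
  have hqr : CAlgX.IsQuasiRegular gv := by
    refine H06QR.Regular.isQuasiRegular_of_isWeaklyRegular gv ?_
    rw [show gv = φ ∘ rs.get from rfl, ← List.map_ofFn, List.ofFn_get]
    exact (hrs : RingTheory.Sequence.IsRegular Γ(P, U.1) rs).toIsWeaklyRegular.of_flat
  let fv : Fin rs.length → idI ι x := fun i => ⟨gv i, hspan ▸ Ideal.subset_span ⟨i, rfl⟩⟩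
  let b : Module.Basis (Fin rs.length) (X.presheaf.stalk x) ((Omega.conormal ι).presheaf.stalk x) :=
    Module.Basis.mk (linearIndependent_cgen ι x fv hqr hspan) (by
      rintro v -
      obtain ⟨a, rfl⟩ := cgen_surjective ι x v
      have hmem : a.1 ∈ Ideal.span (Set.range gv) := hspan.symm ▸ a.2
      obtain ⟨c, hc⟩ := Ideal.mem_span_range_iff_exists_fun.1 hmem
      rw [show a = ∑ k, c k • fv k from
        Subtype.ext (hc.symm.trans (by rw [AddSubmonoidClass.coe_finsetSum]; rfl)), map_sum]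
      refine Submodule.sum_mem _ fun k _ => ?_
      rw [H29Omega.cgen_smul]
      exact Submodule.smul_mem _ _ (Submodule.subset_span ⟨k, rfl⟩))
  obtain ⟨V, hV, hxV, hle⟩ := exists_isAffineOpen_mem_and_subset (x := x) (U := W) hxW
  obtain ⟨bW⟩ := H8Props.FinLocFree.exists_basis_of_chart _ e hle
  obtain ⟨bx⟩ := H22Alg.ExtPowSum.exists_stalkBasis (H8Props.FinLocFree.isQCoh_of_isFinLocFree _ hlf) hV bW hxV
  have hm : m = rs.length := by
    simpa using (Module.finrank_eq_card_basis bx).symm.trans (Module.finrank_eq_card_basis b)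
  subst hm
  exact ⟨W, hxW, hlen ▸ ⟨e⟩⟩

variable {k : Type u} [Field k]

/-- Twisted dual of the top conormal power. -/
theorem exists_repDual_lci {N r : ℕ} (hr : r ≤ N) {X : Scheme.{u}} [X.Over (Spec (CommRingCat.of k))]
    (ι : X ⟶ CohB1.ProjSpace N k) [IsClosedImmersion ι]
    (hι : ι ≫ CohB1.ProjSpace.toSpec N k = X ↘ Spec (CommRingCat.of k))
    (heq : ∀ Z : Set ↥X, Z ∈ irreducibleComponents ↥X → topologicalKrullDim ↥Z = ((N - r : ℕ) : WithBot ℕ∞))
    (hreg : RegImm.IsRegularImmersionOfCodim RegImm.Kind.regular r ι)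
    {C : X.Modules} (hC : ExtPow.IsExtPow r (Omega.conormal ι) C) [DCoh.HasSheafHom C] :
    ∃ t : Coh.HH X (CohB1.tensorMod ((Scheme.Modules.pullback ι).obj (Twist.twistProjSpace N k (-((N : ℤ) + 1))))
        ((DCoh.sheafHom C).obj (Coh.structureModule X))) (N - r) →ₗ[k] k,
      ∀ F : X.Modules, Coh.IsCoh F → H29Serre.RepDual t F := by
  haveI : IsLocallyNoetherian (CohB1.ProjSpace N k) :=
    LocallyOfFiniteType.isLocallyNoetherian (CohB1.ProjSpace.toSpec N k)
  haveI := EdgeIso.hasSheafHom (O' ι)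
  haveI := EdgeIso.hasSheafHom C
  haveI := EdgeIso.hasInjectiveResolutions (CohB1.ProjSpace N k)
  have hCi : PicF.IsInvertible C :=
    isInvertible_of_rank_one (isInvertible_extPow (isFinLocFreeOfRank_conormal ι hreg) hC)
  obtain ⟨D, -, ⟨eD'⟩⟩ := H11Sym.exists_inverse hCi
  let eD : CohB1.tensorMod C D ≅ Coh.structureModule X := H11Ample.tensorCommIso C D ≪≫ eD'
  let M := (Scheme.Modules.pullback ι).obj (Twist.twistProjSpace N k (-((N : ℤ) + 1)))
  obtain ⟨a⟩ := nonempty_extSh_iso ι hreg (Twist.twistProjSpace N k (-((N : ℤ) + 1))) hC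
  obtain ⟨b⟩ := nonempty_homSh_tensor_iso hCi (CohB1.tensorMod D M)
  obtain ⟨d⟩ := nonempty_homSh_tensor_iso hCi D
  let hM : CohB1.tensorMod C (CohB1.tensorMod D M) ≅ M := (H11Ample.tensorAssocIso C D M).symm ≪≫
    PicGrp.tensorModIso eD (Iso.refl M) ≪≫ H11Ample.tensorLeftUnitIso M
  let e1 : RefHull.homSh C M ≅ CohB1.tensorMod D M := (homFunctor C).mapIso hM.symm ≪≫ b
  let e2 : (DCoh.sheafHom C).obj (Coh.structureModule X) ≅ D :=
    H10Coh.SheafHom.homShIso _ _ ≪≫ (homFunctor C).mapIso eD.symm ≪≫ d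
  have hd : topologicalKrullDim ↥X + (r : WithBot ℕ∞) ≤ (N : WithBot ℕ∞) := by
    refine le_trans (add_le_add (DualSh.dim_le_of_components heq) le_rfl) ?_
    exact_mod_cast (by omega : N - r + r ≤ N)
  exact DualSh.exists_repDual_closed ι hι (c := r) (Nat.sub_add_cancel hr) hd _
    ⟨((push ι).mapIso (PicGrp.tensorModIso (Iso.refl M) e2 ≪≫ H11Ample.tensorCommIso M D ≪≫ e1.symm ≪≫
      ((modSiteHomIso C).app M).symm)) ≪≫ a.symm⟩

end Groth.Agent.H17.FLI
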