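import Mathlib.CategoryTheory.Abelian.RightDerived
import Mathlib.Algebra.Homology.ShortComplex.Abelian
import Mathlib.Algebra.Homology.HomologicalComplexAbelian

/-!
# Derived functors of a composite when the inner one is concentrated in one degree
-/

set_option autoImplicit false
set_option linter.style.haveILetI false
set_option linter.unusedSectionVars false
set_option maxHeartbeats 1000000
set_option backward.isDefEq.respectTransparency false

universe v v' v'' u u' u''

open CategoryTheory CategoryTheory.Limits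

namespace Groth.Agent.H17.FLI.CompDeg

variable {B : Type u} [Category.{v} B] [Abelian B]

theorem nonempty_homology_shift (C C' : CochainComplex B ℕ) (π : ∀ j, C.X (j + 1) ⟶ C'.X j)
    (comm : ∀ j, π j ≫ C'.d j (j + 1) = C.d (j + 1) (j + 2) ≫ π (j + 1)) (hiso : ∀ j, IsIso (π (j + 1)))
    (w : C.d 0 1 ≫ π 0 = 0) (hc : IsColimit (CokernelCofork.ofπ (π 0) w)) :
    ∀ j, Nonempty (C'.homology j ≅ C.homology (j + 1))
  | 0 => by
    haveI : Epi (π 0) := epi_of_isColimit_cofork hc
    let S := C.sc' 0 1 2
    let g' := hc.desc (CokernelCofork.ofπ S.g S.zero)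
    let h : S.RightHomologyData :=
      { Q := C'.X 0
        H := kernel g'
        p := π 0
        ι := kernel.ι g'
        wp := w
        hp := hc
        wι := kernel.condition g'
        hι := kernelIsKernel g' }
    haveI : IsIso (π 1) := hiso 0
    have hg : g' ≫ π 1 = C'.d 0 1 := by
      rw [← cancel_epi (π 0), comm 0]
      exact congrArg (· ≫ π 1) (Cofork.IsColimit.π_desc hc) |> (fun e => (Category.assoc _ _ _).symm.trans e)
    exact ⟨(CochainComplex.isoHomologyπ₀ C').symm ≪≫
      IsLimit.conePointUniqueUpToIso (C'.cyclesIsKernel 0 1 (by simp)) (kernelIsKernel _) ≪≫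
      kernelIsoOfEq hg.symm ≪≫ kernelCompMono g' (π 1) ≪≫ h.homologyIso.symm ≪≫
      ShortComplex.homologyMapIso (C.isoSc' 0 1 2 (by simp) (by simp)).symm⟩
  | j + 1 => by
    let φ : C.sc' (j + 1) (j + 2) (j + 3) ⟶ C'.sc' j (j + 1) (j + 2) :=
      { τ₁ := π j
        τ₂ := π (j + 1)
        τ₃ := π (j + 2)
        comm₁₂ := comm j
        comm₂₃ := comm (j + 1) }
    haveI : Epi φ.τ₁ := by
      cases j with
      | zero => exact epi_of_isColimit_cofork hc
      | succ i => haveI := hiso i; exact (inferInstance : Epi (π (i + 1)))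
    haveI : IsIso φ.τ₂ := hiso j
    haveI : Mono φ.τ₃ := by haveI := hiso (j + 1); exact (inferInstance : Mono (π (j + 2)))
    haveI := ShortComplex.quasiIso_of_epi_of_isIso_of_mono φ
    exact ⟨ShortComplex.homologyMapIso (C'.isoSc' j (j + 1) (j + 2) (by simp) (by simp)) ≪≫
      (asIso (ShortComplex.homologyMap φ)).symm ≪≫
      ShortComplex.homologyMapIso (C.isoSc' (j + 1) (j + 2) (j + 3) (by simp) (by simp)).symm⟩

/-- Cut off the first term. -/
noncomputable def cut (C : CochainComplex B ℕ) : CochainComplex B ℕ :=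
  CochainComplex.of
    (fun | 0 => C.opcycles 1 | j + 1 => C.X (j + 2))
    (fun | 0 => C.fromOpcycles 1 2 | j + 1 => C.d (j + 2) (j + 3))
    (fun | 0 => C.fromOpcycles_d 1 2 3 | j + 1 => C.d_comp_d (j + 2) (j + 3) (j + 4))

/-- The projection to the cut complex. -/
noncomputable def cutπ (C : CochainComplex B ℕ) : ∀ j, C.X (j + 1) ⟶ (cut C).X j
  | 0 => C.pOpcycles 1
  | j + 1 => 𝟙 (C.X (j + 2))

theorem cutπ_comm (C : CochainComplex B ℕ) : ∀ j, cutπ C j ≫ (cut C).d j (j + 1) = C.d (j + 1) (j + 2) ≫ cutπ C (j + 1)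
  | 0 => by
    simp only [cut, CochainComplex.of_d, cutπ]
    exact (C.p_fromOpcycles 1 2).trans (Category.comp_id _).symm
  | j + 1 => by
    simp only [cut, CochainComplex.of_d, cutπ]
    exact (Category.id_comp _).trans (Category.comp_id _).symm

instance isIso_cutπ (C : CochainComplex B ℕ) (j : ℕ) : IsIso (cutπ C (j + 1)) :=
  inferInstanceAs (IsIso (𝟙 (C.X (j + 2))))

variable {D : Type u'} [Category.{v'} D] [Abelian D] [HasInjectiveResolutions B]

/-- A complex of injectives with cohomology in a single degree. -/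
theorem nonempty_homology_map_single (G : B ⥤ D) [G.Additive] : ∀ (c : ℕ) (C : CochainComplex B ℕ),
    (∀ j, Injective (C.X j)) → (∀ j, j ≠ c → C.ExactAt j) → ∀ q,
      Nonempty (((G.mapHomologicalComplex (ComplexShape.up ℕ)).obj C).homology (q + c) ≅
        (G.rightDerived q).obj (C.homology c))
  | 0, C, hC, hex, q => by
    let ι := (CochainComplex.fromSingle₀Equiv C (C.cycles 0)).symm ⟨C.iCycles 0, C.iCycles_d 0 1⟩
    haveI : QuasiIso ι := ⟨fun j => by
      cases j with
      | zero =>
        rw [CochainComplex.quasiIsoAt₀_iff, ShortComplex.quasiIso_iff_of_zeros]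
        rotate_left
        · simp
        · simp
        · simp
        refine ⟨ShortComplex.exact_of_iso ?_ (ShortComplex.exact_of_f_is_kernel
          (ShortComplex.mk (C.iCycles 0) (C.d 0 1) (C.iCycles_d 0 1)) (C.cyclesIsKernel 0 1 (by simp))), ?_⟩
        · exact ShortComplex.isoMk (Iso.refl _) (Iso.refl _) (Iso.refl _) (by simp [ι]) (by simp)
        · change Mono (ι.f 0)
          simp only [ι, CochainComplex.fromSingle₀Equiv_symm_apply_f_zero]
          infer_instance
      | succ i =>
        rw [quasiIsoAt_iff_exactAt]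
        · exact hex _ (Nat.succ_ne_zero i)
        · exact CochainComplex.exactAt_succ_single_obj _ i⟩
    let R : InjectiveResolution (C.cycles 0) := { cocomplex := C, injective := hC, ι := ι }
    exact ⟨(R.isoRightDerivedObj G q).symm ≪≫ (G.rightDerived q).mapIso (CochainComplex.isoHomologyπ₀ C)⟩
  | c + 1, C, hC, hex, q => by
    haveI := hC 0
    haveI : Mono (C.d 0 1) := by
      have h := (C.exactAt_iff' 0 0 1 (by simp) (by simp)).1 (hex 0 (Nat.succ_ne_zero c).symm)
      exact h.mono_g (C.shape 0 0 (by simp))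
    let T : ShortComplex B := ShortComplex.mk (C.d 0 1) (C.pOpcycles 1) (C.d_pOpcycles 0 1)
    have hTc : IsColimit (CokernelCofork.ofπ T.g T.zero) := C.opcyclesIsCokernel 0 1 (by simp)
    haveI : Mono T.f := ‹Mono (C.d 0 1)›
    have hTe : T.Exact := ShortComplex.exact_of_g_is_cokernel T hTc
    haveI : Injective T.X₁ := hC 0
    haveI : Epi T.g := inferInstanceAs (Epi (C.pOpcycles 1))
    let σ : T.Splitting := ShortComplex.Splitting.ofExactOfRetraction T hTe (Injective.factorThru (𝟙 T.X₁) T.f)
      (Injective.comp_factorThru _ _) inferInstance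
    have hC' : ∀ j, Injective ((cut C).X j)
      | 0 => ⟨fun g f _ => by
          haveI := hC 1
          refine ⟨Injective.factorThru (g ≫ σ.s) f ≫ C.pOpcycles 1, ?_⟩
          rw [← Category.assoc, Injective.comp_factorThru, Category.assoc]
          exact (congrArg (g ≫ ·) σ.s_g).trans (Category.comp_id g)⟩
      | j + 1 => hC (j + 2)
    have hsh := nonempty_homology_shift C (cut C) (cutπ C) (cutπ_comm C) (fun j => inferInstance)
      (C.d_pOpcycles 0 1) (C.opcyclesIsCokernel 0 1 (by simp))
    have hex' : ∀ j, j ≠ c → (cut C).ExactAt j := fun j hj => by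
      obtain ⟨e⟩ := hsh j
      rw [HomologicalComplex.exactAt_iff_isZero_homology]
      exact ((C.exactAt_iff_isZero_homology (j + 1)).1 (hex (j + 1) (by omega))).of_iso e
    obtain ⟨ih⟩ := nonempty_homology_map_single G c (cut C) hC' hex' q
    obtain ⟨e⟩ := hsh c
    haveI : Epi (T.map G).g := (σ.map G).epi_g
    obtain ⟨e'⟩ := nonempty_homology_shift ((G.mapHomologicalComplex (ComplexShape.up ℕ)).obj C)
      ((G.mapHomologicalComplex (ComplexShape.up ℕ)).obj (cut C)) (fun j => G.map (cutπ C j))
      (fun j => by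
        show G.map (cutπ C j) ≫ G.map ((cut C).d j (j + 1)) = G.map (C.d (j + 1) (j + 2)) ≫ G.map (cutπ C (j + 1))
        rw [← G.map_comp, ← G.map_comp, cutπ_comm])
      (fun j => inferInstance) (T.map G).zero
      ((σ.map G).exact.gIsCokernel) (q + c)
    exact ⟨e'.symm ≪≫ ih ≪≫ (G.rightDerived q).mapIso e⟩

variable {A : Type u''} [Category.{v''} A] [Abelian A] [HasInjectiveResolutions A]

/-- The composite of derived functors when the inner one lives in a single degree. -/
theorem nonempty_rightDerived_comp (F : A ⥤ B) [F.Additive] (G : B ⥤ D) [G.Additive]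
    (hF : ∀ I : A, Injective I → Injective (F.obj I))
    (a : A) (c : ℕ) (h : ∀ q, q ≠ c → IsZero ((F.rightDerived q).obj a)) (q : ℕ) :
    Nonempty (((F ⋙ G).rightDerived (q + c)).obj a ≅ (G.rightDerived q).obj ((F.rightDerived c).obj a)) := by
  let R := injectiveResolution a
  let C := (F.mapHomologicalComplex (ComplexShape.up ℕ)).obj R.cocomplex
  obtain ⟨e⟩ := nonempty_homology_map_single G c C
    (fun j => hF _ (R.injective j))
    (fun j hj => (C.exactAt_iff_isZero_homology j).2 ((h j hj).of_iso (R.isoRightDerivedObj F j).symm)) q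
  exact ⟨R.isoRightDerivedObj (F ⋙ G) (q + c) ≪≫ e ≪≫ (G.rightDerived q).mapIso (R.isoRightDerivedObj F c).symm⟩

end Groth.Agent.H17.FLI.CompDeg
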