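import Groth.Agent.H22Alg.ExtPowHom
import Groth.Agent.H22Alg.ExtPowTwist
import Groth.Agent.H17.PrinOmega
import Groth.Agent.H10Coh.QCohOps
import Groth.Agent.H10Coh.FinType2
import Groth.Agent.H22Alg.KModel
import Groth.Agent.H10Coh.FibreLift.MonoEpi
import Mathlib.LinearAlgebra.Determinant

/-!
# The determinant of a short exact sequence of bundles
-/

set_option autoImplicit false
set_option linter.style.haveILetI false
set_option backward.isDefEq.respectTransparency.types false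

universe u

open CategoryTheory CategoryTheory.Limits AlgebraicGeometry TopologicalSpace Opposite exteriorPower
open Groth.Agent.H11Tilde Groth.Agent.H11Ample

noncomputable section

namespace Groth.Agent.H17.FLI.DetSES

section Alg

variable {R : Type u} [CommRing R] {M : Type u} [AddCommGroup M] [Module R M]

/-- An alternating form of top degree is a multiple of the determinant. -/
theorem alt_eq {κ : Type} [Fintype κ] [DecidableEq κ] (b : Module.Basis κ R M) {N : Type u} [AddCommGroup N]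
    [Module R N] (f : M [⋀^κ]→ₗ[R] N) (v : κ → M) : f v = b.det v • f b := by
  have h : f = (LinearMap.toSpanSingleton R N (f b)).compAlternatingMap b.det := by
    refine Module.Basis.ext_alternating b fun w hw => ?_
    let σ : Equiv.Perm κ := Equiv.ofBijective w (Finite.injective_iff_bijective.mp hw)
    show f (⇑b ∘ σ) = b.det (⇑b ∘ σ) • f b
    rw [AlternatingMap.map_perm, AlternatingMap.map_perm, Module.Basis.det_self]
    simp only [Units.smul_def, smul_assoc, one_smul]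
  exact DFunLike.congr_fun h v

/-- The top exterior power of a based module is free of rank one. -/
def topEquiv {n : ℕ} (b : Module.Basis (Fin n) R M) : R ≃ₗ[R] ↥(⋀[R]^n M) :=
  LinearEquiv.ofLinear (LinearMap.toSpanSingleton R _ (ιMulti R n b)) (alternatingMapLinearEquiv b.det)
    (exteriorPower.linearMap_ext <| AlternatingMap.ext fun v => by
      show alternatingMapLinearEquiv b.det (ιMulti R n v) • ιMulti R n b = ιMulti R n v
      rw [alternatingMapLinearEquiv_apply_ιMulti]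
      exact (alt_eq b (ιMulti R n) v).symm)
    (LinearMap.ext_ring (by
      show alternatingMapLinearEquiv b.det ((1 : R) • ιMulti R n b) = 1
      rw [one_smul, alternatingMapLinearEquiv_apply_ιMulti, Module.Basis.det_self]))

theorem topEquiv_apply {n : ℕ} (b : Module.Basis (Fin n) R M) (t : R) : topEquiv b t = t • ιMulti R n b := rfl

end Alg

variable {X : Scheme.{u}} {c r n : ℕ} (e : Fin c ⊕ Fin r ≃ Fin n) (S : ShortComplex X.Modules)

/-- The combined tuple. -/
def app2 {U : X.Opens} (a : Fin c → Γ(S.X₁, U)) (b : Fin r → Γ(S.X₂, U)) : Fin n → Γ(S.X₂, U) :=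
  fun i => Sum.elim (fun j => S.f.app U (a j)) b (e.symm i)

theorem app2_res {U V : X.Opens} (h : V ≤ U) (a : Fin c → Γ(S.X₁, U)) (b : Fin r → Γ(S.X₂, U)) :
    (fun i => S.X₂.presheaf.map (homOfLE h).op (app2 e S a b i)) =
      app2 e S (fun j => S.X₁.presheaf.map (homOfLE h).op (a j)) (fun j => S.X₂.presheaf.map (homOfLE h).op (b j)) := by
  funext i
  simp only [app2]
  rcases e.symm i with j | j
  · exact (H11Tilde.app_map_apply S.f h (a j)).symm
  · rfl

variable {S}

/-- The basis of the middle term from bases of the ends. -/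
theorem exists_basis_app2 (hS : S.ShortExact) {U : X.Opens} (a : Module.Basis (Fin c) Γ(X, U) Γ(S.X₁, U))
    (cb : Module.Basis (Fin r) Γ(X, U) Γ(S.X₃, U)) (b : Fin r → Γ(S.X₂, U)) (hb : ∀ j, S.g.app U (b j) = cb j) :
    ∃ B : Module.Basis (Fin n) Γ(X, U) Γ(S.X₂, U), ⇑B = app2 e S a b := by
  haveI := hS.mono_f
  let f : Γ(S.X₁, U) →ₗ[Γ(X, U)] Γ(S.X₂, U) := H22Alg.ExtPowHom.appL S.f U
  let g : Γ(S.X₂, U) →ₗ[Γ(X, U)] Γ(S.X₃, U) := H22Alg.ExtPowHom.appL S.g U
  let s : Γ(S.X₃, U) →ₗ[Γ(X, U)] Γ(S.X₂, U) := cb.constr Γ(X, U) b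
  have hgs : ∀ z, g (s z) = z := fun z => by
    refine LinearMap.congr_fun (cb.ext fun j => ?_ : g ∘ₗ s = LinearMap.id) z
    show g (s (cb j)) = cb j
    rw [show s (cb j) = b j from cb.constr_basis _ _ j]
    exact hb j
  have hgf : ∀ y, g (f y) = 0 := fun y => congr($(congrArg (fun z => Scheme.Modules.Hom.app z U) S.zero) y)
  let T := f.coprod s
  have hT : Function.Bijective T := by
    refine ⟨(injective_iff_map_eq_zero _).2 fun p hp => ?_, fun y => ?_⟩
    · have h2 : p.2 = 0 := by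
        have := congrArg g hp
        simp only [T, LinearMap.coprod_apply, map_add, hgf, hgs, zero_add, map_zero] at this
        exact this
      have h1 : f p.1 = 0 := by simpa [T, h2] using hp
      exact Prod.ext (H10Coh.FibreLift.app_injective_of_mono S.f U (h1.trans (map_zero f).symm)) h2
    · obtain ⟨z, hz⟩ := H10Coh.exists_app_eq_of_exact hS U (y - s (g y)) (by
        show g (y - s (g y)) = 0
        rw [map_sub, hgs, sub_self])
      exact ⟨(z, g y), by
        show f z + s (g y) = y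
        rw [show f z = y - s (g y) from hz, sub_add_cancel]⟩
  refine ⟨((a.prod cb).reindex e).map (LinearEquiv.ofBijective T hT), funext fun i => ?_⟩
  rw [Module.Basis.map_apply, Module.Basis.reindex_apply]
  simp only [app2]
  rcases e.symm i with j | j
  · show T (a.prod cb (Sum.inl j)) = f (a j)
    simp [T, Module.Basis.prod_apply]
  · show T (a.prod cb (Sum.inr j)) = b j
    simp [T, s, Module.Basis.prod_apply]

/-- The wedge of a combined tuple is the product of the two determinants. -/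
theorem det_app2 (hS : S.ShortExact) {U : X.Opens} (a : Module.Basis (Fin c) Γ(X, U) Γ(S.X₁, U))
    (cb : Module.Basis (Fin r) Γ(X, U) Γ(S.X₃, U)) (b : Fin r → Γ(S.X₂, U)) (hb : ∀ j, S.g.app U (b j) = cb j)
    (a' : Fin c → Γ(S.X₁, U)) (b' : Fin r → Γ(S.X₂, U)) :
    ιMulti Γ(X, U) n (app2 e S a' b') =
      (a.det a' * cb.det (fun j => S.g.app U (b' j))) • ιMulti Γ(X, U) n (app2 e S a b) := by
  haveI := hS.mono_f
  classical
  let α : Γ(S.X₂, U) [⋀^Fin c ⊕ Fin r]→ₗ[Γ(X, U)] ↥(⋀[Γ(X, U)]^n Γ(S.X₂, U)) := (ιMulti Γ(X, U) n).domDomCongr e.symm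
  have hα : ∀ (a : Fin c → Γ(S.X₁, U)) (b : Fin r → Γ(S.X₂, U)),
      α (Sum.elim (fun j => S.f.app U (a j)) b) = ιMulti Γ(X, U) n (app2 e S a b) := fun a b => rfl
  obtain ⟨B, hB⟩ := exists_basis_app2 e hS a cb b hb
  let B' := B.reindex e.symm
  have hB' : ⇑B' = Sum.elim (fun j => S.f.app U (a j)) b := by
    funext k
    rw [Module.Basis.reindex_apply, hB]
    simp [app2]
  rw [← hα, ← hα, alt_eq B' α, hB']
  congr 1
  let f : Γ(S.X₁, U) →ₗ[Γ(X, U)] Γ(S.X₂, U) := H22Alg.ExtPowHom.appL S.f U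
  let g : Γ(S.X₂, U) →ₗ[Γ(X, U)] Γ(S.X₃, U) := H22Alg.ExtPowHom.appL S.g U
  have hgf : ∀ y, g (f y) = 0 := fun y => congr($(congrArg (fun z => Scheme.Modules.Hom.app z U) S.zero) y)
  -- coordinates
  have hl : ∀ y : Γ(S.X₂, U), ∀ j, B'.repr y (Sum.inr j) = cb.repr (g y) j := by
    intro y j
    refine LinearMap.congr_fun (B'.ext fun k => ?_ :
      (Finsupp.lapply (Sum.inr j)).comp B'.repr.toLinearMap = ((Finsupp.lapply j).comp cb.repr.toLinearMap).comp g) y
    show B'.repr (B' k) (Sum.inr j) = cb.repr (g (B' k)) j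
    rw [Module.Basis.repr_self, hB']
    rcases k with k | k
    · show _ = cb.repr (g (f (a k))) j
      rw [hgf, map_zero]
      simp
    · show _ = cb.repr (S.g.app U (b k)) j
      rw [hb, Module.Basis.repr_self]
      simp [Finsupp.single_apply]
  have hf : ∀ (y : Γ(S.X₁, U)) j, B'.repr (f y) (Sum.inl j) = a.repr y j := by
    intro y j
    refine LinearMap.congr_fun (a.ext fun k => ?_ :
      ((Finsupp.lapply (Sum.inl j)).comp B'.repr.toLinearMap).comp f = (Finsupp.lapply j).comp a.repr.toLinearMap) y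
    show B'.repr (f (a k)) (Sum.inl j) = a.repr (a k) j
    rw [show f (a k) = B' (Sum.inl k) by rw [hB']; rfl, Module.Basis.repr_self, Module.Basis.repr_self]
    simp [Finsupp.single_apply]
  rw [Module.Basis.det_apply, Module.Basis.det_apply, Module.Basis.det_apply,
    ← Matrix.det_fromBlocks_zero₂₁ _ (Matrix.of fun i j => B'.repr (b' j) (Sum.inl i))]
  congr 1
  funext i k
  rcases i with i | i <;> rcases k with k | k
  · exact hf (a' k) i
  · rfl
  · refine (hl (f (a' k)) i).trans ?_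
    rw [hgf, map_zero]
    rfl
  · exact hl (b' k) i

variable {LA LB LC : X.Modules}

theorem isGen_of_bijective_smul {L : X.Modules} (hL : Coh.IsQCoh L) {U : X.Opens} (hU : IsAffineOpen U)
    (t : Γ(L, U)) (ht : Function.Bijective (fun s : Γ(X, U) => s • t)) : IsGen L t := by
  intro y hy
  letI := TopCat.Presheaf.algebra_section_stalk X.presheaf (⟨y, hy⟩ : U)
  letI := Module.compHom (L.presheaf.stalk y) (algebraMap Γ(X, U) (X.presheaf.stalk y))
  haveI : IsScalarTower Γ(X, U) (X.presheaf.stalk y) (L.presheaf.stalk y) :=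
    .of_algebraMap_smul fun _ _ => rfl
  haveI : IsLocalization (hU.primeIdealOf ⟨y, hy⟩).asIdeal.primeCompl (X.presheaf.stalk y) :=
    hU.isLocalization_stalk ⟨y, hy⟩
  haveI : IsLocalizedModule (hU.primeIdealOf ⟨y, hy⟩).asIdeal.primeCompl (H29Fitt.germLin L (⟨y, hy⟩ : U)) :=
    H29Fitt.isLocalizedModule_germLin L hL hU ⟨y, hy⟩
  let e1 : Γ(X, U) ≃ₗ[Γ(X, U)] Γ(L, U) := LinearEquiv.ofBijective (LinearMap.toSpanSingleton _ _ t) ht
  let b0 : Module.Basis Unit Γ(X, U) Γ(L, U) := (Module.Basis.singleton Unit Γ(X, U)).map e1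
  let b1 := b0.ofIsLocalizedModule (X.presheaf.stalk y) (hU.primeIdealOf ⟨y, hy⟩).asIdeal.primeCompl
    (H29Fitt.germLin L (⟨y, hy⟩ : U))
  have hb1 : b1 () = L.presheaf.germ U y hy t := by
    simp only [b1, Module.Basis.ofIsLocalizedModule_apply]
    show L.presheaf.germ U y hy (b0 ()) = _
    simp [b0, e1]
  rw [← hb1]
  refine ⟨fun s s' h => ?_, fun z => ⟨b1.repr z (), ?_⟩⟩
  · have := congrArg (fun w => b1.repr w ()) h
    simpa using this
  · conv_rhs => rw [← b1.sum_repr z]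
    simp

/-- The identifications of an exterior power, over the affine opens. -/
structure Wedge (i : ℕ) (E L : X.Modules) where
  φ : ∀ U : X.affineOpens, Γ(L, U.1) ≃ₗ[Γ(X, U.1)] ↥(⋀[Γ(X, U.1)]^i Γ(E, U.1))
  compat : ∀ (U V : X.affineOpens) (h : V.1 ≤ U.1) (e : Fin i → Γ(E, U.1)),
    L.presheaf.map (homOfLE h).op ((φ U).symm (ιMulti Γ(X, U.1) i e)) =
      (φ V).symm (ιMulti Γ(X, V.1) i fun j => E.presheaf.map (homOfLE h).op (e j))

/-- The wedge of a tuple. -/
def Wedge.w {i : ℕ} {E L : X.Modules} (W : Wedge i E L) (U : X.affineOpens) (e : Fin i → Γ(E, U.1)) : Γ(L, U.1) :=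
  (W.φ U).symm (ιMulti Γ(X, U.1) i e)

theorem Wedge.w_res {i : ℕ} {E L : X.Modules} (W : Wedge i E L) {U V : X.affineOpens} (h : V.1 ≤ U.1)
    (e : Fin i → Γ(E, U.1)) :
    L.presheaf.map (homOfLE h).op (W.w U e) = W.w V fun j => E.presheaf.map (homOfLE h).op (e j) :=
  W.compat U V h e

theorem Wedge.w_eq_det {i : ℕ} {E L : X.Modules} (W : Wedge i E L) {U : X.affineOpens}
    (b : Module.Basis (Fin i) Γ(X, U.1) Γ(E, U.1)) (e : Fin i → Γ(E, U.1)) : W.w U e = b.det e • W.w U b :=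
  (congrArg _ (alt_eq b (ιMulti Γ(X, U.1) i) e)).trans (map_smul (W.φ U).symm _ _)

theorem Wedge.bijective_smul {i : ℕ} {E L : X.Modules} (W : Wedge i E L) {U : X.affineOpens}
    (b : Module.Basis (Fin i) Γ(X, U.1) Γ(E, U.1)) : Function.Bijective (fun s : Γ(X, U.1) => s • W.w U b) := by
  have h : (fun s : Γ(X, U.1) => s • W.w U b) = (W.φ U).symm ∘ topEquiv b := by
    funext s; exact (map_smul (W.φ U).symm s _).symm
  rw [h]
  exact (W.φ U).symm.bijective.comp (topEquiv b).bijective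

variable (WA : Wedge c S.X₁ LA) (WB : Wedge n S.X₂ LB) (WC : Wedge r S.X₃ LC)

/-- The product of the wedges. -/
def wT (U : X.affineOpens) (a : Fin c → Γ(S.X₁, U.1)) (b : Fin r → Γ(S.X₂, U.1)) :
    Γ(CohB1.tensorMod LA LC, U.1) :=
  tm (WA.w U a) (WC.w U fun j => S.g.app U.1 (b j))

/-- A trivialisation over an affine open. -/
structure Triv (U : X.affineOpens) where
  a : Module.Basis (Fin c) Γ(X, U.1) Γ(S.X₁, U.1)
  cb : Module.Basis (Fin r) Γ(X, U.1) Γ(S.X₃, U.1)
  b : Fin r → Γ(S.X₂, U.1)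
  hb : ∀ j, S.g.app U.1 (b j) = cb j
  gen : Function.Bijective fun s : Γ(X, U.1) => s • wT WA WC U a b

variable {WA WC} {U : X.affineOpens}

/-- The map in a trivialisation. -/
def Triv.hom (d : Triv WA WC U) : Γ(CohB1.tensorMod LA LC, U.1) →ₗ[Γ(X, U.1)] Γ(LB, U.1) :=
  (LinearMap.toSpanSingleton Γ(X, U.1) Γ(LB, U.1) (WB.w U (app2 e S d.a d.b))).comp
    (LinearEquiv.ofBijective (LinearMap.toSpanSingleton Γ(X, U.1) Γ(CohB1.tensorMod LA LC, U.1)
      (wT WA WC U d.a d.b)) d.gen).symm.toLinearMap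

theorem Triv.hom_apply (d : Triv WA WC U) (s : Γ(X, U.1)) :
    d.hom e WB (s • wT WA WC U d.a d.b) = s • WB.w U (app2 e S d.a d.b) :=
  congrArg (LinearMap.toSpanSingleton Γ(X, U.1) Γ(LB, U.1) (WB.w U (app2 e S d.a d.b)))
    ((LinearEquiv.ofBijective (LinearMap.toSpanSingleton Γ(X, U.1) Γ(CohB1.tensorMod LA LC, U.1)
      (wT WA WC U d.a d.b)) d.gen).symm_apply_apply s)

theorem Triv.key (hS : S.ShortExact) (d : Triv WA WC U) (a' : Fin c → Γ(S.X₁, U.1)) (b' : Fin r → Γ(S.X₂, U.1)) :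
    d.hom e WB (wT WA WC U a' b') = WB.w U (app2 e S a' b') := by
  have e1 : wT WA WC U a' b' =
      (d.a.det a' * d.cb.det (fun j => S.g.app U.1 (b' j))) • wT WA WC U d.a d.b := by
    show tm _ _ = _ • tm _ _
    rw [WA.w_eq_det d.a, WC.w_eq_det d.cb, tm_smul_left, tm_smul_right, smul_smul,
      show (fun j => S.g.app U.1 (d.b j)) = ⇑d.cb from funext d.hb]
  rw [e1, d.hom_apply]
  exact ((congrArg _ (det_app2 e hS d.a d.cb d.b d.hb a' b')).trans (map_smul (WB.φ U).symm _ _)).symm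

theorem Triv.hom_bijective (hS : S.ShortExact) (d : Triv WA WC U) : Function.Bijective (d.hom e WB) := by
  obtain ⟨B, hB⟩ := exists_basis_app2 e hS d.a d.cb d.b d.hb
  simp only [Triv.hom, LinearMap.coe_comp, LinearEquiv.coe_coe]
  refine Function.Bijective.comp ?_ (LinearEquiv.bijective _)
  show Function.Bijective fun s : Γ(X, U.1) => s • WB.w U (app2 e S d.a d.b)
  rw [← hB]
  exact WB.bijective_smul B

/-- The determinant of a short exact sequence. -/
theorem nonempty_iso (e : Fin c ⊕ Fin r ≃ Fin n) (hS : S.ShortExact)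
    (hA : FlatMod.IsFinLocFreeOfRank c S.X₁) (h₂ : Coh.IsQCoh S.X₂) (hC : FlatMod.IsFinLocFreeOfRank r S.X₃)
    (hLA : ExtPow.IsExtPow c S.X₁ LA) (hLB : ExtPow.IsExtPow n S.X₂ LB) (hLC : ExtPow.IsExtPow r S.X₃ LC) :
    Nonempty (CohB1.tensorMod LA LC ≅ LB) := by
  haveI := hS.epi_g
  have hA' : FlatMod.IsFinLocFree S.X₁ := fun x => by
    obtain ⟨U, hx, h⟩ := hA x; exact ⟨U, c, hx, h⟩
  have hC' : FlatMod.IsFinLocFree S.X₃ := fun x => by
    obtain ⟨U, hx, h⟩ := hC x; exact ⟨U, r, hx, h⟩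
  haveI : S.X₂.IsQuasicoherent := h₂
  haveI : S.X₃.IsQuasicoherent := H8Props.FinLocFree.isQCoh_of_isFinLocFree _ hC'
  have hLA' : Coh.IsQCoh LA :=
    H8Props.FinLocFree.isQCoh_of_isFinLocFree _ (H22Alg.ExtPowHom.finLocFree_of_isExtPow hA' hLA)
  have hLC' : Coh.IsQCoh LC :=
    H8Props.FinLocFree.isQCoh_of_isFinLocFree _ (H22Alg.ExtPowHom.finLocFree_of_isExtPow hC' hLC)
  obtain ⟨φA, hφA⟩ := hLA
  obtain ⟨φB, hφB⟩ := hLB
  obtain ⟨φC, hφC⟩ := hLC
  let WA : Wedge c S.X₁ LA := ⟨fun U => φA U, hφA⟩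
  let WB : Wedge n S.X₂ LB := ⟨fun U => φB U, hφB⟩
  let WC : Wedge r S.X₃ LC := ⟨fun U => φC U, hφC⟩
  let Good : X.Opens → Prop := fun U => ∃ hU : IsAffineOpen U, Nonempty (Triv WA WC (⟨U, hU⟩ : X.affineOpens))
  have hB : ∀ (W : X.Opens) (x : X), x ∈ W → ∃ U, Good U ∧ x ∈ U ∧ U ≤ W := by
    intro W x hx
    obtain ⟨UA, hxA, ⟨eA⟩⟩ := hA x
    obtain ⟨UC, hxC, ⟨eC⟩⟩ := hC x
    obtain ⟨U, hU, hxU, hle⟩ := exists_isAffineOpen_mem_and_subset (x := x) (U := W ⊓ UA ⊓ UC) ⟨⟨hx, hxA⟩, hxC⟩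
    obtain ⟨a⟩ := H8Props.FinLocFree.exists_basis_of_chart S.X₁ eA (fun y hy => (hle hy).1.2)
    obtain ⟨cb⟩ := H8Props.FinLocFree.exists_basis_of_chart S.X₃ eC (fun y hy => (hle hy).2)
    choose b hb using fun j => H10Coh.surjective_app_of_epi S.g hU (cb j)
    refine ⟨U, ⟨hU, ⟨⟨a, cb, b, hb, ?_⟩⟩⟩, hxU, fun y hy => (hle hy).1.1⟩
    have gC : IsGen LC (WC.w ⟨U, hU⟩ fun j => S.g.app U (b j)) := by
      rw [show (fun j => S.g.app U (b j)) = ⇑cb from funext hb]
      exact isGen_of_bijective_smul hLC' hU _ (WC.bijective_smul (U := ⟨U, hU⟩) cb)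
    have hg := (isGen_tm (isGen_of_bijective_smul hLA' hU _ (WA.bijective_smul (U := ⟨U, hU⟩) a)) gC).bijective le_rfl
    simpa [wT, H10Coh.mres_self] using hg
  obtain ⟨γ, hγ⟩ := H17.PrinOmega.exists_hom_of_basis (CohB1.tensorMod LA LC) LB Good hB
    (fun U h => h.choose_spec.some.hom e WB) fun U U' h h' hle s => by
      have hd := h.choose_spec.some.gen.2 s
      obtain ⟨t, rfl⟩ := hd
      generalize h.choose_spec.some = d
      generalize h'.choose_spec.some = d'
      rw [d.hom_apply, Scheme.Modules.map_smul, map_smul, Scheme.Modules.map_smul,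
        WB.w_res (U := ⟨U, h.choose⟩) (V := ⟨U', h'.choose⟩) hle, app2_res e S hle, ← d'.key e WB hS]
      refine congrArg (_ • d'.hom e WB ·) ?_
      show (CohB1.tensorMod LA LC).presheaf.map (homOfLE hle).op (tm _ _) = tm _ _
      rw [tm_res, WA.w_res (U := ⟨U, h.choose⟩) (V := ⟨U', h'.choose⟩) hle,
        WC.w_res (U := ⟨U, h.choose⟩) (V := ⟨U', h'.choose⟩) hle]
      exact congrArg _ (congrArg _ (funext fun j => (H11Tilde.app_map_apply S.g hle (d.b j)).symm))
  haveI : IsIso γ := H22Alg.ExtPowHom.isIso_of_bijective γ Good hB fun U h => by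
    rw [show (γ.app U : Γ(CohB1.tensorMod LA LC, U) → _) = h.choose_spec.some.hom e WB from funext (hγ U h)]
    exact h.choose_spec.some.hom_bijective e WB hS
  exact ⟨asIso γ⟩

end Groth.Agent.H17.FLI.DetSES
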