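import Groth.Agent.H17.FLI.Sheaf

/-!
# The Ext sheaf as homomorphisms out of the top exterior power of the conormal sheaf
-/

set_option autoImplicit false
set_option linter.style.haveILetI false
set_option linter.unusedSectionVars false
set_option synthInstance.maxHeartbeats 400000
set_option maxHeartbeats 1000000
set_option backward.isDefEq.respectTransparency false

universe u

open CategoryTheory CategoryTheory.Limits AlgebraicGeometry Opposite TopologicalSpace exteriorPower
open Groth.Agent.H10Inj.SheafExt Groth.Agent.H16Derived.ProjFormula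

namespace Groth.Agent.H17.FLI

/-- A morphism out of an exterior power from its values on decomposable sections, for the given identifications. -/
theorem exists_hom_of_compat {X : Scheme.{u}} {i : ℕ} {E L : X.Modules}
    (φ : ∀ U : X.affineOpens, Γ(L, U.1) ≃ₗ[Γ(X, U.1)] ↥(⋀[Γ(X, U.1)]^i Γ(E, U.1)))
    (hφ : ∀ (U V : X.affineOpens) (h : V.1 ≤ U.1) (e : Fin i → Γ(E, U.1)),
      L.presheaf.map (homOfLE h).op ((φ U).symm (ιMulti _ i e)) =
        (φ V).symm (ιMulti _ i fun j => E.presheaf.map (homOfLE h).op (e j))) {M : X.Modules}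
    (a : ∀ U : X.affineOpens, ↥(⋀[Γ(X, U.1)]^i Γ(E, U.1)) →ₗ[Γ(X, U.1)] Γ(M, U.1))
    (ha : ∀ (U V : X.affineOpens) (h : V.1 ≤ U.1) (e : Fin i → Γ(E, U.1)),
      a V (ιMulti _ i fun j => E.presheaf.map (homOfLE h).op (e j)) =
        M.presheaf.map (homOfLE h).op (a U (ιMulti _ i e))) :
    ∃ g : L ⟶ M, ∀ U x, g.app U.1 x = a U (φ U x) := by
  obtain ⟨g, hg⟩ := H17.AffHom.exists_hom (M := L) (N := M) (fun U => (a U).comp (φ U).toLinearMap)
    fun U V h x => by
      obtain ⟨y, rfl⟩ := (φ U).symm.surjective x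
      simp only [LinearMap.comp_apply, LinearEquiv.coe_coe, LinearEquiv.apply_symm_apply]
      induction y using H22Alg.ExtPowAlg.induction with
      | hgen e =>
        rw [hφ U V h e, LinearEquiv.apply_symm_apply]
        exact ha U V h e
      | h0 => simp
      | hadd x y hx hy => simp only [map_add, hx, hy]
      | hsmul r x hx => simp only [map_smul, Scheme.Modules.map_smul, hx]
  exact ⟨g, hg⟩

/-- The map to the sheaf Hom induced by a map into a sheaf Hom, with the variables exchanged. -/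
noncomputable def flipFun {X : Scheme.{u}} {L E M : X.Modules} (θ : L ⟶ RefHull.homSh E M) (U : X.Opens) :
    Γ(E, U) →+ Γ(RefHull.homSh L M, U) where
  toFun s := ⟨fun y => (LinearMap.applyₗ (E.presheaf.germ U y.1 y.2 s)).comp
      ((RefHull.evalStalk E M y.1).comp (RefHull.stalkMapₗ θ y.1)),
    fun V i l x => by
      obtain ⟨W, hW, j, n, w⟩ := RefHull.isLocSect_of_mem (θ.app V l) V (𝟙 V) (E.presheaf.map i.op s) x
      refine ⟨W, hW, j, n, fun y => ?_⟩
      refine Eq.trans ?_ (w y)
      show RefHull.evalStalk E M y.1 (RefHull.stalkMapₗ θ y.1 (L.presheaf.germ V y.1 (j.le y.2) l))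
        (E.presheaf.germ U y.1 _ s) = _
      rw [RefHull.stalkMapₗ_germ, RefHull.evalStalk_germ, TopCat.Presheaf.germ_res_apply]⟩
  map_zero' := Subtype.ext <| funext fun y => by
    simp only [map_zero]
    exact LinearMap.zero_comp _
  map_add' s t := Subtype.ext <| funext fun y => by
    simp only [map_add]
    exact LinearMap.add_comp _ _ _

/-- The morphism exchanging the variables. -/
noncomputable def flipHom {X : Scheme.{u}} {L E M : X.Modules} (θ : L ⟶ RefHull.homSh E M) :
    E ⟶ RefHull.homSh L M :=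
  ⟨PresheafOfModules.homMk
    { app := fun U => AddCommGrpCat.ofHom (flipFun θ U.unop)
      naturality := fun {U V} i => by
        ext s
        refine Subtype.ext (funext fun y => LinearMap.ext fun l => ?_)
        exact congrArg (fun e => RefHull.evalStalk E M y.1 (RefHull.stalkMapₗ θ y.1 l) e)
          (TopCat.Presheaf.germ_res_apply' E.presheaf i y.1 y.2 s) }
    (fun U r s => Subtype.ext <| funext fun y => LinearMap.ext fun l =>
      (congrArg (fun e => RefHull.evalStalk E M y.1 (RefHull.stalkMapₗ θ y.1 l) e)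
        (Mero.germ_smul E U.unop y.1 y.2 r s)).trans (map_smul _ _ _))⟩

theorem flipHom_app {X : Scheme.{u}} {L E M : X.Modules} (θ : L ⟶ RefHull.homSh E M) (U : X.Opens) (s : Γ(E, U))
    (y : U) (l : L.presheaf.stalk y.1) :
    ((flipHom θ).app U s).1 y l = RefHull.evalStalk E M y.1 (RefHull.stalkMapₗ θ y.1 l) (E.presheaf.germ U y.1 y.2 s) :=
  rfl

variable {X P : Scheme.{u}} (ι : X ⟶ P) [IsClosedImmersion ι] [IsLocallyNoetherian P]
  {M : X.Modules} (J : InjectiveResolution ((push ι).obj M)) (hFP : CohB1.IsFP (O' ι)) {r : ℕ}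
  (hι : RegImm.IsRegularImmersionOfCodim RegImm.Kind.regular r ι)

include hFP hι in
/-- The fundamental local isomorphism for modules on the closed subscheme. -/
theorem nonempty_extE_iso {L : X.Modules} (hL : ExtPow.IsExtPow r (Omega.conormal ι) L) :
    Nonempty (extE ι J r ≅ RefHull.homSh L M) := by
  obtain ⟨φ₀, hφ₀⟩ := hL
  let E := extE ι J r
  let φ : ∀ U : X.affineOpens, Γ(L, U.1) ≃ₗ[Γ(X, U.1)] ↥(⋀[Γ(X, U.1)]^r Γ(Omega.conormal ι, U.1)) := fun U => φ₀ U
  have hφ : ∀ (U V : X.affineOpens) (h : V.1 ≤ U.1) (e : Fin r → Γ(Omega.conormal ι, U.1)),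
      L.presheaf.map (homOfLE h).op ((φ U).symm (ιMulti _ r e)) =
        (φ V).symm (ιMulti _ r fun j => (Omega.conormal ι).presheaf.map (homOfLE h).op (e j)) := hφ₀
  let a : ∀ U : X.affineOpens, ↥(⋀[Γ(X, U.1)]^r Γ(Omega.conormal ι, U.1)) →ₗ[Γ(X, U.1)]
      Γ(RefHull.homSh E M, U.1) := fun U => alternatingMapLinearEquiv (altSec J hFP hι U.1)
  obtain ⟨θ, hθ⟩ := exists_hom_of_compat φ hφ a fun U V h e => by
    simp only [a, alternatingMapLinearEquiv_apply_ιMulti]
    refine Subtype.ext (funext fun y => LinearMap.ext fun v => ?_)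
    show psiE ι J hFP r y.1 v (fun j => (Omega.conormal ι).presheaf.germ V.1 y.1 y.2 _) =
      psiE ι J hFP r y.1 v (fun j => (Omega.conormal ι).presheaf.germ U.1 y.1 (h y.2) (e j))
    exact congrArg _ (funext fun j => germ_map (Omega.conormal ι) h y.1 y.2 (e j))
  -- the value of a wedge
  have hval : ∀ (W : X.affineOpens) (c : Fin r → Γ(Omega.conormal ι, W.1)) (y : X) (hy : y ∈ W.1)
      (e : E.presheaf.stalk y),
      RefHull.evalStalk E M y (RefHull.stalkMapₗ θ y (L.presheaf.germ W.1 y hy ((φ W).symm (ιMulti _ r c)))) e =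
        psiE ι J hFP r y e (fun i => (Omega.conormal ι).presheaf.germ W.1 y hy (c i)) := by
    intro W c y hy e
    rw [RefHull.stalkMapₗ_germ, RefHull.evalStalk_germ, hθ, LinearEquiv.apply_symm_apply]
    show (alternatingMapLinearEquiv (altSec J hFP hι W.1) (ιMulti _ r c)).1 ⟨y, hy⟩ e = _
    rw [alternatingMapLinearEquiv_apply_ιMulti]
    rfl
  refine ⟨?_⟩
  haveI : IsIso (flipHom θ) := by
    refine Groth.Agent.H16Derived.KFlat.Stalk.isIso_of_stalk _ fun x => (ConcreteCategory.isIso_iff_bijective _).2 ?_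
    show Function.Bijective ((TopCat.Presheaf.stalkFunctor Ab.{u} x).map (flipHom θ).mapPresheaf)
    obtain ⟨C, hx⟩ := exists_chart_at ι r hι x
    obtain ⟨W, hW, hxW, hWC⟩ := exists_isAffineOpen_mem_and_subset (X := X) (x := x) (U := ι ⁻¹ᵁ C.U.1) hx
    let gW : Fin r → Γ(Omega.conormal ι, W) := fun i => (Omega.conormal ι).presheaf.map (homOfLE hWC).op (C.g i)
    let lg : Γ(L, W) := (φ ⟨W, hW⟩).symm (ιMulti _ r gW)
    have hgerm : ∀ (y : X) (hy : y ∈ W) (e : E.presheaf.stalk y),
        RefHull.evalStalk E M y (RefHull.stalkMapₗ θ y (L.presheaf.germ W y hy lg)) e =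
          psiE ι J hFP r y e (fun i => (Omega.conormal ι).presheaf.germ (ι ⁻¹ᵁ C.U.1) y (hWC hy) (C.g i)) := by
      intro y hy e
      refine (hval ⟨W, hW⟩ gW y hy e).trans ?_
      exact congrArg _ (funext fun j => germ_map (Omega.conormal ι) hWC y hy (C.g j))
    have hspan : ∀ (y : X) (hy : y ∈ W) (t : L.presheaf.stalk y),
        ∃ b : X.presheaf.stalk y, t = b • L.presheaf.germ W y hy lg := by
      intro y hy t
      obtain ⟨W1, hy1, l, rfl⟩ := L.presheaf.exists_germ_eq t
      obtain ⟨W2, hW2, hy2, hle2⟩ := exists_isAffineOpen_mem_and_subset (X := X) (x := y) (U := W1 ⊓ W) ⟨hy1, hy⟩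
      rw [← germ_map L (fun z hz => (hle2 hz).1 : W2 ≤ W1) y hy2 l]
      obtain ⟨w, hw⟩ := (φ ⟨W2, hW2⟩).symm.surjective (L.presheaf.map (homOfLE (fun z hz => (hle2 hz).1 : W2 ≤ W1)).op l)
      rw [← hw]
      clear hw
      induction w using H22Alg.ExtPowAlg.induction with
      | hgen c =>
        choose W3 hy3 hW32 hW3C b hb using fun i => C.exists_comb (c i) y hy2 (hWC (hle2 hy2).2)
        let W4 : X.Opens := W2 ⊓ ⟨⋂ i, (W3 i : Set X), isOpen_iInter_of_finite fun i => (W3 i).isOpen⟩
        obtain ⟨W5, hW5, hy5, hle5⟩ := exists_isAffineOpen_mem_and_subset (X := X) (x := y) (U := W4)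
          ⟨hy2, Set.mem_iInter.2 hy3⟩
        have h53 : ∀ i, W5 ≤ W3 i := fun i z hz => Set.mem_iInter.1 (hle5 hz).2 i
        have h52 : W5 ≤ W2 := fun z hz => (hle5 hz).1
        have h5W : W5 ≤ W := fun z hz => (hle2 (h52 hz)).2
        let A : Matrix (Fin r) (Fin r) Γ(X, W5) := Matrix.of fun i j => X.presheaf.map (homOfLE (h53 i)).op (b i j)
        let g5 : Fin r → Γ(Omega.conormal ι, W5) := fun j => (Omega.conormal ι).presheaf.map (homOfLE h5W).op (gW j)
        have hc : (fun i => (Omega.conormal ι).presheaf.map (homOfLE h52).op (c i)) = fun i => ∑ j, A i j • g5 j := by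
          funext i
          refine section_ext _ _ _ fun z hz => ?_
          rw [germ_map, hb i z (h53 i hz), map_sum]
          refine Finset.sum_congr rfl fun j _ => ?_
          refine Eq.trans ?_ (Mero.germ_smul (Omega.conormal ι) W5 z hz (A i j) (g5 j)).symm
          simp only [g5, gW, A, Matrix.of_apply, TopCat.Presheaf.germ_res_apply]
          exact congrArg _ (germ_map (Omega.conormal ι) hWC z (h5W hz) (C.g j)).symm
        refine ⟨X.presheaf.germ W5 y hy5 A.det, ?_⟩
        rw [← germ_map L h52 y hy5, hφ ⟨W2, hW2⟩ ⟨W5, hW5⟩ h52 c, hc, alt_det, map_smul, Mero.germ_smul,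
          ← hφ ⟨W, hW⟩ ⟨W5, hW5⟩ h5W gW, germ_map]
      | h0 => exact ⟨0, by simp only [map_zero, zero_smul]⟩
      | hadd p q hp hq =>
        obtain ⟨b, hb⟩ := hp
        obtain ⟨b', hb'⟩ := hq
        exact ⟨b + b', by rw [map_add, map_add, hb, hb', add_smul]⟩
      | hsmul s p hp =>
        obtain ⟨b, hb⟩ := hp
        exact ⟨X.presheaf.germ W2 y hy2 s * b, by rw [map_smul, Mero.germ_smul, hb, mul_smul]⟩
    constructor
    · refine (injective_iff_map_eq_zero _).2 fun e he => ?_
      obtain ⟨V, hxV, s, rfl⟩ := E.presheaf.exists_germ_eq e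
      rw [TopCat.Presheaf.stalkFunctor_map_germ_apply] at he
      apply (C.psiE_bijective J hFP x hx).1
      show psiE ι J hFP r x _ _ = psiE ι J hFP r x 0 _
      rw [map_zero, AlternatingMap.zero_apply, ← hgerm x hxW]
      have h := congrArg (fun F => RefHull.evalStalk L M x F (L.presheaf.germ W x hxW lg)) he
      simp only [map_zero, LinearMap.zero_apply] at h
      refine Eq.trans ?_ h
      rw [Scheme.Modules.mapPresheaf_app, RefHull.evalStalk_germ]
      exact (flipHom_app θ V s ⟨x, hxV⟩ _).symm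
    · intro F
      obtain ⟨V, hxV, F, rfl⟩ := (RefHull.homSh L M).presheaf.exists_germ_eq F
      obtain ⟨e, he⟩ := (C.psiE_bijective J hFP x hx).2 (F.1 ⟨x, hxV⟩ (L.presheaf.germ W x hxW lg))
      obtain ⟨V', hxV', s, rfl⟩ := E.presheaf.exists_germ_eq e
      refine ⟨E.presheaf.germ V' x hxV' s, ?_⟩
      rw [TopCat.Presheaf.stalkFunctor_map_germ_apply]
      let V0 : X.Opens := V ⊓ V' ⊓ W
      have h0 : x ∈ V0 := ⟨⟨hxV, hxV'⟩, hxW⟩
      let l0 : Γ(L, V0) := L.presheaf.map (homOfLE inf_le_right).op lg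
      obtain ⟨A, hxA, iA, nA, hA⟩ := RefHull.isLocSect_of_mem F V0 (homOfLE (inf_le_left.trans inf_le_left)) l0 ⟨x, h0⟩
      obtain ⟨B, hxB, iB, nB, hB⟩ := RefHull.isLocSect_of_mem ((flipHom θ).app V' s) V0
        (homOfLE (inf_le_left.trans inf_le_right)) l0 ⟨x, h0⟩
      obtain ⟨D, hxD, hDB, hDA, hD⟩ := exists_nhds_germ_eq M hxB hxA nB nA (by
        rw [← hB ⟨x, hxB⟩, ← hA ⟨x, hxA⟩, germ_map, flipHom_app, hgerm x hxW]
        exact he)
      have hD0 : D ≤ V0 := hDA.trans iA.le
      have hDV' : D ≤ V' := fun z hz => (hD0 hz).1.2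
      have hDV : D ≤ V := fun z hz => (hD0 hz).1.1
      show (RefHull.homSh L M).presheaf.germ V' x hxV' ((flipHom θ).app V' s) = _
      rw [← germ_map (RefHull.homSh L M) hDV' x hxD, ← germ_map (RefHull.homSh L M) hDV x hxD F]
      refine congrArg _ (Subtype.ext (funext fun y => LinearMap.ext fun t => ?_))
      obtain ⟨b, rfl⟩ := hspan y.1 (hD0 y.2).2 t
      rw [map_smul, map_smul]
      refine congrArg _ ?_
      have h := ((hB ⟨y.1, hDB y.2⟩).trans (hD y.1 y.2)).trans (hA ⟨y.1, hDA y.2⟩).symm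
      rw [germ_map] at h
      exact h
  exact asIso (flipHom θ)

include hFP hι in
/-- The Ext sheaf out of the closed subscheme into a module on it. -/
theorem nonempty_extH_iso {L : X.Modules} (hL : ExtPow.IsExtPow r (Omega.conormal ι) L) :
    Nonempty (extH ι J r ≅ (push ι).obj (RefHull.homSh L M)) := by
  obtain ⟨e⟩ := nonempty_extE_iso ι J hFP hι hL
  haveI := isIso_unit_of_killed ι (killed_extH ι J hFP r)
  exact ⟨asIso ((adj ι).unit.app (extH ι J r)) ≪≫ (push ι).mapIso e⟩

end Groth.Agent.H17.FLI
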