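import Mathlib.LinearAlgebra.Determinant
import Mathlib.LinearAlgebra.Alternating.Basic

/-!
# Alternating maps and determinants
-/

set_option autoImplicit false

universe u v w

namespace Groth.Agent.H17.FLI

variable {R : Type u} [CommRing R] {N : Type v} [AddCommGroup N] [Module R N] {M : Type w} [AddCommGroup M] [Module R M]

/-- An alternating map on combinations of `g` is the determinant times its value at `g`. -/
theorem alt_det {r : ℕ} (f : M [⋀^Fin r]→ₗ[R] N) (g : Fin r → M) (a : Matrix (Fin r) (Fin r) R) :
    f (fun i => ∑ j, a i j • g j) = a.det • f g := by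
  let b := Pi.basisFun R (Fin r)
  let L : (Fin r → R) →ₗ[R] M := b.constr R g
  have key : f.compLinearMap L = (LinearMap.toSpanSingleton R N (f g)).compAlternatingMap b.det := by
    refine Module.Basis.ext_alternating b fun i hi => ?_
    let σ : Equiv.Perm (Fin r) := Equiv.ofBijective i (Finite.injective_iff_bijective.1 hi)
    show f (fun j => L (b (σ j))) = b.det (fun j => b (σ j)) • f g
    rw [show (fun j => b (σ j)) = b ∘ σ from rfl, AlternatingMap.map_perm, Module.Basis.det_self,
      show (fun j => L (b (σ j))) = g ∘ σ from funext fun j => b.constr_basis R g (σ j), AlternatingMap.map_perm]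
    simp only [Units.smul_def, smul_assoc, one_smul]
  have h := DFunLike.congr_fun key fun i => a i
  have hL : ∀ i, L (a i) = ∑ j, a i j • g j := fun i => by
    simp [L, b, Module.Basis.constr_apply_fintype]
  simp only [AlternatingMap.compLinearMap_apply, hL] at h
  refine h.trans ?_
  show b.det (fun i => a i) • f g = _
  rw [Module.Basis.det_apply]
  congr 1
  rw [show b.toMatrix (fun i => a i) = a.transpose from Matrix.ext fun i j => by simp [b, Module.Basis.toMatrix_apply],
    Matrix.det_transpose]

end Groth.Agent.H17.FLI
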