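import Groth.Agent.H17.FLI.Spread
import Groth.Agent.H17.FLI.AltDet
import Groth.Agent.H22Alg.ExtPowHom

/-!
# The fundamental local isomorphism for modules on the closed subscheme
-/

set_option autoImplicit false
set_option linter.style.haveILetI false
set_option linter.unusedSectionVars false
set_option synthInstance.maxHeartbeats 400000
set_option maxHeartbeats 1000000
set_option backward.isDefEq.respectTransparency false

universe u

open CategoryTheory CategoryTheory.Limits AlgebraicGeometry Opposite TopologicalSpace exteriorPower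
open Groth.Agent.H10Inj.SheafExt Groth.Agent.H16Derived.ProjFormula

namespace Groth.Agent.H17.FLI

theorem section_ext {Y : Scheme.{u}} (M : Y.Modules) {U : Y.Opens} (s t : Γ(M, U))
    (h : ∀ (y : Y) (hy : y ∈ U), M.presheaf.germ U y hy s = M.presheaf.germ U y hy t) : s = t :=
  TopCat.Presheaf.section_ext (⟨M.presheaf, M.isSheaf⟩ : TopCat.Sheaf Ab.{u} Y) U s t h

theorem germ_map {Y : Scheme.{u}} (M : Y.Modules) {U W : Y.Opens} (h : W ≤ U) (y : Y) (hy : y ∈ W) (s : Γ(M, U)) :
    M.presheaf.germ W y hy (M.presheaf.map (homOfLE h).op s) = M.presheaf.germ U y (h hy) s :=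
  M.presheaf.germ_res_apply _ _ _ _

variable {X P : Scheme.{u}} (ι : X ⟶ P) [IsClosedImmersion ι] [IsLocallyNoetherian P]
  {M : X.Modules} (J : InjectiveResolution ((push ι).obj M)) (hFP : CohB1.IsFP (O' ι)) (r : ℕ)

/-- The Ext sheaf. -/
noncomputable abbrev extH : P.Modules := (homCx ι J).homology r

include hFP in
theorem killed_extH : Killed ι (extH ι J r) := by
  refine ⟨fun x a ha h => ?_, fun y hy => ?_⟩
  · obtain ⟨z, hz⟩ := exists_rep ι x J h
    have h1 := rep_smul ι x J a hz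
    rw [(rep_zc ι x J hz).2 a ha] at h1
    obtain ⟨c, hc, hc'⟩ := h1
    have h0 : Rep ι x J r 0 (0 : (stalkRes J (ι.base x)).K r) :=
      ⟨0, map_zero _, (congrArg _ (map_zero _)).trans (map_zero _)⟩
    obtain ⟨c0, hc0, hc0'⟩ := h0
    rw [← hc, ← hc0, iCycles_stalk_injective ι x J r (evOne_injective ι x hFP _ (hc'.trans hc0'.symm))]
  · haveI hO : Subsingleton ((O' ι).presheaf.stalk y) := subsingleton_stalk_push ι _ y hy
    haveI : Subsingleton (((homFunctor (O' ι)).obj (J.cocomplex.X r)).presheaf.stalk y) :=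
      ⟨fun a b => (H29Ref.evalStalk_bijective (O' ι) (J.cocomplex.X r) hFP y).1
        (LinearMap.ext fun σ => by rw [Subsingleton.elim σ 0, map_zero, map_zero])⟩
    have hi : Function.Injective ((DerSch.stalkFunctor P y).map ((homCx ι J).iCycles r)) := by
      haveI : Mono ((DerSch.stalkFunctor P y).map ((homCx ι J).iCycles r)) := inferInstance
      exact (ModuleCat.mono_iff_injective _).1 inferInstance
    have hp : Function.Surjective ((DerSch.stalkFunctor P y).map ((homCx ι J).homologyπ r)) := by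
      haveI : Epi ((DerSch.stalkFunctor P y).map ((homCx ι J).homologyπ r)) := inferInstance
      exact (ModuleCat.epi_iff_surjective _).1 inferInstance
    refine ⟨fun a b => ?_⟩
    obtain ⟨a, rfl⟩ := hp a
    obtain ⟨b, rfl⟩ := hp b
    exact congrArg _ (hi (Subsingleton.elim (α := ((homFunctor (O' ι)).obj (J.cocomplex.X r)).presheaf.stalk y) _ _))

/-- The Ext sheaf on the closed subscheme. -/
noncomputable abbrev extE : X.Modules := (pull ι).obj (extH ι J r)

/-- The pairing with conormal classes at a point. -/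
noncomputable def psiE (x : X) : (extE ι J r).presheaf.stalk x →ₗ[X.presheaf.stalk x]
    ((Omega.conormal ι).presheaf.stalk x [⋀^Fin r]→ₗ[X.presheaf.stalk x] M.presheaf.stalk x) where
  toFun e := psi ι x r J hFP (Function.surjInv (pullStalk_bijective_of_killed ι (killed_extH ι J hFP r) x).2 e)
  map_add' a b := by
    have hb := pullStalk_bijective_of_killed ι (killed_extH ι J hFP r) x
    obtain ⟨a, rfl⟩ := hb.2 a
    obtain ⟨b, rfl⟩ := hb.2 b
    rw [← map_add, Function.leftInverse_surjInv hb (a + b), Function.leftInverse_surjInv hb a,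
      Function.leftInverse_surjInv hb b]
    exact psi_add ι x r J hFP a b
  map_smul' t a := by
    have hb := pullStalk_bijective_of_killed ι (killed_extH ι J hFP r) x
    obtain ⟨a, rfl⟩ := hb.2 a
    obtain ⟨t, rfl⟩ := stalkMap_surj ι x t
    rw [← H06Mod.pullStalk_smul, Function.leftInverse_surjInv hb (t • a), Function.leftInverse_surjInv hb a]
    exact psi_smul ι x r J hFP t a

theorem psiE_pullStalk (x : X) (h : (extH ι J r).presheaf.stalk (ι.base x)) :
    psiE ι J hFP r x (H06Mod.pullStalk ι (extH ι J r) x h) = psi ι x r J hFP h :=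
  congrArg (psi ι x r J hFP)
    (Function.leftInverse_surjInv (pullStalk_bijective_of_killed ι (killed_extH ι J hFP r) x) h)

/-- A regular chart: an affine open of `P` with a regular sequence cutting out `X`. -/
structure Chart where
  U : P.affineOpens
  f : Fin r → Γ(P, U.1)
  mem : ∀ i, f i ∈ ι.ker.ideal U
  regular : ∀ (y : X) (hy : ι.base y ∈ U.1), Res.Regular (fun i => P.presheaf.germ U.1 (ι.base y) hy (f i))
  span : ∀ (y : X) (hy : ι.base y ∈ U.1),
    Res.spanOf (fun i => P.presheaf.germ U.1 (ι.base y) hy (f i)) = idI ι y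

theorem exists_chart_at (hι : RegImm.IsRegularImmersionOfCodim RegImm.Kind.regular r ι) (x : X) :
    ∃ C : Chart ι r, ι.base x ∈ C.U.1 := by
  obtain ⟨U, hx, f, hf, h⟩ := exists_chart ι hι x
  exact ⟨⟨U, f, hf, fun y hy => (h y hy).1, fun y hy => (h y hy).2⟩, hx⟩

variable {ι r} (C : Chart ι r)

/-- The ideal sections of a chart. -/
noncomputable def Chart.m (i : Fin r) : Γ(ClSub.idealMod ι.ker, C.U.1) :=
  ((H29Blow.mem_ideal_iff_exists_idealSect ι.ker C.U.2 (C.f i)).1 (C.mem i)).choose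

theorem Chart.idealSect_m (i : Fin r) : OmegaSh.idealSect ι.ker C.U.1 (C.m i) = C.f i :=
  ((H29Blow.mem_ideal_iff_exists_idealSect ι.ker C.U.2 (C.f i)).1 (C.mem i)).choose_spec

/-- The conormal classes of a chart. -/
noncomputable def Chart.g (i : Fin r) : Γ(Omega.conormal ι, ι ⁻¹ᵁ C.U.1) := OmegaSh.conormalSect ι C.U.1 (C.m i)

/-- The equations of a chart in a local ring. -/
noncomputable def Chart.fI (y : X) (hy : ι.base y ∈ C.U.1) (i : Fin r) : idI ι y :=
  ⟨P.presheaf.germ C.U.1 (ι.base y) hy (C.f i), by rw [← C.span y hy]; exact Ideal.subset_span ⟨i, rfl⟩⟩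

theorem Chart.germ_g (y : X) (hy : ι.base y ∈ C.U.1) (i : Fin r) :
    (Omega.conormal ι).presheaf.germ (ι ⁻¹ᵁ C.U.1) y hy (C.g i) = H29Omega.cgen ι y (C.fI y hy i) :=
  (H29Omega.cgen_germ ι y C.U.1 hy (C.m i) (C.fI y hy i) (by rw [C.idealSect_m]; rfl)).symm

theorem Chart.psiE_bijective (y : X) (hy : ι.base y ∈ C.U.1) :
    Function.Bijective fun e => psiE ι J hFP r y e fun i =>
      (Omega.conormal ι).presheaf.germ (ι ⁻¹ᵁ C.U.1) y hy (C.g i) := by
  have hb := pullStalk_bijective_of_killed ι (killed_extH ι J hFP r) y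
  have h := psi_bijective ι y r J hFP (C.fI y hy) (C.regular y hy) (C.span y hy)
  have e : (fun e => psiE ι J hFP r y e fun i =>
      (Omega.conormal ι).presheaf.germ (ι ⁻¹ᵁ C.U.1) y hy (C.g i)) =
      (fun h => psi ι y r J hFP h fun i => H29Omega.cgen ι y (C.fI y hy i)) ∘ Function.surjInv hb.2 := by
    funext e
    simp only [C.germ_g y hy]
    rfl
  rw [e]
  exact h.comp ⟨Function.injective_surjInv hb.2, fun h => ⟨_, Function.leftInverse_surjInv hb h⟩⟩

/-- Near a point a section of the conormal sheaf is a combination of the classes of a chart. -/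
theorem Chart.exists_comb {V : X.Opens} (c : Γ(Omega.conormal ι, V)) (x : X) (hxV : x ∈ V)
    (hx : ι.base x ∈ C.U.1) :
    ∃ (W : X.Opens) (_ : x ∈ W) (hWV : W ≤ V) (hWU : W ≤ ι ⁻¹ᵁ C.U.1) (a : Fin r → Γ(X, W)),
      ∀ (y : X) (hy : y ∈ W), (Omega.conormal ι).presheaf.germ V y (hWV hy) c =
        ∑ j, X.presheaf.germ W y hy (a j) • (Omega.conormal ι).presheaf.germ (ι ⁻¹ᵁ C.U.1) y (hWU hy) (C.g j) := by
  obtain ⟨a0, ha0⟩ := cgen_surjective ι x ((Omega.conormal ι).presheaf.germ V x hxV c)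
  have hmem : (a0 : P.presheaf.stalk (ι.base x)) ∈ Res.spanOf (fun i => P.presheaf.germ C.U.1 (ι.base x) hx (C.f i)) :=
    (C.span x hx).symm ▸ a0.2
  obtain ⟨b, hb⟩ := (Submodule.mem_span_range_iff_exists_fun _).1 hmem
  have ha : a0 = ∑ j, b j • C.fI x hx j :=
    Subtype.ext (by simp only [AddSubmonoidClass.coe_finsetSum, Submodule.coe_smul]; exact hb.symm)
  rw [ha, map_sum] at ha0
  simp only [H29Omega.cgen_smul, ← C.germ_g x hx] at ha0
  choose Wb hWb s hs using fun j => X.presheaf.exists_germ_eq ((ι.stalkMap x).hom (b j))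
  let W0 : X.Opens := V ⊓ ι ⁻¹ᵁ C.U.1 ⊓ ⟨⋂ j, (Wb j : Set X), isOpen_iInter_of_finite fun j => (Wb j).isOpen⟩
  have h0 : x ∈ W0 := ⟨⟨hxV, hx⟩, Set.mem_iInter.2 hWb⟩
  have hle : ∀ j, W0 ≤ Wb j := fun j y hy => Set.mem_iInter.1 hy.2 j
  have hleU : W0 ≤ ι ⁻¹ᵁ C.U.1 := fun y hy => hy.1.2
  let a : Fin r → Γ(X, W0) := fun j => X.presheaf.map (homOfLE (hle j)).op (s j)
  let S : Γ(Omega.conormal ι, W0) := ∑ j, a j • (Omega.conormal ι).presheaf.map (homOfLE hleU).op (C.g j)
  have hS : ∀ (y : X) (hy : y ∈ W0), (Omega.conormal ι).presheaf.germ W0 y hy S =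
      ∑ j, X.presheaf.germ W0 y hy (a j) • (Omega.conormal ι).presheaf.germ (ι ⁻¹ᵁ C.U.1) y (hleU hy) (C.g j) := by
    intro y hy
    refine (map_sum _ _ _).trans (Finset.sum_congr rfl fun j _ => ?_)
    refine (Mero.germ_smul (Omega.conormal ι) W0 y hy _ _).trans ?_
    rw [germ_map]
  obtain ⟨W, hxW, hWV, hW0, h⟩ := exists_nhds_germ_eq (Omega.conormal ι) hxV h0 c S (by
    rw [hS x h0, ← ha0]
    refine Finset.sum_congr rfl fun j _ => congrArg (· • _) ?_
    rw [← hs j]
    exact (X.presheaf.germ_res_apply _ _ _ _).symm)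
  refine ⟨W, hxW, hWV, hW0.trans hleU, fun j => X.presheaf.map (homOfLE hW0).op (a j), fun y hy => ?_⟩
  rw [h y hy, hS y (hW0 hy)]
  simp only [TopCat.Presheaf.germ_res_apply]

/-- The values of a section of the Ext sheaf on the classes of a chart come from a section. -/
theorem Chart.exists_psiE_g {V : X.Opens} (s : Γ(extE ι J r, V)) (x : X) (hxV : x ∈ V) (hx : ι.base x ∈ C.U.1) :
    ∃ (W : X.Opens) (_ : x ∈ W) (hWV : W ≤ V) (hWU : W ≤ ι ⁻¹ᵁ C.U.1) (n : Γ(M, W)), ∀ (y : X) (hy : y ∈ W),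
      psiE ι J hFP r y ((extE ι J r).presheaf.germ V y (hWV hy) s)
        (fun i => (Omega.conormal ι).presheaf.germ (ι ⁻¹ᵁ C.U.1) y (hWU hy) (C.g i)) =
      M.presheaf.germ W y hy n := by
  obtain ⟨h0, hh0⟩ := (pullStalk_bijective_of_killed ι (killed_extH ι J hFP r) x).2
    ((extE ι J r).presheaf.germ V x hxV s)
  obtain ⟨c0, rfl⟩ := homologyπ_stalk_surjective ι x J r h0
  obtain ⟨U1, hx1, c, rfl⟩ := ((homCx ι J).cycles r).presheaf.exists_germ_eq c0
  -- the cochain of the cycle
  let θ := ((homCx ι J).iCycles r).app U1 c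
  obtain ⟨U2, hx2, j, ζ, hζ⟩ := RefHull.isLocSect_of_mem θ U1 (𝟙 U1)
    ((O' ι).presheaf.map (homOfLE le_top).op (1 : Γ(X, ι ⁻¹ᵁ ⊤))) ⟨ι.base x, hx1⟩
  have hrep : ∀ (y : X) (hy : ι.base y ∈ U2), Rep ι y J r
      ((extH ι J r).presheaf.germ U1 (ι.base y) (j.le hy) (((homCx ι J).homologyπ r).app U1 c))
      (gm ι J r U2 (ι.base y) hy ζ) := by
    intro y hy
    refine ⟨((homCx ι J).cycles r).presheaf.germ U1 (ι.base y) (j.le hy) c,
      DerSch.stalkFunctor_map_germ _ _ _ _ _, ?_⟩
    show RefHull.evalStalk _ _ _ ((DerSch.stalkFunctor P (ι.base y)).map ((homCx ι J).iCycles r) _) (oneGerm ι y) = _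
    erw [DerSch.stalkFunctor_map_germ]
    refine (LinearMap.congr_fun (RefHull.evalAdd_germ (O' ι) (J.cocomplex.X r) (ι.base y) (j.le hy) θ) _).trans ?_
    refine Eq.trans (congrArg _ ?_) (hζ ⟨ι.base y, hy⟩)
    exact (germ_map (O' ι) le_top (ι.base y) (j.le hy) _).symm
  rw [DerSch.stalkFunctor_map_germ, H06Mod.pullStalk_germ] at hh0
  obtain ⟨W1, hxW1, hW11, hW1V, h1⟩ := exists_nhds_germ_eq (extE ι J r) (hU := (show x ∈ ι ⁻¹ᵁ U1 from hx1))
    (hV := hxV) _ s hh0
  let U3 : P.Opens := U2 ⊓ C.U.1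
  have hx3 : ι.base x ∈ U3 := ⟨hx2, hx⟩
  have h3 : U3 ≤ C.U.1 := inf_le_right
  let ζ3 : Γ(J.cocomplex.X r, U3) := (J.cocomplex.X r).presheaf.map (homOfLE inf_le_left).op ζ
  have hg3 : ∀ (y : X) (hy : ι.base y ∈ U3), gm ι J r U3 (ι.base y) hy ζ3 = gm ι J r U2 (ι.base y) hy.1 ζ :=
    fun y hy => germ_map (J.cocomplex.X r) inf_le_left (ι.base y) hy ζ
  obtain ⟨V', hxV', hV3, n, hn⟩ := exists_op_section ι J C.f h3 ζ3 x hx3 (C.regular x hx) (by
    rw [C.span x hx, hg3]
    exact rep_zc ι x J (hrep x hx2))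
  refine ⟨W1 ⊓ ι ⁻¹ᵁ V', ⟨hxW1, hxV'⟩, inf_le_left.trans hW1V, fun y hy => (hV3 hy.2).2,
    M.presheaf.map (homOfLE inf_le_right).op n, fun y hy => ?_⟩
  have hy2 : ι.base y ∈ U2 := (hV3 hy.2).1
  have hyC : ι.base y ∈ C.U.1 := (hV3 hy.2).2
  rw [germ_map, ← h1 y hy.1, ← H06Mod.pullStalk_germ ι (extH ι J r) y U1 (j.le hy2), psiE_pullStalk]
  simp only [C.germ_g y hyC, psi_cgen]
  apply val_injective ι y J
  rw [opF_spec ι y r J hFP (hrep y hy2) rfl fun i => hm ι y J (C.fI y hyC i), hn y hy.2 fun i => hm ι y J (C.fI y hyC i),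
    hg3 y (hV3 hy.2)]

variable (hι : RegImm.IsRegularImmersionOfCodim RegImm.Kind.regular r ι)

include hι in
/-- The values of a section of the Ext sheaf on conormal sections come from a section. -/
theorem exists_psiE_section {V : X.Opens} (c : Fin r → Γ(Omega.conormal ι, V)) (s : Γ(extE ι J r, V)) (x : X)
    (hxV : x ∈ V) :
    ∃ (W : X.Opens) (_ : x ∈ W) (hWV : W ≤ V) (n : Γ(M, W)), ∀ (y : X) (hy : y ∈ W),
      psiE ι J hFP r y ((extE ι J r).presheaf.germ V y (hWV hy) s)
        (fun i => (Omega.conormal ι).presheaf.germ V y (hWV hy) (c i)) = M.presheaf.germ W y hy n := by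
  obtain ⟨C, hx⟩ := exists_chart_at ι r hι x
  obtain ⟨W0, hx0, hW0V, hW0U, n, hn⟩ := C.exists_psiE_g J hFP s x hxV hx
  choose W hxW hWV hWU a ha using fun i => C.exists_comb (c i) x hxV hx
  let W' : X.Opens := W0 ⊓ ⟨⋂ i, (W i : Set X), isOpen_iInter_of_finite fun i => (W i).isOpen⟩
  have hle : ∀ i, W' ≤ W i := fun i y hy => Set.mem_iInter.1 hy.2 i
  have hle0 : W' ≤ W0 := fun y hy => hy.1
  let A : Matrix (Fin r) (Fin r) Γ(X, W') := Matrix.of fun i j => X.presheaf.map (homOfLE (hle i)).op (a i j)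
  refine ⟨W', ⟨hx0, Set.mem_iInter.2 hxW⟩, hle0.trans hW0V, A.det • M.presheaf.map (homOfLE hle0).op n, fun y hy => ?_⟩
  have e : (fun i => (Omega.conormal ι).presheaf.germ V y (hW0V (hle0 hy)) (c i)) = fun i =>
      ∑ j, (A.map (X.presheaf.germ W' y hy).hom) i j •
        (Omega.conormal ι).presheaf.germ (ι ⁻¹ᵁ C.U.1) y (hW0U (hle0 hy)) (C.g j) := by
    funext i
    refine (ha i y (hle i hy)).trans (Finset.sum_congr rfl fun j _ => congrArg (· • _) ?_)
    exact (X.presheaf.germ_res_apply (homOfLE (hle i)) y hy (a i j)).symm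
  rw [e, alt_det, hn y (hle0 hy), Mero.germ_smul, germ_map]
  exact congrArg (· • _) ((X.presheaf.germ W' y hy).hom.map_det A).symm

/-- Evaluation on conormal sections, as sections of the sheaf Hom. -/
noncomputable def altSec (U : X.Opens) :
    Γ(Omega.conormal ι, U) [⋀^Fin r]→ₗ[Γ(X, U)] Γ(RefHull.homSh (extE ι J r) M, U) where
  toFun c := ⟨fun y =>
      { toFun := fun e => psiE ι J hFP r y.1 e fun i => (Omega.conormal ι).presheaf.germ U y.1 y.2 (c i)
        map_add' := fun a b => by simp only [map_add, AlternatingMap.add_apply]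
        map_smul' := fun t a => by simp only [map_smul, AlternatingMap.smul_apply, RingHom.id_apply] },
    fun V i s x => by
      obtain ⟨W, hxW, hWV, n, hn⟩ := exists_psiE_section J hFP hι
        (fun j => (Omega.conormal ι).presheaf.map i.op (c j)) s x.1 x.2
      refine ⟨W, hxW, homOfLE hWV, n, fun y => ?_⟩
      show psiE ι J hFP r y.1 _ _ = _
      rw [← hn y.1 y.2]
      exact congrArg _ (funext fun j =>
        ((Omega.conormal ι).presheaf.germ_res_apply i y.1 (hWV y.2) (c j)).symm)⟩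
  map_update_add' {_} c i a b := Subtype.ext <| funext fun y => LinearMap.ext fun e => by
    let g := fun (_ : Fin r) (v : Γ(Omega.conormal ι, U)) => (Omega.conormal ι).presheaf.germ U y.1 y.2 v
    show psiE ι J hFP r y.1 e (fun j => g j (Function.update c i (a + b) j)) =
      psiE ι J hFP r y.1 e (fun j => g j (Function.update c i a j)) +
        psiE ι J hFP r y.1 e (fun j => g j (Function.update c i b j))
    simp only [Function.apply_update g]
    rw [show g i (a + b) = g i a + g i b from map_add _ a b]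
    exact (psiE ι J hFP r y.1 e).map_update_add _ _ _ _
  map_update_smul' {_} c i t a := Subtype.ext <| funext fun y => LinearMap.ext fun e => by
    let g := fun (_ : Fin r) (v : Γ(Omega.conormal ι, U)) => (Omega.conormal ι).presheaf.germ U y.1 y.2 v
    show psiE ι J hFP r y.1 e (fun j => g j (Function.update c i (t • a) j)) =
      X.presheaf.germ U y.1 y.2 t • psiE ι J hFP r y.1 e (fun j => g j (Function.update c i a j))
    simp only [Function.apply_update g]
    rw [show g i (t • a) = X.presheaf.germ U y.1 y.2 t • g i a from Mero.germ_smul _ U y.1 y.2 t a]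
    exact (psiE ι J hFP r y.1 e).map_update_smul _ _ _ _
  map_eq_zero_of_eq' c i j e hij := Subtype.ext <| funext fun y => LinearMap.ext fun v =>
    (psiE ι J hFP r y.1 v).map_eq_zero_of_eq _ (congrArg _ e) hij

end Groth.Agent.H17.FLI
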