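import Groth.Agent.H17.FLI.Pairing
import Groth.Agent.H17.FLI.Chart

/-!
# Values of the pairing at nearby points
-/

set_option autoImplicit false
set_option linter.style.haveILetI false
set_option linter.unusedSectionVars false
set_option synthInstance.maxHeartbeats 400000
set_option maxHeartbeats 1000000
set_option backward.isDefEq.respectTransparency false

universe u

open CategoryTheory CategoryTheory.Limits AlgebraicGeometry Opposite TopologicalSpace
open Groth.Agent.H10Inj.SheafExt Groth.Agent.H16Derived.ProjFormula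

namespace Groth.Agent.H17.FLI

/-- Equal germs agree nearby. -/
theorem exists_nhds_germ_eq {Y : Scheme.{u}} (M : Y.Modules) {U V : Y.Opens} {y : Y} (hU : y ∈ U) (hV : y ∈ V)
    (s : Γ(M, U)) (t : Γ(M, V)) (e : M.presheaf.germ U y hU s = M.presheaf.germ V y hV t) :
    ∃ (W : Y.Opens) (hy : y ∈ W) (hWU : W ≤ U) (hWV : W ≤ V), ∀ (z : Y) (hz : z ∈ W),
      M.presheaf.germ U z (hWU hz) s = M.presheaf.germ V z (hWV hz) t := by
  obtain ⟨W, hy, i, j, h⟩ := M.presheaf.germ_eq y hU hV s t e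
  refine ⟨W, hy, i.le, j.le, fun z hz => ?_⟩
  rw [← M.presheaf.germ_res_apply i z hz s, h]
  exact M.presheaf.germ_res_apply j z hz t

/-- Finitely many germs which vanish at a point vanish nearby. -/
theorem exists_nhds_germ_zero {Y : Scheme.{u}} (M : Y.Modules) {U : Y.Opens} {y : Y} (hU : y ∈ U)
    {α : Type u} [Finite α] (s : α → Γ(M, U)) (e : ∀ a, M.presheaf.germ U y hU (s a) = 0) :
    ∃ (W : Y.Opens) (hy : y ∈ W) (hWU : W ≤ U), ∀ a (z : Y) (hz : z ∈ W),
      M.presheaf.germ U z (hWU hz) (s a) = 0 := by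
  classical
  have h : ∀ a, ∃ (W : Y.Opens), y ∈ W ∧ ∀ (z : Y), z ∈ W → ∀ hz : z ∈ U, M.presheaf.germ U z hz (s a) = 0 := by
    intro a
    obtain ⟨W, hy, hWU, hWV, h⟩ := exists_nhds_germ_eq M hU hU (s a) 0 ((e a).trans (map_zero _).symm)
    exact ⟨W, hy, fun z hz _ => (h z hz).trans (map_zero _)⟩
  choose W hy h using h
  obtain ⟨V, hV, hVy, hyV⟩ : ∃ V : Set Y, IsOpen V ∧ (∀ a, V ⊆ W a) ∧ y ∈ V :=
    ⟨⋂ a, (W a : Set Y), isOpen_iInter_of_finite fun a => (W a).isOpen, fun a => Set.iInter_subset _ a,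
      Set.mem_iInter.2 hy⟩
  exact ⟨U ⊓ ⟨V, hV⟩, ⟨hU, hyV⟩, inf_le_left, fun a z hz => h a z (hVy a hz.2) hz.1⟩

variable {X P : Scheme.{u}} (ι : X ⟶ P) [IsClosedImmersion ι] [IsLocallyNoetherian P]
  {M : X.Modules} (J : InjectiveResolution ((push ι).obj M))

/-- A germ of a cochain, in the resolution over the local ring. -/
noncomputable abbrev gm (q : ℕ) (W : P.Opens) (y : P) (hy : y ∈ W) (z : Γ(J.cocomplex.X q, W)) :
    (stalkRes J y).K q := (J.cocomplex.X q).presheaf.germ W y hy z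

theorem d_gm (q : ℕ) (W : P.Opens) (y : P) (hy : y ∈ W) (z : Γ(J.cocomplex.X q, W)) :
    (stalkRes J y).d q (gm ι J q W y hy z) =
      gm ι J (q + 1) W y hy ((J.cocomplex.d q (q + 1)).app W z) :=
  DerSch.stalkFunctor_map_germ y (J.cocomplex.d q (q + 1)) W hy z

theorem smul_gm (q : ℕ) {U W : P.Opens} (hWU : W ≤ U) (y : P) (hy : y ∈ W) (a : Γ(P, U))
    (z : Γ(J.cocomplex.X q, W)) :
    P.presheaf.germ U y (hWU hy) a • gm ι J q W y hy z =
      gm ι J q W y hy (P.presheaf.map (homOfLE hWU).op a • z) := by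
  rw [← P.presheaf.germ_res_apply (homOfLE hWU) y hy a]
  exact (Mero.germ_smul (J.cocomplex.X q) W y hy _ z).symm

/-- The iterated homotopies act on nearby stalks through one section. -/
theorem exists_op_section : ∀ {c : ℕ} {U : P.Opens} (f : Fin c → Γ(P, U)) {W : P.Opens} (hWU : W ≤ U)
    (z : Γ(J.cocomplex.X c, W)) (x : X) (hx : ι.base x ∈ W),
    Res.Regular (fun i => P.presheaf.germ U (ι.base x) (hWU hx) (f i)) →
    (stalkRes J (ι.base x)).Zc (Res.spanOf fun i => P.presheaf.germ U (ι.base x) (hWU hx) (f i)) c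
      (gm ι J c W (ι.base x) hx z) →
    ∃ (V : P.Opens) (_ : ι.base x ∈ V) (hVW : V ≤ W) (n : Γ(M, ι ⁻¹ᵁ V)), ∀ (y : X) (hy : ι.base y ∈ V)
      (H : ∀ i, (stalkRes J (ι.base y)).Hmt (P.presheaf.germ U (ι.base y) (hWU (hVW hy)) (f i))),
      val ι y J (M.presheaf.germ (ι ⁻¹ᵁ V) y hy n) = Res.op H (gm ι J c W (ι.base y) (hVW hy) z)
  | 0, U, f, W, hWU, z, x, hx, _, hz => by
    obtain ⟨m, hm⟩ := exists_val ι x J hz.1
    obtain ⟨a, rfl⟩ := (pushStalk_bijective ι M x).2 m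
    obtain ⟨V, hV, a, rfl⟩ := ((push ι).obj M).presheaf.exists_germ_eq a
    rw [val_pushStalk] at hm
    erw [DerSch.stalkFunctor_map_germ] at hm
    obtain ⟨V', hV', hle, hle', h⟩ := exists_nhds_germ_eq (J.cocomplex.X 0) hV hx _ z hm
    refine ⟨V', hV', hle', ((push ι).obj M).presheaf.map (homOfLE hle).op a, fun y hy H => ?_⟩
    rw [← pushStalk_germ, val_pushStalk, TopCat.Presheaf.germ_res_apply]
    erw [DerSch.stalkFunctor_map_germ]
    exact h _ hy
  | c + 1, U, f, W, hWU, z, x, hx, hreg, hz => by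
    obtain ⟨v, ⟨hv, hv'⟩, hd⟩ := (stalkRes J (ι.base x)).exists_of_zc hreg.1 hz
    obtain ⟨W1, hx1, v, rfl⟩ := (J.cocomplex.X c).presheaf.exists_germ_eq v
    let W0 := W ⊓ W1
    have hx0 : ι.base x ∈ W0 := ⟨hx, hx1⟩
    have h0U : W0 ≤ U := inf_le_left.trans hWU
    let v0 : Γ(J.cocomplex.X c, W0) := (J.cocomplex.X c).presheaf.map (homOfLE inf_le_right).op v
    have hv0 : gm ι J c W0 (ι.base x) hx0 v0 = (J.cocomplex.X c).presheaf.germ W1 (ι.base x) hx1 v :=
      (J.cocomplex.X c).presheaf.germ_res_apply _ _ _ _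
    rw [← hv0] at hv hv' hd
    -- the equations
    obtain ⟨Wa, hxa, hWa, ha⟩ := exists_nhds_germ_zero (J.cocomplex.X c) hx0
      (fun i : ULift.{u} (Fin c) => P.presheaf.map (homOfLE h0U).op (f i.down.castSucc) • v0)
      (fun i => by
        exact (smul_gm ι J c h0U (ι.base x) hx0 _ v0).symm.trans (hv _ (Ideal.subset_span ⟨i.down, rfl⟩)))
    obtain ⟨Wb, hxb, hWb, hb⟩ := exists_nhds_germ_zero (J.cocomplex.X (c + 1)) hx0
      (fun _ : PUnit.{u + 1} =>
        (J.cocomplex.d c (c + 1)).app W0 (P.presheaf.map (homOfLE h0U).op (f (Fin.last c)) • v0))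
      (fun _ => by
        exact ((d_gm ι J c W0 (ι.base x) hx0 _).symm.trans
          (congrArg _ (smul_gm ι J c h0U (ι.base x) hx0 _ v0).symm)).trans hv')
    obtain ⟨Wc, hxc, hc0, hcW, hcd⟩ := exists_nhds_germ_eq (J.cocomplex.X (c + 1)) hx0 hx
      ((J.cocomplex.d c (c + 1)).app W0 v0) z
      ((d_gm ι J c W0 (ι.base x) hx0 v0).symm.trans hd)
    let W' := Wa ⊓ Wb ⊓ Wc
    have hW' : W' ≤ W0 := inf_le_right.trans hc0
    let u0 : Γ(J.cocomplex.X c, W') := (J.cocomplex.X c).presheaf.map (homOfLE hW').op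
      (P.presheaf.map (homOfLE h0U).op (f (Fin.last c)) • v0)
    have hu0 : ∀ (y : P) (hy : y ∈ W'), gm ι J c W' y hy u0 =
        P.presheaf.germ U y (h0U (hW' hy)) (f (Fin.last c)) • gm ι J c W0 y (hW' hy) v0 := fun y hy =>
      ((J.cocomplex.X c).presheaf.germ_res_apply _ _ _ _).trans (smul_gm ι J c h0U y (hW' hy) _ _).symm
    have hx' : ι.base x ∈ W' := ⟨⟨hxa, hxb⟩, hxc⟩
    obtain ⟨V, hxV, hVW, n, hn⟩ := exists_op_section (fun i : Fin c => f i.castSucc) (hW'.trans h0U) u0 x hx'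
      hreg.1 (by
        rw [hu0]
        exact ⟨hv', hv.smul _⟩)
    refine ⟨V, hxV, hVW.trans (inf_le_right.trans hcW), n, fun y hy H => ?_⟩
    refine (hn y hy fun i => H i.castSucc).trans ?_
    have hy' : ι.base y ∈ W' := hVW hy
    rw [hu0 _ hy']
    have e1 : gm ι J (c + 1) W (ι.base y) (hcW hy'.2) z =
        (stalkRes J (ι.base y)).d c (gm ι J c W0 (ι.base y) (hW' hy') v0) :=
      ((hcd _ hy'.2).symm.trans (d_gm ι J c W0 (ι.base y) (hW' hy') v0).symm :)
    rw [e1]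
    refine (Res.op_d H ⟨?_, ?_⟩).symm
    · intro b hb
      induction hb using Submodule.span_induction with
      | mem b hb =>
        obtain ⟨i, rfl⟩ := hb
        rw [smul_gm ι J c h0U (ι.base y) (hW' hy')]
        exact ha ⟨i⟩ _ hy'.1.1
      | zero => exact zero_smul _ _
      | add a b _ _ ha hb => rw [add_smul, ha, hb, add_zero]
      | smul a b _ hb => rw [smul_eq_mul, mul_smul, hb, smul_zero]
    · rw [smul_gm ι J c h0U (ι.base y) (hW' hy'), d_gm ι J c W0 (ι.base y) (hW' hy')]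
      exact hb PUnit.unit _ hy'.1.2

end Groth.Agent.H17.FLI
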