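import Groth.Agent.H17.FLI.AlgMap
import Groth.Agent.H10Inj.SheafExt.Stalks
import Groth.Agent.H10Inj.StalkInjective
import Groth.Agent.H16Derived.ProjFormula.ClosedImm
import Groth.Agent.H16Derived.KFlat.SheafStalk
import Groth.Agent.H29Ref.DualStalk
import Mathlib.Algebra.Homology.ShortComplex.ModuleCat

/-!
# Stalks of Ext sheaves out of a closed subscheme as killed cocycles
-/

set_option autoImplicit false
set_option linter.style.haveILetI false
set_option linter.unusedSectionVars false
set_option synthInstance.maxHeartbeats 400000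
set_option maxHeartbeats 1000000
set_option backward.isDefEq.respectTransparency false

universe u

open CategoryTheory CategoryTheory.Limits AlgebraicGeometry Opposite TopologicalSpace
open Groth.Agent.H10Inj.SheafExt Groth.Agent.H16Derived.ProjFormula

namespace Groth.Agent.H17.FLI

variable {X P : Scheme.{u}} (ι : X ⟶ P)

/-- `ι_* O_X`. -/
noncomputable abbrev O' : P.Modules := (push ι).obj (Coh.structureModule X)

/-- The germ of `1` in `ι_* O_X`. -/
noncomputable def oneGerm (x : X) : (O' ι).presheaf.stalk (ι.base x) :=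
  (O' ι).presheaf.germ ⊤ (ι.base x) trivial (1 : Γ(X, ι ⁻¹ᵁ ⊤))

/-- The stalk of `ι_* O_X` read in the local ring of `X`. -/
noncomputable def pst (x : X) : (O' ι).presheaf.stalk (ι.base x) →+ X.presheaf.stalk x :=
  (H29Ref.unitEquiv x).symm.toLinearMap.toAddMonoidHom.comp (pushStalk ι (Coh.structureModule X) x)

theorem pst_oneGerm (x : X) : pst ι x (oneGerm ι x) = 1 := by
  show (H29Ref.unitEquiv x).symm (pushStalk ι (Coh.structureModule X) x (oneGerm ι x)) = 1
  rw [LinearEquiv.symm_apply_eq]
  refine (pushStalk_germ ι (Coh.structureModule X) x ⊤ trivial _).trans ?_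
  exact (H29Ref.germ_one (U := ι ⁻¹ᵁ ⊤) x trivial).trans (one_smul (X.presheaf.stalk x) (H29Ref.oneStalk x)).symm

theorem pst_smul (x : X) (a : P.presheaf.stalk (ι.base x)) (σ : (O' ι).presheaf.stalk (ι.base x)) :
    pst ι x (a • σ) = (ι.stalkMap x).hom a * pst ι x σ :=
  (congrArg (H29Ref.unitEquiv x).symm (pushStalk_smul ι (Coh.structureModule X) x a σ)).trans
    (map_smul (H29Ref.unitEquiv x).symm _ _)

theorem pst_injective [IsClosedImmersion ι] (x : X) : Function.Injective (pst ι x) :=
  (H29Ref.unitEquiv x).symm.injective.comp (pushStalk_bijective ι (Coh.structureModule X) x).1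

/-- The ideal of `X` in the local ring of `P`. -/
noncomputable abbrev idI (x : X) : Ideal (P.presheaf.stalk (ι.base x)) := RingHom.ker (ι.stalkMap x).hom

variable [IsClosedImmersion ι] (x : X)

theorem stalkMap_surj : Function.Surjective (ι.stalkMap x).hom := ι.stalkMap_surjective x

theorem smul_oneGerm_of_mem {a : P.presheaf.stalk (ι.base x)} (ha : a ∈ idI ι x) : a • oneGerm ι x = 0 := by
  apply pst_injective ι x
  rw [pst_smul, map_zero, show (ι.stalkMap x).hom a = 0 from ha, zero_mul]

theorem exists_smul_oneGerm (σ : (O' ι).presheaf.stalk (ι.base x)) : ∃ a : P.presheaf.stalk (ι.base x), a • oneGerm ι x = σ := by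
  obtain ⟨a, ha⟩ := stalkMap_surj ι x (pst ι x σ)
  refine ⟨a, pst_injective ι x ?_⟩
  rw [pst_smul, pst_oneGerm, mul_one, ha]

/-- Evaluation at `1`. -/
noncomputable def evOne (M : P.Modules) :
    (RefHull.homSh (O' ι) M).presheaf.stalk (ι.base x) →ₗ[P.presheaf.stalk (ι.base x)] M.presheaf.stalk (ι.base x) where
  toFun θ := RefHull.evalStalk (O' ι) M (ι.base x) θ (oneGerm ι x)
  map_add' a b := by rw [map_add]; rfl
  map_smul' a b := by rw [map_smul]; rfl

theorem evOne_killed (M : P.Modules) (θ : (RefHull.homSh (O' ι) M).presheaf.stalk (ι.base x))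
    {a : P.presheaf.stalk (ι.base x)} (ha : a ∈ idI ι x) : a • evOne ι x M θ = 0 := by
  show a • RefHull.evalStalk (O' ι) M (ι.base x) θ (oneGerm ι x) = 0
  rw [← map_smul, smul_oneGerm_of_mem ι x ha, map_zero]

variable (hFP : CohB1.IsFP (O' ι))

include hFP in
theorem evOne_injective (M : P.Modules) : Function.Injective (evOne ι x M) := by
  refine (injective_iff_map_eq_zero _).2 fun θ hθ => (H29Ref.evalStalk_bijective (O' ι) M hFP (ι.base x)).1 ?_
  refine LinearMap.ext fun σ => ?_
  obtain ⟨a, rfl⟩ := exists_smul_oneGerm ι x σ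
  rw [map_smul, show RefHull.evalStalk (O' ι) M (ι.base x) θ (oneGerm ι x) = 0 from hθ, smul_zero, map_zero]
  rfl

include hFP in
theorem exists_evOne (M : P.Modules) (m : M.presheaf.stalk (ι.base x)) (hm : ∀ a ∈ idI ι x, a • m = 0) :
    ∃ θ, evOne ι x M θ = m := by
  choose a ha using exists_smul_oneGerm ι x
  have key : ∀ b c, b • oneGerm ι x = c • oneGerm ι x → b • m = c • m := fun b c e => by
    have h0 : b - c ∈ idI ι x := by
      have h' := congrArg (pst ι x) e
      rw [pst_smul, pst_smul, pst_oneGerm, mul_one, mul_one] at h'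
      rw [RingHom.mem_ker, map_sub, h', sub_self]
    exact sub_eq_zero.1 (by rw [← sub_smul]; exact hm _ h0)
  let f : RefHull.StalkHom (O' ι) M (ι.base x) :=
    { toFun := fun σ => a σ • m
      map_add' := fun σ τ => by rw [← add_smul]; exact key _ _ (by rw [add_smul, ha, ha, ha])
      map_smul' := fun r σ => by
        show a (r • σ) • m = r • a σ • m
        rw [smul_smul]; exact key _ _ (by rw [mul_smul, ha, ha]) }
  obtain ⟨θ, hθ⟩ := (H29Ref.evalStalk_bijective (O' ι) M hFP (ι.base x)).2 f
  refine ⟨θ, ?_⟩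
  show RefHull.evalStalk (O' ι) M (ι.base x) θ (oneGerm ι x) = m
  rw [hθ]
  exact (key _ 1 (by rw [ha, one_smul])).trans (one_smul _ _)

omit [IsClosedImmersion ι] in
theorem stalkLin_map_comp {M M' M'' : P.Modules} (g : M ⟶ M') (g' : M' ⟶ M'') (y : P)
    (m : M.presheaf.stalk y) :
    (DerSch.stalkFunctor P y).map g' ((DerSch.stalkFunctor P y).map g m) = (DerSch.stalkFunctor P y).map (g ≫ g') m := by
  rw [Functor.map_comp]; rfl

theorem evOne_natural {M M' : P.Modules} (g : M ⟶ M') (θ : (RefHull.homSh (O' ι) M).presheaf.stalk (ι.base x)) :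
    evOne ι x M' ((DerSch.stalkFunctor P (ι.base x)).map ((homFunctor (O' ι)).map g) θ) =
      (DerSch.stalkFunctor P (ι.base x)).map g (evOne ι x M θ) := by
  obtain ⟨V, hV, f, rfl⟩ := (RefHull.homSh (O' ι) M).presheaf.exists_germ_eq θ
  show RefHull.evalStalk (O' ι) M' (ι.base x)
      ((DerSch.stalkFunctor P (ι.base x)).map ((homFunctor (O' ι)).map g)
        ((RefHull.homSh (O' ι) M).presheaf.germ V (ι.base x) hV f)) (oneGerm ι x) =
    (DerSch.stalkFunctor P (ι.base x)).map g
      (RefHull.evalStalk (O' ι) M (ι.base x) ((RefHull.homSh (O' ι) M).presheaf.germ V (ι.base x) hV f) (oneGerm ι x))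
  erw [DerSch.stalkFunctor_map_germ]
  refine (LinearMap.congr_fun (RefHull.evalAdd_germ (O' ι) M' (ι.base x) hV _) (oneGerm ι x)).trans ?_
  refine (homFunctor_map_apply (O' ι) g V f ⟨ι.base x, hV⟩ (oneGerm ι x)).trans ?_
  exact congrArg ((DerSch.stalkFunctor P (ι.base x)).map g)
    (LinearMap.congr_fun (RefHull.evalAdd_germ (O' ι) M (ι.base x) hV f) (oneGerm ι x)).symm

variable [IsLocallyNoetherian P] {G : P.Modules} (J : InjectiveResolution G)

/-- The stalk of an injective resolution, as a resolution over the local ring. -/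
noncomputable def stalkRes (y : P) : Res (P.presheaf.stalk y) where
  K q := (DerSch.stalkFunctor P y).obj (J.cocomplex.X q)
  d q := ((DerSch.stalkFunctor P y).map (J.cocomplex.d q (q + 1))).hom
  dd q m := by
    erw [stalkLin_map_comp, J.cocomplex.d_comp_d, Functor.map_zero]
    rfl
  exact q m hm := by
    have h : (J.cocomplex.sc' q (q + 1) (q + 1 + 1)).Exact := by
      rw [← HomologicalComplex.exactAt_iff' _ _ _ _ (by simp) (by simp)]
      exact J.cocomplex_exactAt_succ q
    have h' := h.map (DerSch.stalkFunctor P y)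
    rw [ShortComplex.moduleCat_exact_iff] at h'
    exact h' m hm
  baer q := Module.Baer.of_injective (H10Inj.injective_stalk (J.cocomplex.X q) y)

/-- The complex computing the Ext sheaves. -/
noncomputable abbrev homCx : CochainComplex P.Modules ℕ :=
  ((homFunctor (O' ι)).mapHomologicalComplex (ComplexShape.up ℕ)).obj J.cocomplex

/-- `h ∈ (H^r)_y` is represented by the killed cocycle `z`. -/
def Rep (r : ℕ) (h : ((homCx ι J).homology r).presheaf.stalk (ι.base x)) (z : (stalkRes J (ι.base x)).K r) : Prop :=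
  ∃ c : ((homCx ι J).cycles r).presheaf.stalk (ι.base x),
    (DerSch.stalkFunctor P (ι.base x)).map ((homCx ι J).homologyπ r) c = h ∧
    evOne ι x (J.cocomplex.X r) ((DerSch.stalkFunctor P (ι.base x)).map ((homCx ι J).iCycles r) c) = z

theorem iCycles_stalk_injective (r : ℕ) :
    Function.Injective ((DerSch.stalkFunctor P (ι.base x)).map ((homCx ι J).iCycles r)) := by
  haveI : Mono ((DerSch.stalkFunctor P (ι.base x)).map ((homCx ι J).iCycles r)) := inferInstance
  exact (ModuleCat.mono_iff_injective _).1 inferInstance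

theorem homologyπ_stalk_surjective (r : ℕ) :
    Function.Surjective ((DerSch.stalkFunctor P (ι.base x)).map ((homCx ι J).homologyπ r)) := by
  haveI : Epi ((DerSch.stalkFunctor P (ι.base x)).map ((homCx ι J).homologyπ r)) := inferInstance
  exact (ModuleCat.epi_iff_surjective _).1 inferInstance

theorem exists_cycle (r : ℕ) (θ : (RefHull.homSh (O' ι) (J.cocomplex.X r)).presheaf.stalk (ι.base x))
    (h : (DerSch.stalkFunctor P (ι.base x)).map ((homFunctor (O' ι)).map (J.cocomplex.d r (r + 1))) θ = 0) :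
    ∃ c, (DerSch.stalkFunctor P (ι.base x)).map ((homCx ι J).iCycles r) c = θ := by
  have he : (ShortComplex.mk ((homCx ι J).iCycles r) ((homCx ι J).d r (r + 1))
      ((homCx ι J).iCycles_d r (r + 1))).Exact :=
    ShortComplex.exact_of_f_is_kernel _ ((homCx ι J).cyclesIsKernel r (r + 1) (by simp))
  have h' := he.map (DerSch.stalkFunctor P (ι.base x))
  rw [ShortComplex.moduleCat_exact_iff] at h'
  exact h' θ h

theorem rep_zc {r : ℕ} {h : ((homCx ι J).homology r).presheaf.stalk (ι.base x)} {z}
    (hz : Rep ι x J r h z) : (stalkRes J (ι.base x)).Zc (idI ι x) r z := by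
  obtain ⟨c, -, rfl⟩ := hz
  refine ⟨?_, fun a ha => evOne_killed ι x _ _ ha⟩
  show (DerSch.stalkFunctor P (ι.base x)).map (J.cocomplex.d r (r + 1)) _ = 0
  erw [← evOne_natural, stalkLin_map_comp]
  rw [show (homCx ι J).iCycles r ≫ (homFunctor (O' ι)).map (J.cocomplex.d r (r + 1)) = 0 from
    (homCx ι J).iCycles_d r (r + 1), Functor.map_zero]
  exact map_zero _

theorem exists_rep {r : ℕ} (h : ((homCx ι J).homology r).presheaf.stalk (ι.base x)) :
    ∃ z, Rep ι x J r h z := by
  obtain ⟨c, hc⟩ := homologyπ_stalk_surjective ι x J r h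
  exact ⟨_, c, hc, rfl⟩

include hFP in
theorem exists_rep_of_zc {r : ℕ} {z : (stalkRes J (ι.base x)).K r} (hz : (stalkRes J (ι.base x)).Zc (idI ι x) r z) :
    ∃ h, Rep ι x J r h z := by
  obtain ⟨θ, rfl⟩ := exists_evOne ι x hFP _ z hz.2
  obtain ⟨c, rfl⟩ := exists_cycle ι x J r θ (by
    apply evOne_injective ι x hFP
    rw [evOne_natural, map_zero]
    exact hz.1)
  exact ⟨_, c, rfl, rfl⟩

theorem rep_add {r : ℕ} {h h' : ((homCx ι J).homology r).presheaf.stalk (ι.base x)} {z z'}
    (hz : Rep ι x J r h z) (hz' : Rep ι x J r h' z') : Rep ι x J r (h + h') (z + z') := by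
  obtain ⟨c, rfl, rfl⟩ := hz
  obtain ⟨c', rfl, rfl⟩ := hz'
  exact ⟨c + c', map_add _ _ _, (congrArg _ (map_add _ c c')).trans (map_add _ _ _)⟩

theorem rep_smul {r : ℕ} {h : ((homCx ι J).homology r).presheaf.stalk (ι.base x)} {z}
    (a : P.presheaf.stalk (ι.base x)) (hz : Rep ι x J r h z) : Rep ι x J r (a • h) (a • z) := by
  obtain ⟨c, rfl, rfl⟩ := hz
  exact ⟨a • c, map_smul ((DerSch.stalkFunctor P (ι.base x)).map ((homCx ι J).homologyπ r)).hom a c,
    (congrArg _ (map_smul ((DerSch.stalkFunctor P (ι.base x)).map ((homCx ι J).iCycles r)).hom a c)).trans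
      (map_smul _ _ _)⟩

include hFP in
/-- Representatives of zero are the boundaries. -/
theorem rep_zero_iff {r : ℕ} {z : (stalkRes J (ι.base x)).K r} :
    Rep ι x J r 0 z ↔ (stalkRes J (ι.base x)).Bd (idI ι x) r z := by
  have he : ∀ i : ℕ, (ComplexShape.up ℕ).prev r = i →
      (ShortComplex.mk ((homCx ι J).toCycles i r) ((homCx ι J).homologyπ r) ((homCx ι J).toCycles_comp_homologyπ i r)).Exact :=
    fun i hi => ShortComplex.exact_of_g_is_cokernel _ ((homCx ι J).homologyIsCokernel i r hi)
  constructor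
  · rintro ⟨c, hc, rfl⟩
    cases r with
    | zero =>
      have h' := (he 0 (by simp)).map (DerSch.stalkFunctor P (ι.base x))
      rw [ShortComplex.moduleCat_exact_iff] at h'
      obtain ⟨b, rfl⟩ := h' c hc
      show evOne ι x _ _ = 0
      rw [← map_zero (evOne ι x (J.cocomplex.X 0))]
      refine congrArg _ ?_
      show (DerSch.stalkFunctor P (ι.base x)).map ((homCx ι J).iCycles 0)
        ((DerSch.stalkFunctor P (ι.base x)).map ((homCx ι J).toCycles 0 0) b) = 0
      erw [stalkLin_map_comp, HomologicalComplex.toCycles_i, (homCx ι J).shape 0 0 (by simp), Functor.map_zero]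
      rfl
    | succ r =>
      have h' := (he r (by simp)).map (DerSch.stalkFunctor P (ι.base x))
      rw [ShortComplex.moduleCat_exact_iff] at h'
      obtain ⟨b, rfl⟩ := h' c hc
      refine ⟨evOne ι x _ b, fun a ha => evOne_killed ι x _ _ ha, ?_⟩
      show (DerSch.stalkFunctor P (ι.base x)).map (J.cocomplex.d r (r + 1)) _ = _
      rw [← evOne_natural]
      refine congrArg _ ?_
      show _ = (DerSch.stalkFunctor P (ι.base x)).map ((homCx ι J).iCycles (r + 1))
        ((DerSch.stalkFunctor P (ι.base x)).map ((homCx ι J).toCycles r (r + 1)) b)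
      erw [stalkLin_map_comp, HomologicalComplex.toCycles_i]
      rfl
  · intro hz
    cases r with
    | zero =>
      rw [show z = 0 from hz]
      exact ⟨0, map_zero _, (congrArg _ (map_zero _)).trans (map_zero _)⟩
    | succ r =>
      obtain ⟨w, hw, rfl⟩ := hz
      obtain ⟨b, rfl⟩ := exists_evOne ι x hFP _ w hw
      refine ⟨(DerSch.stalkFunctor P (ι.base x)).map ((homCx ι J).toCycles r (r + 1)) b, ?_, ?_⟩
      · erw [stalkLin_map_comp, HomologicalComplex.toCycles_comp_homologyπ, Functor.map_zero]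
        rfl
      · erw [stalkLin_map_comp, HomologicalComplex.toCycles_i]
        exact evOne_natural ι x (J.cocomplex.d r (r + 1)) b

end Groth.Agent.H17.FLI
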