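import Groth.Agent.H17.FLI.Adjunction
import Groth.Agent.S8894
import Groth.Agent.H17.FLI.DetSES
import Groth.Agent.H17.FLI.Chart
import Groth.Agent.H17.FLI.Pairing
import Groth.Agent.H17.RegQuasi
import Groth.Agent.H17.Conormal.DiffSeq
import Groth.Agent.H17.PrinOmega
import Groth.Agent.H06Unram.ConormalRank
import Groth.Agent.H29Ref.ConormalQReg
import Groth.Agent.H8Props.AlgSpLci.Lci
import Groth.Agent.H8Props.FieldDimSmooth
import Groth.Agent.H8Props.FormallySmoothScheme
import Groth.Agent.H26Def.LiftExist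
import Groth.Agent.H28RR.Omega
import Groth.Agent.S8656
import Groth.Agent.S8905
import Groth.Agent.S5020
import Groth.Agent.S9370
import Groth.Agent.H15Site.Invertible
import Groth.Agent.H11Sym.InvertibleInverse
import Groth.Agent.H11Ample.UnitIso
import Groth.Agent.H10Inj.SheafExt.HomFunctor

/-!
# Adjunction for a smooth closed subscheme of a smooth scheme over an arbitrary base
-/

set_option autoImplicit false
set_option linter.style.haveILetI false
set_option backward.isDefEq.respectTransparency false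
set_option synthInstance.maxHeartbeats 400000
set_option maxHeartbeats 1000000

universe u

open CategoryTheory CategoryTheory.Limits AlgebraicGeometry Opposite TopologicalSpace

namespace Groth.Agent.H17.FLI

theorem cgen_surjective_gen {X P : Scheme.{u}} (ι : X ⟶ P) [IsClosedImmersion ι] (x : X) :
    Function.Surjective (H29Omega.cgen ι x) := by
  intro c
  have hc : c ∈ Submodule.span (X.presheaf.stalk x) (Set.range (H29Omega.cgen ι x)) := by
    rw [H29Omega.span_cgen]; trivial
  induction hc using Submodule.span_induction with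
  | mem c hc => exact hc
  | zero => exact ⟨0, map_zero _⟩
  | add a b _ _ ha hb =>
    obtain ⟨a', rfl⟩ := ha
    obtain ⟨b', rfl⟩ := hb
    exact ⟨a' + b', map_add _ a' b'⟩
  | smul t a _ ha =>
    obtain ⟨a', rfl⟩ := ha
    obtain ⟨s, rfl⟩ := stalkMap_surj ι x t
    exact ⟨s • a', H29Omega.cgen_smul ι x s a'⟩

variable {S P X : Scheme.{u}} (g : P ⟶ S) (f : X ⟶ S) (ι : X ⟶ P) [IsClosedImmersion ι]
  (hι : ι ≫ g = f) (n r : ℕ) [SmoothOfRelativeDimension n g] [SmoothOfRelativeDimension r f]

include g f hι in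
/-- A smooth closed subscheme of a smooth scheme is regularly immersed, with locally free conormal sheaf. -/
theorem regImm_of_smooth_gen :
    RegImm.IsRegularImmersionOfCodim RegImm.Kind.regular (n - r) ι ∧
      FlatMod.IsFinLocFreeOfRank (n - r) (Omega.conormal ι) ∧ (Nonempty X → r ≤ n) := by
  haveI : Smooth g := SmoothOfRelativeDimension.smooth n _
  haveI : Smooth f := SmoothOfRelativeDimension.smooth r _
  haveI hsm : Smooth (ι ≫ g) := hι ▸ ‹Smooth f›
  have hfs : MoreMor.IsFormallySmoothHom (ι ≫ g) :=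
    (H8Props.FormallySmoothScheme.isFormallySmoothHom_iff (ι ≫ g)).mpr fun U V hU hV hUV =>
      RingHom.Smooth.formallySmooth ((ι ≫ g).smooth_appLE hV hU hUV)
  have hk : RegImm.IsRegularImmersion .koszul ι :=
    S8656.result (ι ≫ g) (fun z => H8Props.AlgSpLci.isKoszulAt_of_smooth (ι ≫ g) z) g ι rfl
  have hq : RegImm.IsRegularImmersion .quasi ι := (S8905.result ι).2.2 ((S8905.result ι).2.1 hk)
  have hlf := H29Ref.ConormalQReg.isFinLocFree_conormal_of_quasi ι hq.2
  have hrk : ∀ (x : X) (m : ℕ)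
      (_ : Module.Basis (Fin m) (X.presheaf.stalk x) ((Omega.conormal ι).presheaf.stalk x)), n = r + m := by
    intro x m bc
    have h := H06Unram.ConormalRank.finrank_conormal g ι hfs x bc
    rw [H8Props.FieldDim.fibreDimAt_of_smoothOfRelativeDimension g n,
      show FlatMor.fibreDimAt (ι ≫ g) x = (r : WithBot ℕ∞) by
        subst hι; exact H8Props.FieldDim.fibreDimAt_of_smoothOfRelativeDimension (ι ≫ g) r x] at h
    exact_mod_cast h
  have hbasis : ∀ (x : X) (U : X.Opens) (m : ℕ), x ∈ U →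
      Nonempty ((Omega.conormal ι).restrict U.ι ≅ FlatMod.freeMod (↑U) m) →
      Nonempty (Module.Basis (Fin m) (X.presheaf.stalk x) ((Omega.conormal ι).presheaf.stalk x)) := by
    intro x U m hxU ⟨e⟩
    obtain ⟨V, hV, hxV, hle⟩ := exists_isAffineOpen_mem_and_subset (x := x) (U := U) hxU
    obtain ⟨b⟩ := H8Props.FinLocFree.exists_basis_of_chart _ e hle
    exact H22Alg.ExtPowSum.exists_stalkBasis (H8Props.FinLocFree.isQCoh_of_isFinLocFree _ hlf) hV b hxV
  refine ⟨⟨inferInstance, fun z => ?_⟩, fun x => ?_, fun ⟨x⟩ => ?_⟩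
  · obtain ⟨U, hzU, hcl, rs, hrs, hker⟩ := (S8894.result g ι ⟨hq, inferInstance⟩).1.2 z
    refine ⟨U, hzU, hcl, rs, ?_, hrs, hker⟩
    haveI := U.2.isLocalization_stalk ⟨ι.base z, hzU⟩
    letI := P.presheaf.algebra_section_stalk (⟨ι.base z, hzU⟩ : U.1)
    haveI : Module.Flat Γ(P, U.1) (P.presheaf.stalk (ι.base z)) :=
      IsLocalization.flat _ (U.2.primeIdealOf ⟨ι.base z, hzU⟩).asIdeal.primeCompl
    let φ := algebraMap Γ(P, U.1) (P.presheaf.stalk (ι.base z))
    let gv : Fin rs.length → P.presheaf.stalk (ι.base z) := fun i => φ (rs.get i)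
    have hspan : Ideal.span (Set.range gv) = idI ι z := by
      show _ = RingHom.ker (ι.stalkMap z).hom
      rw [← H29Omega.range_idealStalk_ker ι z, H29Omega.range_idealStalk ι.ker (ι.base z) U hzU,
        show ι.ker.ideal U = Ideal.ofList rs by rw [Scheme.Hom.ker_apply]; exact hker, Ideal.map_ofList]
      refine congrArg Ideal.span (Set.ext fun a => ⟨?_, fun h => ?_⟩)
      · rintro ⟨i, rfl⟩; exact List.mem_map.2 ⟨_, List.get_mem rs i, rfl⟩
      · obtain ⟨b, hb, rfl⟩ := List.mem_map.1 h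
        obtain ⟨i, rfl⟩ := List.mem_iff_get.1 hb
        exact ⟨i, rfl⟩
    have hqr : CAlgX.IsQuasiRegular gv := by
      refine H06QR.Regular.isQuasiRegular_of_isWeaklyRegular gv ?_
      rw [show gv = φ ∘ rs.get from rfl, ← List.map_ofFn, List.ofFn_get]
      exact (hrs : RingTheory.Sequence.IsRegular Γ(P, U.1) rs).toIsWeaklyRegular.of_flat
    let fv : Fin rs.length → idI ι z := fun i => ⟨gv i, hspan ▸ Ideal.subset_span ⟨i, rfl⟩⟩
    let b : Module.Basis (Fin rs.length) (X.presheaf.stalk z) ((Omega.conormal ι).presheaf.stalk z) :=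
      Module.Basis.mk (linearIndependent_cgen ι z fv hqr hspan) (by
        rintro v -
        obtain ⟨a, rfl⟩ := cgen_surjective_gen ι z v
        have hmem : a.1 ∈ Ideal.span (Set.range gv) := hspan.symm ▸ a.2
        obtain ⟨c, hc⟩ := Ideal.mem_span_range_iff_exists_fun.1 hmem
        rw [show a = ∑ k, c k • fv k from
          Subtype.ext (hc.symm.trans (by rw [AddSubmonoidClass.coe_finsetSum]; rfl)), map_sum]
        refine Submodule.sum_mem _ fun k _ => ?_
        rw [H29Omega.cgen_smul]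
        exact Submodule.smul_mem _ _ (Submodule.subset_span ⟨k, rfl⟩))
    have := hrk z _ b
    omega
  · obtain ⟨U, m, hxU, he⟩ := hlf x
    obtain ⟨bc⟩ := hbasis x U m hxU he
    have := hrk x m bc
    obtain rfl : m = n - r := by omega
    exact ⟨U, hxU, he⟩
  · obtain ⟨U, m, hxU, he⟩ := hlf x
    obtain ⟨bc⟩ := hbasis x U m hxU he
    have := hrk x m bc
    omega

include g f hι in
/-- The conormal sequence of a smooth closed subscheme is short exact. -/
theorem exists_conormal_ses_gen (r : ℕ) [SmoothOfRelativeDimension r f] [QuasiSeparated g] [QuasiSeparated f] :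
    ∃ (φ : Omega.conormal ι ⟶ (Scheme.Modules.pullback ι).obj (Omega.sheaf g))
      (c : (Scheme.Modules.pullback ι).obj (Omega.sheaf g) ⟶ Omega.sheaf f) (w : φ ≫ c = 0),
      (ShortComplex.mk φ c w).ShortExact := by
  haveI : Smooth f := SmoothOfRelativeDimension.smooth r f
  subst hι
  have hfs : MoreMor.IsFormallySmoothHom (ι ≫ g) :=
    (H8Props.FormallySmoothScheme.isFormallySmoothHom_iff (ι ≫ g)).mpr fun U V hU hV hUV =>
      RingHom.Smooth.formallySmooth ((ι ≫ g).smooth_appLE hV hU hUV)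
  have hY := H17.PrinOmega.isUniversal_dOmega g
  have hX := H17.PrinOmega.isUniversal_dOmega (ι ≫ g)
  obtain ⟨φ, hφ⟩ := H26Def.exists_isConormalDiff ι (OmegaSh.dOmega g)
  obtain ⟨c, hc, -⟩ := S9370.result g (ι ≫ g) ι (𝟙 S) (Category.comp_id _) _ (OmegaSh.dOmega g) hY _
    (OmegaSh.dOmega (ι ≫ g)) hX
  obtain ⟨w, hex, hepi⟩ := H17.Conormal.exact_conormalDiffSeq g ι hY hX hφ hc
  haveI := S5020.result ι g hfs _ _ hY φ hφ
  haveI : Epi c := hepi
  exact ⟨φ, c, w, { exact := hex }⟩

include g f hι in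
/-- Adjunction. -/
theorem nonempty_adjunction_iso_gen [QuasiSeparated g] [QuasiSeparated f]
    {ΩP : P.Modules} (hΩP : ExtPow.IsExtPow n (Omega.sheaf g) ΩP)
    {ΩX : X.Modules} (hΩX : ExtPow.IsExtPow r (Omega.sheaf f) ΩX)
    {L : X.Modules} (hL : ExtPow.IsExtPow (n - r) (Omega.conormal ι) L) [Nonempty X] :
    Nonempty (CohB1.tensorMod L ΩX ≅ (Scheme.Modules.pullback ι).obj ΩP) := by
  obtain ⟨-, hrk, hle⟩ := regImm_of_smooth_gen g f ι hι n r
  have hle := hle inferInstance
  obtain ⟨φ, c, w, hS⟩ := exists_conormal_ses_gen g f ι hι r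
  have hq : Coh.IsQCoh (Omega.sheaf g) := H29Omega.isQCoh_sheaf g
  exact DetSES.nonempty_iso (LA := L) (LC := ΩX) (LB := (Scheme.Modules.pullback ι).obj ΩP)
    (finSumFinEquiv.trans (finCongr (by omega))) hS hrk (H29Fitt.isQCoh_pullback ι _ hq)
    (H28RR.isFinLocFreeOfRank_omega f r) hL (H22Alg.ExtPowHom.isExtPow_pullback ι hq hΩP) hΩX

end Groth.Agent.H17.FLI
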