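import Mathlib.Algebra.Module.Injective
import Mathlib.Algebra.Category.ModuleCat.Basic
import Mathlib.RingTheory.Ideal.Quotient.Operations
import Mathlib.RingTheory.Regular.RegularSequence
import Mathlib.Tactic.LinearCombination
import Mathlib.LinearAlgebra.Quotient.Basic

/-!
# The fundamental local isomorphism through homotopies

For an injective resolution `K` of a module killed by an ideal `I`, multiplication by `f ∈ I` is null homotopic;
a homotopy `h_f` acts on cocycles killed by `I`, lowers the degree by one, and `(f₁, …, f_c) ↦ h_{f₁} ⋯ h_{f_c}` is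
the alternating pairing `Ext^c(A/I, N) × I^c → N`, bijective for a regular sequence.
-/

set_option autoImplicit false
set_option linter.unusedSectionVars false

universe u

namespace Groth.Agent.H17.FLI

variable (A : Type u) [CommRing A]

/-- An injective resolution of the kernel of the first differential. -/
structure Res where
  K : ℕ → ModuleCat.{u} A
  d : ∀ q, K q →ₗ[A] K (q + 1)
  dd : ∀ q x, d (q + 1) (d q x) = 0
  exact : ∀ q x, d (q + 1) x = 0 → ∃ y, d q y = x
  baer : ∀ q, Module.Baer A (K q)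

variable {A}

/-- Extension of a map along a map with smaller kernel, into an injective module. -/
theorem exists_factor {M M' Q : Type u} [AddCommGroup M] [Module A M] [AddCommGroup M'] [Module A M']
    [AddCommGroup Q] [Module A Q] (hQ : Module.Baer A Q) (p : M →ₗ[A] M') (g : M →ₗ[A] Q)
    (h : LinearMap.ker p ≤ LinearMap.ker g) : ∃ l : M' →ₗ[A] Q, l ∘ₗ p = g := by
  obtain ⟨l, hl⟩ := hQ.extension_property ((LinearMap.ker p).liftQ p le_rfl)
    (LinearMap.ker_eq_bot.1 (Submodule.ker_liftQ_eq_bot _ _ _ le_rfl)) ((LinearMap.ker p).liftQ g h)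
  exact ⟨l, LinearMap.ext fun x => LinearMap.congr_fun hl (Submodule.Quotient.mk x)⟩

namespace Res

variable (R : Res A)

/-- Maps into an injective resolution commuting with the differentials up to `ε` are null homotopic. -/
theorem exists_null {T : ℕ → Type u} [∀ q, AddCommGroup (T q)] [∀ q, Module A (T q)]
    (dT : ∀ q, T q →ₗ[A] T (q + 1)) (hT : ∀ q x, dT (q + 1) x = 0 → ∃ y, dT q y = x)
    (hTdd : ∀ q x, dT (q + 1) (dT q x) = 0) (ε : A) (P : ∀ q, T q →ₗ[A] R.K q)
    (h0 : LinearMap.ker (dT 0) ≤ LinearMap.ker (P 0))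
    (hc : ∀ q x, P (q + 1) (dT q x) = ε • R.d q (P q x)) :
    ∃ l : ∀ q, T (q + 1) →ₗ[A] R.K q, (∀ x, l 0 (dT 0 x) = P 0 x) ∧
      ∀ q x, l (q + 1) (dT (q + 1) x) + ε • R.d q (l q x) = P (q + 1) x := by
  classical
  obtain ⟨l0, hl0⟩ := exists_factor (R.baer 0) (dT 0) (P 0) h0
  have step : ∀ q (l : T (q + 1) →ₗ[A] R.K q),
      (∀ x, dT (q + 1) x = 0 → ε • R.d q (l x) = P (q + 1) x) →
      ∃ l' : T (q + 1 + 1) →ₗ[A] R.K (q + 1), ∀ x, l' (dT (q + 1) x) + ε • R.d q (l x) = P (q + 1) x := by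
    intro q l hl
    obtain ⟨l', hl'⟩ := exists_factor (R.baer (q + 1)) (dT (q + 1)) (P (q + 1) - (ε • R.d q) ∘ₗ l) fun x hx => by
      have := hl x hx
      simp only [LinearMap.mem_ker, LinearMap.sub_apply, LinearMap.comp_apply, LinearMap.smul_apply, this, sub_self]
    exact ⟨l', fun x => by
      have := LinearMap.congr_fun hl' x
      simp only [LinearMap.comp_apply, LinearMap.sub_apply, LinearMap.smul_apply] at this
      rw [this]; abel⟩
  have inv : ∀ q (l : T (q + 1) →ₗ[A] R.K q) (l' : T (q + 1 + 1) →ₗ[A] R.K (q + 1)),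
      (∀ x, l' (dT (q + 1) x) + ε • R.d q (l x) = P (q + 1) x) →
      ∀ x, dT (q + 1 + 1) x = 0 → ε • R.d (q + 1) (l' x) = P (q + 1 + 1) x := by
    intro q l l' hl x hx
    obtain ⟨y, rfl⟩ := hT (q + 1) x hx
    rw [hc, ← hl y, map_add, map_smul, R.dd, smul_zero, add_zero]
  have base : ∀ x, dT 1 x = 0 → ε • R.d 0 (l0 x) = P 1 x := by
    intro x hx
    obtain ⟨y, rfl⟩ := hT 0 x hx
    rw [hc, ← LinearMap.congr_fun hl0 y]
    rfl
  let S : ℕ → Type u := fun q =>
    { l : T (q + 1) →ₗ[A] R.K q // ∀ x, dT (q + 1) x = 0 → ε • R.d q (l x) = P (q + 1) x }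
  let next : ∀ q, S q → S (q + 1) := fun q l =>
    ⟨(step q l.1 l.2).choose, inv q l.1 _ (step q l.1 l.2).choose_spec⟩
  let ls : ∀ q, S q := fun q => Nat.rec (motive := S) ⟨l0, base⟩ next q
  exact ⟨fun q => (ls q).1, fun x => LinearMap.congr_fun hl0 x, fun q x => (step q (ls q).1 (ls q).2).choose_spec x⟩

/-- A homotopy from multiplication by `f` to zero. -/
structure Hmt (f : A) where
  h : ∀ q, R.K (q + 1) →ₗ[A] R.K q
  h_zero : ∀ x, h 0 (R.d 0 x) = f • x
  h_succ : ∀ q x, h (q + 1) (R.d (q + 1) x) + R.d q (h q x) = f • x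

theorem nonempty_hmt (f : A) (hf : ∀ x, R.d 0 x = 0 → f • x = 0) : Nonempty (R.Hmt f) := by
  obtain ⟨l, h0, h1⟩ := R.exists_null (T := fun q => R.K q) R.d R.exact R.dd 1 (fun q => f • LinearMap.id)
    (fun x hx => by simpa using hf x hx) fun q x => by simp [map_smul]
  exact ⟨⟨l, h0, fun q x => by simpa using h1 q x⟩⟩

variable {R}

/-- Sum of homotopies. -/
def Hmt.add {f g : A} (a : R.Hmt f) (b : R.Hmt g) : R.Hmt (f + g) where
  h q := a.h q + b.h q
  h_zero x := by simp [a.h_zero, b.h_zero, add_smul]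
  h_succ q x := by simp only [LinearMap.add_apply, map_add, add_smul, ← a.h_succ, ← b.h_succ]; abel

/-- Scaled homotopy. -/
def Hmt.smul (c : A) {f : A} (a : R.Hmt f) : R.Hmt (c * f) where
  h q := c • a.h q
  h_zero x := by simp [a.h_zero, mul_smul]
  h_succ q x := by simp only [LinearMap.smul_apply, map_smul, mul_smul, ← a.h_succ, smul_add]

/-- Transport. -/
def Hmt.cast {f g : A} (e : f = g) (a : R.Hmt f) : R.Hmt g where
  h := a.h
  h_zero x := e ▸ a.h_zero x
  h_succ q x := e ▸ a.h_succ q x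

variable (R)

/-- Elements killed by an ideal. -/
def Killed (I : Ideal A) {q : ℕ} (x : R.K q) : Prop := ∀ a ∈ I, a • x = 0

/-- Cocycles killed by `I`. -/
def Zc (I : Ideal A) (q : ℕ) (x : R.K q) : Prop := R.d q x = 0 ∧ R.Killed I x

/-- Coboundaries of elements killed by `I`. -/
def Bd (I : Ideal A) : ∀ q, R.K q → Prop
  | 0, x => x = 0
  | q + 1, x => ∃ w, R.Killed I w ∧ R.d q w = x

variable {R} {I : Ideal A}

theorem Killed.map {q p : ℕ} {x : R.K q} (hx : R.Killed I x) (g : R.K q →ₗ[A] R.K p) : R.Killed I (g x) :=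
  fun a ha => by rw [← map_smul, hx a ha, map_zero]

theorem Killed.add {q : ℕ} {x y : R.K q} (hx : R.Killed I x) (hy : R.Killed I y) : R.Killed I (x + y) :=
  fun a ha => by rw [smul_add, hx a ha, hy a ha, add_zero]

theorem Killed.smul {q : ℕ} {x : R.K q} (hx : R.Killed I x) (c : A) : R.Killed I (c • x) :=
  fun a ha => by rw [smul_comm, hx a ha, smul_zero]

theorem Killed.neg {q : ℕ} {x : R.K q} (hx : R.Killed I x) : R.Killed I (-x) :=
  fun a ha => by rw [smul_neg, hx a ha, neg_zero]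

theorem Bd.add : ∀ {q : ℕ} {x y : R.K q}, R.Bd I q x → R.Bd I q y → R.Bd I q (x + y)
  | 0, x, y, hx, hy => by simp only [Bd] at *; rw [hx, hy, add_zero]
  | q + 1, x, y, ⟨w, hw, e⟩, ⟨w', hw', e'⟩ => ⟨w + w', hw.add hw', by rw [map_add, e, e']⟩

theorem Bd.neg : ∀ {q : ℕ} {x : R.K q}, R.Bd I q x → R.Bd I q (-x)
  | 0, x, hx => by simp only [Bd] at *; rw [hx, neg_zero]
  | q + 1, x, ⟨w, hw, e⟩ => ⟨-w, hw.neg, by rw [map_neg, e]⟩

theorem Bd.sub {q : ℕ} {x y : R.K q} (hx : R.Bd I q x) (hy : R.Bd I q y) : R.Bd I q (x - y) := by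
  rw [sub_eq_add_neg]; exact hx.add hy.neg

theorem Zc.h {f : A} (hf : f ∈ I) (a : R.Hmt f) {q : ℕ} {z : R.K (q + 1)} (hz : R.Zc I (q + 1) z) :
    R.Zc I q (a.h q z) := by
  refine ⟨?_, hz.2.map _⟩
  have h := a.h_succ q z
  rw [hz.1, map_zero, zero_add, hz.2 f hf] at h
  exact h

theorem Bd.h {f : A} (hf : f ∈ I) (a : R.Hmt f) : ∀ {q : ℕ} {z : R.K (q + 1)}, R.Bd I (q + 1) z → R.Bd I q (a.h q z)
  | 0, z, ⟨w, hw, e⟩ => by
    show a.h 0 z = 0
    rw [← e, a.h_zero, hw f hf]
  | q + 1, z, ⟨w, hw, e⟩ => by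
    refine ⟨-a.h q w, (hw.map _).neg, ?_⟩
    have h := a.h_succ q w
    rw [hw f hf, e] at h
    rw [map_neg]
    linear_combination (norm := abel) (-1 : ℤ) • h

/-- Two homotopies agree up to boundaries. -/
theorem bd_hmt_sub {f : A} (a b : R.Hmt f) {q : ℕ} {z : R.K (q + 1)} (hz : R.Zc I (q + 1) z) :
    R.Bd I q (a.h q z - b.h q z) := by
  obtain ⟨l, h0, h1⟩ := R.exists_null (T := fun q => R.K (q + 1)) (fun q => R.d (q + 1)) (fun q => R.exact (q + 1))
    (fun q => R.dd (q + 1)) (-1) (fun q => a.h q - b.h q)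
    (fun x hx => by
      obtain ⟨y, rfl⟩ := R.exact 0 x hx
      simp [a.h_zero, b.h_zero]) fun q x => by
      have ha := a.h_succ q x
      have hb := b.h_succ q x
      simp only [LinearMap.sub_apply, map_sub, neg_smul, one_smul]
      linear_combination (norm := abel) (1 : ℤ) • ha - (1 : ℤ) • hb
  cases q with
  | zero =>
    have h := h0 z
    rw [hz.1, map_zero] at h
    exact h.symm
  | succ q =>
    refine ⟨-l q z, (hz.2.map _).neg, ?_⟩
    have h := h1 q z
    rw [hz.1, map_zero, zero_add] at h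
    simpa using h

/-- The square of a homotopy is zero up to boundaries. -/
theorem bd_hmt_sq {f : A} (a : R.Hmt f) {q : ℕ} {z : R.K (q + 1 + 1)} (hz : R.Zc I (q + 1 + 1) z) :
    R.Bd I q (a.h q (a.h (q + 1) z)) := by
  obtain ⟨l, h0, h1⟩ := R.exists_null (T := fun q => R.K (q + 1 + 1)) (fun q => R.d (q + 1 + 1))
    (fun q => R.exact (q + 1 + 1)) (fun q => R.dd (q + 1 + 1)) 1 (fun q => a.h q ∘ₗ a.h (q + 1))
    (fun x hx => by
      obtain ⟨y, rfl⟩ := R.exact 1 x hx
      have h := a.h_succ 0 y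
      have h' := congrArg (a.h 0) h
      rw [map_add, a.h_zero, map_smul, add_eq_right] at h'
      exact h') fun q x => by
      have h := a.h_succ (q + 1) x
      have h' := congrArg (a.h (q + 1)) h
      have h'' := a.h_succ q (a.h (q + 1) x)
      rw [map_add, map_smul] at h'
      simp only [LinearMap.comp_apply, one_smul]
      linear_combination (norm := abel) (1 : ℤ) • h' - (1 : ℤ) • h''
  cases q with
  | zero =>
    have h := h0 z
    rw [hz.1, map_zero] at h
    exact h.symm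
  | succ q =>
    refine ⟨l q z, hz.2.map _, ?_⟩
    have h := h1 q z
    rw [hz.1, map_zero, zero_add] at h
    simpa using h

theorem bd_hmt_anticomm {f g : A} (a : R.Hmt f) (b : R.Hmt g) {q : ℕ} {z : R.K (q + 1 + 1)}
    (hz : R.Zc I (q + 1 + 1) z) :
    R.Bd I q (a.h q (b.h (q + 1) z) + b.h q (a.h (q + 1) z)) := by
  have h := ((bd_hmt_sq (a.add b) hz).sub (bd_hmt_sq a hz)).sub (bd_hmt_sq b hz)
  have e : (a.add b).h q ((a.add b).h (q + 1) z) - a.h q (a.h (q + 1) z) - b.h q (b.h (q + 1) z) =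
      a.h q (b.h (q + 1) z) + b.h q (a.h (q + 1) z) := by
    simp only [Hmt.add, LinearMap.add_apply, map_add]; abel
  rwa [e] at h

end Res

end Groth.Agent.H17.FLI
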