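import Groth.Agent.H17.FLI.Op
import Mathlib.Algebra.Module.Submodule.Pointwise

/-!
# Top Koszul degree: vanishing above and right exactness
-/

set_option autoImplicit false
set_option linter.unusedSectionVars false

universe u

namespace Groth.Agent.H17.FLI.Res

variable {A : Type u} [CommRing A] (R : Res A)

/-- Cocycles killed by `I`, as a submodule. -/
def zcS (I : Ideal A) (q : ℕ) : Submodule A (R.K q) where
  carrier := {x | R.Zc I q x}
  add_mem' hx hy := ⟨by rw [map_add, hx.1, hy.1, add_zero], hx.2.add hy.2⟩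
  zero_mem' := ⟨map_zero _, fun a _ => smul_zero a⟩
  smul_mem' c x hx := ⟨by rw [map_smul, hx.1, smul_zero], hx.2.smul c⟩

/-- Boundaries, as a submodule. -/
def bdS (I : Ideal A) (q : ℕ) : Submodule A (R.K q) where
  carrier := {x | R.Bd I q x}
  add_mem' hx hy := hx.add hy
  zero_mem' := by
    cases q with
    | zero => rfl
    | succ q => exact ⟨0, fun a _ => smul_zero a, map_zero _⟩
  smul_mem' c x hx := by
    cases q with
    | zero => show c • x = 0; rw [show x = 0 from hx, smul_zero]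
    | succ q =>
      obtain ⟨w, hw, e⟩ := hx
      exact ⟨c • w, hw.smul c, by rw [map_smul, e]⟩

theorem mem_zcS {I : Ideal A} {q : ℕ} {x : R.K q} : x ∈ R.zcS I q ↔ R.Zc I q x := Iff.rfl

theorem mem_bdS {I : Ideal A} {q : ℕ} {x : R.K q} : x ∈ R.bdS I q ↔ R.Bd I q x := Iff.rfl

theorem bdS_le (I : Ideal A) (q : ℕ) : R.bdS I q ≤ R.zcS I q := by
  intro x hx
  cases q with
  | zero => rw [show x = 0 from hx]; exact zero_mem _
  | succ q =>
    obtain ⟨w, hw, rfl⟩ := hx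
    exact ⟨R.dd q w, hw.map _⟩

/-- Killed cochains whose multiple by the last entry is a cocycle. -/
def divS (I : Ideal A) (a : A) (q : ℕ) : Submodule A (R.K q) where
  carrier := {x | R.Killed I x ∧ R.d q (a • x) = 0}
  add_mem' hx hy := ⟨hx.1.add hy.1, by rw [smul_add, map_add, hx.2, hy.2, add_zero]⟩
  zero_mem' := ⟨fun a _ => smul_zero a, by rw [smul_zero, map_zero]⟩
  smul_mem' c x hx := ⟨hx.1.smul c, by rw [smul_comm, map_smul, hx.2, smul_zero]⟩

variable {R}

theorem d_mem_of_div {c : ℕ} {f : Fin (c + 1) → A} {q : ℕ} {v : R.K q}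
    (hv : v ∈ R.divS (spanOf fun i : Fin c => f i.castSucc) (f (Fin.last c)) q) :
    R.d q v ∈ R.zcS (spanOf f) (q + 1) :=
  ⟨R.dd q v, killed_of_succ (hv.1.map _) (by rw [← map_smul]; exact hv.2)⟩

/-- A boundary after multiplying by the last entry gives a boundary. -/
theorem bd_d_of_bd_smul {c : ℕ} {f : Fin (c + 1) → A}
    (ha : IsSMulRegular (A ⧸ spanOf (fun i : Fin c => f i.castSucc)) (f (Fin.last c))) {q : ℕ} {v : R.K q}
    (hv : R.Killed (spanOf fun i : Fin c => f i.castSucc) v)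
    (hbd : R.Bd (spanOf fun i : Fin c => f i.castSucc) q (f (Fin.last c) • v)) :
    R.Bd (spanOf f) (q + 1) (R.d q v) := by
  cases q with
  | zero => exact ⟨v, killed_of_succ hv hbd, rfl⟩
  | succ q =>
    obtain ⟨w, hw, e⟩ := hbd
    obtain ⟨w', hw', rfl⟩ := exists_div ha hw
    refine ⟨v - R.d q w', killed_of_succ (fun b hb => ?_) ?_, ?_⟩
    · rw [smul_sub, hv b hb, (hw'.map (R.d q)) b hb, sub_zero]
    · rw [smul_sub, ← map_smul, e, sub_self]
    · rw [map_sub, R.dd, sub_zero]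

/-- Vanishing above the length of a regular sequence. -/
theorem vanish : ∀ {c : ℕ} (f : Fin c → A), Regular f → ∀ q, c < q → R.zcS (spanOf f) q ≤ R.bdS (spanOf f) q
  | 0, f, _, q, hq, z, hz => by
    obtain ⟨q, rfl⟩ : ∃ p, q = p + 1 := ⟨q - 1, by omega⟩
    obtain ⟨w, hw⟩ := R.exact q z hz.1
    refine ⟨w, fun b hb => ?_, hw⟩
    simp only [spanOf, Set.range_eq_empty, Ideal.span_empty, Ideal.mem_bot] at hb
    rw [hb, zero_smul]
  | c + 1, f, ⟨hr, ha⟩, q, hq, z, hz => by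
    obtain ⟨q, rfl⟩ : ∃ p, q = p + 1 := ⟨q - 1, by omega⟩
    have hle : spanOf (fun i : Fin c => f i.castSucc) ≤ spanOf f := by rw [spanOf_succ f]; exact le_sup_left
    obtain ⟨v, hv, rfl⟩ := vanish _ hr (q + 1) (by omega) ⟨hz.1, killed_mono hle hz.2⟩
    refine bd_d_of_bd_smul ha hv (vanish _ hr q (by omega) ⟨?_, hv.smul _⟩)
    rw [map_smul, hz.2 _ (Ideal.subset_span ⟨_, rfl⟩)]

variable (R) in
/-- Cocycles in the top degree come from divisible cochains. -/
theorem exists_of_zc {c : ℕ} {f : Fin (c + 1) → A} (hr : Regular (fun i : Fin c => f i.castSucc))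
    {z : R.K (c + 1)} (hz : z ∈ R.zcS (spanOf f) (c + 1)) :
    ∃ v ∈ R.divS (spanOf fun i : Fin c => f i.castSucc) (f (Fin.last c)) c, R.d c v = z := by
  have hle : spanOf (fun i : Fin c => f i.castSucc) ≤ spanOf f := by rw [spanOf_succ f]; exact le_sup_left
  obtain ⟨v, hv, rfl⟩ := vanish _ hr (c + 1) (Nat.lt_succ_self c) ⟨hz.1, killed_mono hle hz.2⟩
  exact ⟨v, ⟨hv, by rw [map_smul, hz.2 _ (Ideal.subset_span ⟨_, rfl⟩)]⟩, rfl⟩

variable {R' : Res A} (φ : ∀ q, R.K q →ₗ[A] R'.K q) (hφ : ∀ q x, φ (q + 1) (R.d q x) = R'.d q (φ q x))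

include hφ in
theorem map_killed_cocycle {I : Ideal A} {q : ℕ} {x : R.K q} (hx : R.Zc I q x) : R'.Zc I q (φ q x) :=
  ⟨by rw [← hφ, hx.1, map_zero], fun a ha => by rw [← map_smul, hx.2 a ha, map_zero]⟩

include hφ in
theorem map_bd {I : Ideal A} : ∀ {q : ℕ} {x : R.K q}, R.Bd I q x → R'.Bd I q (φ q x)
  | 0, x, hx => by show φ 0 x = 0; rw [show x = 0 from hx, map_zero]
  | q + 1, x, ⟨w, hw, e⟩ => ⟨φ q w, fun a ha => by rw [← map_smul, hw a ha, map_zero], by rw [← hφ, e]⟩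

include hφ in
/-- The top degree is right exact. -/
theorem map_surjective (hs : ∀ n, R'.d 0 n = 0 → ∃ m, R.d 0 m = 0 ∧ φ 0 m = n) :
    ∀ {c : ℕ} (f : Fin c → A), Regular f →
      ∀ z', R'.Zc (spanOf f) c z' → ∃ z, R.Zc (spanOf f) c z ∧ R'.Bd (spanOf f) c (z' - φ c z)
  | 0, f, _, z', hz' => by
    obtain ⟨m, hm, e⟩ := hs z' hz'.1
    refine ⟨m, ⟨hm, fun b hb => ?_⟩, ?_⟩
    · simp only [spanOf, Set.range_eq_empty, Ideal.span_empty, Ideal.mem_bot] at hb
      rw [hb, zero_smul]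
    · show z' - φ 0 m = 0
      rw [e, sub_self]
  | c + 1, f, ⟨hr, ha⟩, z', hz' => by
    obtain ⟨v', hv', rfl⟩ := R'.exists_of_zc hr (R'.mem_zcS.2 hz')
    obtain ⟨u, hu, hbd⟩ := map_surjective hs _ hr (f (Fin.last c) • v') ⟨hv'.2, hv'.1.smul _⟩
    obtain ⟨v, hv, rfl⟩ := exists_div ha hu.2
    refine ⟨R.d c v, d_mem_of_div ⟨hv, hu.1⟩, ?_⟩
    rw [hφ, ← map_sub]
    refine bd_d_of_bd_smul ha ?_ ?_
    · exact fun b hb => by rw [smul_sub, hv'.1 b hb, ← map_smul, hv b hb, map_zero, sub_zero]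
    · rwa [smul_sub, ← map_smul]

include hφ in
/-- The kernel in the top degree. -/
theorem map_ker (hs : ∀ n, R'.d 0 n = 0 → ∃ m, R.d 0 m = 0 ∧ φ 0 m = n) :
    ∀ {c : ℕ} (f : Fin c → A), Regular f → ∀ E : Ideal A,
      (∀ m, R.d 0 m = 0 → φ 0 m = 0 → m ∈ (spanOf f ⊔ E) • LinearMap.ker (R.d 0)) →
      ∀ z, R.Zc (spanOf f) c z → R'.Bd (spanOf f) c (φ c z) → z ∈ E • R.zcS (spanOf f) c ⊔ R.bdS (spanOf f) c
  | 0, f, _, E, hk, z, hz, hbd => by
    have e : spanOf f = ⊥ := by simp [spanOf]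
    have h0 : LinearMap.ker (R.d 0) = R.zcS (spanOf f) 0 := by
      refine le_antisymm (fun x hx => ⟨hx, fun b hb => ?_⟩) fun x hx => hx.1
      rw [e, Ideal.mem_bot] at hb
      rw [hb, zero_smul]
    have h := hk z hz.1 hbd
    rw [e, bot_sup_eq, h0] at h
    exact Submodule.mem_sup_left (e ▸ h)
  | c + 1, f, ⟨hr, ha⟩, E, hk, z, hz, hbd => by
    have hle : spanOf (fun i : Fin c => f i.castSucc) ≤ spanOf f := by rw [spanOf_succ f]; exact le_sup_left
    obtain ⟨v, hv, rfl⟩ := R.exists_of_zc hr (R.mem_zcS.2 hz)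
    obtain ⟨w', hw', e'⟩ := hbd
    have hy : R'.Zc (spanOf fun i : Fin c => f i.castSucc) c (φ c v - w') :=
      ⟨by rw [map_sub, e', hφ, sub_self], fun b hb => by
        rw [smul_sub, ← map_smul, hv.1 b hb, map_zero, hw' b (hle hb), sub_zero]⟩
    obtain ⟨y1, hy1, hb1⟩ := map_surjective φ hφ hs _ hr _ hy
    let v1 := v - y1
    have hz1 : R.Zc (spanOf fun i : Fin c => f i.castSucc) c (f (Fin.last c) • v1) :=
      ⟨by rw [smul_sub, map_sub, hv.2, map_smul, hy1.1, smul_zero, sub_zero], by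
        show R.Killed _ (f (Fin.last c) • (v - y1))
        rw [smul_sub, sub_eq_add_neg]; exact (hv.1.smul _).add (hy1.2.smul _).neg⟩
    have hbd1 : R'.Bd (spanOf fun i : Fin c => f i.castSucc) c (φ c (f (Fin.last c) • v1)) := by
      have := (R'.bdS _ c).smul_mem (f (Fin.last c)) (R'.mem_bdS.2 hb1)
      have e : φ c (f (Fin.last c) • v1) = f (Fin.last c) • (φ c v - w' - φ c y1) := by
        simp only [v1, map_smul, map_sub, smul_sub, hw' _ (Ideal.subset_span ⟨_, rfl⟩), sub_zero]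
      rw [e]; exact this
    have hmem := map_ker hs _ hr (Ideal.span {f (Fin.last c)} ⊔ E) (fun m hm hm' => by
      rw [← sup_assoc, ← spanOf_succ f]; exact hk m hm hm') _ hz1 hbd1
    rw [Submodule.sup_smul, sup_assoc] at hmem
    obtain ⟨p, hp, r, hr', hpr⟩ := Submodule.mem_sup.1 hmem
    obtain ⟨s, hs', b, hb, rfl⟩ := Submodule.mem_sup.1 hr'
    rw [Submodule.ideal_span_singleton_smul, Submodule.mem_smul_pointwise_iff_exists] at hp
    obtain ⟨y2, hy2, rfl⟩ := hp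
    let S := R.divS (spanOf fun i : Fin c => f i.castSucc) (f (Fin.last c)) c
    have hsub : R.zcS (spanOf fun i : Fin c => f i.castSucc) c ≤ S.map (f (Fin.last c) • LinearMap.id) := by
      intro x hx
      obtain ⟨v, hv, rfl⟩ := exists_div ha hx.2
      exact ⟨v, ⟨hv, hx.1⟩, rfl⟩
    have hs2 := Submodule.smul_mono le_rfl hsub hs'
    rw [← Submodule.map_smul''] at hs2
    obtain ⟨v2, hv2, rfl⟩ := hs2
    have hdv2 : R.d c v2 ∈ E • R.zcS (spanOf f) (c + 1) := by
      have h : R.d c v2 ∈ (E • S).map (R.d c) := ⟨v2, hv2, rfl⟩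
      rw [Submodule.map_smul''] at h
      refine Submodule.smul_mono le_rfl ?_ h
      rintro _ ⟨x, hx, rfl⟩
      exact d_mem_of_div hx
    have hv2' : v2 ∈ S := Submodule.smul_le_right hv2
    have h3 : R.Bd (spanOf f) (c + 1) (R.d c (v1 - v2 - y2)) := by
      refine bd_d_of_bd_smul ha ?_ ?_
      · exact fun b hb => by
          rw [smul_sub, smul_sub, smul_sub, hv.1 b hb, hy1.2 b hb, hv2'.1 b hb, hy2.2 b hb, sub_zero, sub_zero, sub_zero]
      · have e : f (Fin.last c) • (v1 - v2 - y2) = b := by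
          rw [smul_sub, smul_sub, ← hpr]
          simp only [LinearMap.smul_apply, LinearMap.id_apply]
          abel
        rw [e]; exact hb
    refine Submodule.mem_sup.2 ⟨R.d c v2, hdv2, R.d c (v1 - v2 - y2), h3, ?_⟩
    have e1 : R.d c y1 = 0 := hy1.1
    have e2 : R.d c y2 = 0 := hy2.1
    simp only [v1, map_sub, e1, e2, sub_zero]
    abel

end Groth.Agent.H17.FLI.Res
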