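import Groth.Agent.H4Depth.IdealDepth
import Groth.Agent.H4Depth.CM
import Groth.Agent.H4Depth.Regular
import Mathlib.Algebra.Homology.DerivedCategory.Ext.Linear
import Mathlib.Algebra.Homology.DerivedCategory.Ext.ExactSequences
import Mathlib.RingTheory.Regular.RegularSequence
import Mathlib.Algebra.Category.ModuleCat.Ext.HasExt

/-!
# Ext into a local ring below and at the codimension
-/

set_option autoImplicit false
set_option linter.style.haveILetI false
set_option backward.isDefEq.respectTransparency.types false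
set_option synthInstance.maxHeartbeats 400000
set_option maxHeartbeats 1000000

universe u

open CategoryTheory CategoryTheory.Limits CategoryTheory.Abelian RingTheory.Sequence
open scoped Pointwise

namespace Groth.Agent.H17.FLI.ExtLocal

variable {A : Type u} [CommRing A]

/-- Ext into a Cohen–Macaulay local ring vanishes below the codimension of the support. -/
theorem subsingleton_ext_of_dim_lt [LocCoh.IsCohenMacaulayLocalRing A] (N : ModuleCat.{u} A) [Module.Finite A N]
    (i : ℕ) (h : Module.supportDim A N + (i : WithBot ℕ∞) < ringKrullDim A) :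
    Subsingleton (Ext N (ModuleCat.of A A) i) := by
  let I := Module.annihilator A N
  rcases eq_or_ne I ⊤ with hI | hI
  · haveI : Subsingleton N := subsingleton_of_forall_eq 0 fun v => by
      have h1 : (1 : A) ∈ I := hI ▸ Submodule.mem_top
      simpa using Module.mem_annihilator.1 h1 v
    have hz : IsZero N := ModuleCat.isZero_of_subsingleton _
    exact subsingleton_of_forall_eq 0 fun x => by
      rw [← Ext.mk₀_id_comp x, hz.eq_of_src (𝟙 _) 0, Ext.mk₀_zero, Ext.zero_comp]
  · have hs : Module.support A N = PrimeSpectrum.zeroLocus (I : Set A) := Module.support_eq_zeroLocus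
    have hd := H4Depth.IsCM.supportDim_eq_add_idealDepth (M := A) hI LocCoh.IsCohenMacaulayLocalRing.supportDim_eq_depth
    rw [Module.supportDim_self_eq_ringKrullDim] at hd
    have he : Module.supportDim A (A ⧸ I • (⊤ : Submodule A A)) = Module.supportDim A N := by
      unfold Module.supportDim
      rw [hs, show I • (⊤ : Submodule A A) = I from by rw [smul_eq_mul]; exact Ideal.mul_top I,
        H4Depth.support_quotient_eq]
    rw [he] at hd
    refine H4Depth.subsingleton_ext_of_lt_idealDepth (I := I) N hs.subset i (lt_of_not_ge fun hle => ?_)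
    rw [hd] at h
    exact absurd h (not_lt.2 (add_le_add le_rfl (WithBot.coe_le_coe.2 hle)))

theorem smul_eq_zero_of_smul_src {N M : ModuleCat.{u} A} {x : A} (hx : ∀ v : N, x • v = 0) {q : ℕ}
    (α : Ext N M q) : x • α = 0 := by
  have h0 : (x • 𝟙 N : N ⟶ N) = 0 := ModuleCat.hom_ext (LinearMap.ext fun v => hx v)
  rw [← Ext.mk₀_id_comp α, ← Ext.smul_comp, ← Ext.mk₀_smul, h0, Ext.mk₀_zero, Ext.zero_comp]

/-- Composition with the connecting class, linearly. -/
noncomputable def boundary {S : ShortComplex (ModuleCat.{u} A)} (hS : S.ShortExact) (N : ModuleCat.{u} A) (c : ℕ) :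
    Ext N S.X₃ c →ₗ[A] Ext N S.X₁ (c + 1) where
  toFun β := β.comp hS.extClass rfl
  map_add' _ _ := Ext.add_comp _ _ _ _
  map_smul' r β := Ext.smul_comp (R := A) β hS.extClass rfl r

/-- A weakly regular sequence killing the source computes the first Ext group. -/
theorem ext_weaklyRegular : ∀ (rs : List A) {M : Type u} [AddCommGroup M] [Module A M] (N : ModuleCat.{u} A),
    IsWeaklyRegular M rs → (∀ r ∈ rs, ∀ v : N, r • v = 0) →
    (∀ q < rs.length, Subsingleton (Ext N (ModuleCat.of A M) q)) ∧
      Nonempty (Ext N (ModuleCat.of A M) rs.length ≃ₗ[A]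
        (N →ₗ[A] M ⧸ Ideal.ofList rs • (⊤ : Submodule A M)))
  | [], M, _, _, N, _, _ =>
    ⟨fun q hq => absurd hq (by simp), ⟨Ext.linearEquiv₀ ≪≫ₗ ModuleCat.homLinearEquiv ≪≫ₗ
      LinearEquiv.congrRight (Submodule.quotEquivOfEqBot _ (by rw [Ideal.ofList_nil, Submodule.bot_smul])).symm⟩⟩
  | x :: rs, M, _, _, N, hreg, hN => by
    rw [isWeaklyRegular_cons_iff] at hreg
    obtain ⟨hx, hrs⟩ := hreg
    obtain ⟨hvan, ⟨e⟩⟩ := ext_weaklyRegular rs N hrs fun r hr => hN r (List.mem_cons_of_mem x hr)
    let f : ModuleCat.of A M ⟶ ModuleCat.of A M := ModuleCat.ofHom (LinearMap.lsmul A M x)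
    let g : ModuleCat.of A M ⟶ ModuleCat.of A (QuotSMulTop x M) := ModuleCat.ofHom (Submodule.mkQ _)
    let S : ShortComplex (ModuleCat.{u} A) := ShortComplex.mk f g (ModuleCat.hom_ext (LinearMap.ext fun v =>
      (Submodule.Quotient.mk_eq_zero _).2 (Submodule.smul_mem_pointwise_smul v x ⊤ trivial)))
    have hS : S.ShortExact :=
      { exact := by
          rw [ShortComplex.moduleCat_exact_iff]
          intro v hv
          obtain ⟨w, -, hw⟩ := (Submodule.Quotient.mk_eq_zero (x • ⊤ : Submodule A M)).1 hv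
          exact ⟨w, hw⟩
        mono_f := (ModuleCat.mono_iff_injective _).2 hx
        epi_g := (ModuleCat.epi_iff_surjective _).2 (Submodule.mkQ_surjective _) }
    have hx0 : ∀ {q : ℕ} (α : Ext N (ModuleCat.of A M) q), α.comp (Ext.mk₀ f) (add_zero q) = 0 := fun {q} α => by
      have hf : f = x • 𝟙 (ModuleCat.of A M) := ModuleCat.hom_ext (LinearMap.ext fun _ => rfl)
      rw [hf, Ext.mk₀_smul, Ext.comp_smul, Ext.comp_mk₀_id]
      exact smul_eq_zero_of_smul_src (hN x List.mem_cons_self) α
    have hvan' : ∀ q < rs.length + 1, Subsingleton (Ext N (ModuleCat.of A M) q) := fun q hq =>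
      subsingleton_of_forall_eq 0 fun α => by
        rcases q with - | q
        · obtain ⟨φ, rfl⟩ := (Ext.mk₀_bijective _ _).2 α
          have hφ : φ = 0 := ModuleCat.hom_ext (LinearMap.ext fun v => hx (by
            show x • φ.hom v = x • (0 : M)
            rw [← map_smul, hN x List.mem_cons_self v, map_zero, smul_zero]))
          rw [hφ, Ext.mk₀_zero]
        · obtain ⟨β, hβ⟩ := Ext.covariant_sequence_exact₁ N hS α (hx0 α) (n₀ := q) rfl
          haveI := hvan q (by omega)
          rw [← hβ, Subsingleton.elim β 0, Ext.zero_comp]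
    have hb : Function.Bijective (boundary hS N rs.length) := by
      refine ⟨(injective_iff_map_eq_zero _).2 fun β hβ => ?_, fun α => Ext.covariant_sequence_exact₁ N hS α (hx0 α) rfl⟩
      obtain ⟨γ, rfl⟩ := Ext.covariant_sequence_exact₃ N hS β rfl hβ
      haveI := hvan' rs.length (by omega)
      rw [Subsingleton.elim γ 0, Ext.zero_comp]
    exact ⟨fun q hq => hvan' q (by simpa using hq), ⟨(LinearEquiv.ofBijective _ hb).symm ≪≫ₗ e ≪≫ₗ
      LinearEquiv.congrRight (Submodule.quotOfListConsSMulTopEquivQuotSMulTopInner M x rs).symm⟩⟩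

/-- The top Ext group of the residue field of a regular local ring is a line. -/
theorem exists_generator_ext_residue [IsRegularLocalRing A] {d : ℕ} (hd : ringKrullDim A = d) (N : ModuleCat.{u} A)
    (eN : N ≃ₗ[A] (A ⧸ IsLocalRing.maximalIdeal A)) :
    ∃ g : Ext N (ModuleCat.of A A) d, g ≠ 0 ∧ ∀ v, ∃ a : A, a • g = v := by
  have hsp : (IsLocalRing.maximalIdeal A).spanFinrank = d := by
    exact_mod_cast ((isRegularLocalRing_iff A).1 inferInstance).trans hd
  obtain ⟨x, hx⟩ := H4Depth.exists_fun_fin_span_eq (I := IsLocalRing.maximalIdeal A)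
  subst hsp
  have hof : Ideal.ofList (List.ofFn x) = IsLocalRing.maximalIdeal A :=
    (congrArg Ideal.span (Set.ext fun r => List.mem_ofFn)).trans hx
  obtain ⟨-, ⟨e⟩⟩ := ext_weaklyRegular (M := A) (List.ofFn x) N
    (H4Depth.isRegular_ofFn_of_span_eq _ hd x hx).toIsWeaklyRegular fun r hr v => eN.injective (by
      obtain ⟨w, hw⟩ := Submodule.Quotient.mk_surjective _ (eN v)
      rw [map_smul, ← hw, map_zero, ← Submodule.Quotient.mk_smul, Submodule.Quotient.mk_eq_zero, smul_eq_mul]
      exact Ideal.mul_mem_right _ _ (hof ▸ Ideal.subset_span hr))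
  have hq : Ideal.ofList (List.ofFn x) • (⊤ : Submodule A A) = IsLocalRing.maximalIdeal A := by
    rw [smul_eq_mul, hof]; exact Ideal.mul_top _
  let E : Ext N (ModuleCat.of A A) (List.ofFn x).length ≃ₗ[A] (N →ₗ[A] A ⧸ IsLocalRing.maximalIdeal A) :=
    e ≪≫ₗ LinearEquiv.congrRight (Submodule.quotEquivOfEq _ _ hq)
  obtain ⟨u, hu⟩ := eN.surjective (Submodule.Quotient.mk 1)
  have key : ∃ g : Ext N (ModuleCat.of A A) (List.ofFn x).length, g ≠ 0 ∧ ∀ v, ∃ a : A, a • g = v := by
    refine ⟨E.symm eN.toLinearMap, fun h => ?_, fun v => ?_⟩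
    · have h1 := congrArg E h
      rw [E.apply_symm_apply, map_zero] at h1
      have h2 := (LinearMap.congr_fun h1 u)
      rw [LinearEquiv.coe_coe, hu, LinearMap.zero_apply, Submodule.Quotient.mk_eq_zero] at h2
      exact (IsLocalRing.maximalIdeal.isMaximal A).ne_top ((Ideal.eq_top_iff_one _).2 h2)
    · obtain ⟨a, ha⟩ := Submodule.Quotient.mk_surjective _ (E v u)
      refine ⟨a, E.injective ?_⟩
      rw [map_smul, E.apply_symm_apply]
      refine LinearMap.ext fun w => ?_
      obtain ⟨b, hb⟩ := Submodule.Quotient.mk_surjective _ (eN w)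
      have hw : w = b • u := eN.injective (by
        rw [map_smul, hu, ← hb, ← Submodule.Quotient.mk_smul, smul_eq_mul, mul_one])
      rw [hw, map_smul, map_smul, LinearMap.smul_apply, LinearEquiv.coe_coe, hu, ← ha,
        ← Submodule.Quotient.mk_smul, ← Submodule.Quotient.mk_smul, ← Submodule.Quotient.mk_smul]
      simp [mul_comm]
  rwa [List.length_ofFn] at key

end Groth.Agent.H17.FLI.ExtLocal
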