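import Groth.Agent.H17.FLI.Main
import Groth.Agent.H17.FLI.ExtLocal
import Groth.Agent.H17.EdgeIso.Codim
import Groth.Agent.H17.EdgeIso.Stalk
import Groth.Agent.H4Depth.Regular
import Groth.Agent.H8Props.FieldDimFormula
import Groth.Agent.H8Props.FieldDimScheme

/-!
# Vanishing and torsion of Ext sheaves of a closed subscheme, by codimension
-/

set_option autoImplicit false
set_option linter.style.haveILetI false
set_option linter.unusedSectionVars false
set_option synthInstance.maxHeartbeats 400000
set_option maxHeartbeats 1000000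
set_option backward.isDefEq.respectTransparency false

universe u

open CategoryTheory CategoryTheory.Limits CategoryTheory.Abelian AlgebraicGeometry Opposite TopologicalSpace
open Groth.Agent.H10Inj.SheafExt Groth.Agent.H16Derived.ProjFormula Groth.Agent.H8Props.FieldDim

namespace Groth.Agent.H17.FLI.ExtStalk

theorem exists_nat_of_add {a b : WithBot ℕ∞} {n : ℕ} (h : a + b = (n : WithBot ℕ∞)) :
    ∃ i j : ℕ, a = i ∧ b = j ∧ i + j = n := by
  induction a with
  | bot => simp at h
  | coe a =>
    induction b with
    | bot => simp at h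
    | coe b =>
      rw [← WithBot.coe_add, ← WithBot.coe_natCast, WithBot.coe_inj] at h
      induction a with
      | top => rw [top_add] at h; exact absurd h.symm (ENat.natCast_ne_top n)
      | coe a =>
        induction b with
        | top => rw [add_top] at h; exact absurd h.symm (ENat.natCast_ne_top n)
        | coe b => exact ⟨a, b, rfl, rfl, Nat.cast_injective (R := ℕ∞) (by push_cast; exact h)⟩

theorem cdim_closedEmbedding {X Y : Type u} [TopologicalSpace X] [TopologicalSpace Y] {f : X → Y}
    (hf : Topology.IsClosedEmbedding f) (x : X) : cdim (f x) = cdim x := by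
  unfold cdim
  have h : closure ({f x} : Set Y) = f '' closure {x} := by
    rw [← Set.image_singleton, hf.isClosedMap.closure_image_eq_of_continuous hf.continuous]
  rw [h]
  exact (IsHomeomorph.topologicalKrullDim_eq _ (hf.isEmbedding.homeomorphImage (closure {x})).isHomeomorph).symm

/-- In a pure-dimensional scheme over a field the local ring and the closure of a point add up. -/
theorem exists_dims {k : Type u} [Field k] {Z : Scheme.{u}} (f : Z ⟶ Spec (CommRingCat.of k)) [LocallyOfFiniteType f]
    {n : ℕ} (h : ∀ T ∈ irreducibleComponents Z, topologicalKrullDim T = (n : WithBot ℕ∞)) (z : Z) :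
    ∃ d c : ℕ, ringKrullDim (Z.presheaf.stalk z) = d ∧ cdim z = c ∧ d + c = n := by
  have h1 := localDim_eq_stalk_add_cdim f z
  rw [localDim_eq_of_pure f z _ h] at h1
  exact exists_nat_of_add h1.symm

/-- Stalks of Ext sheaves into a bundle vanish with the Ext groups of the stalks into the local ring. -/
theorem subsingleton_stalk_ext {P : Scheme.{u}} [IsLocallyNoetherian P] [HasInjectiveResolutions P.Modules]
    {F : P.Modules} (hF : Coh.IsCoh F) {E : P.Modules} (hE : FlatMod.IsFinLocFree E) (i : ℕ) (y : P)
    (h : Subsingleton (Ext (ModuleCat.of (P.presheaf.stalk y) (F.presheaf.stalk y))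
      (ModuleCat.of (P.presheaf.stalk y) (P.presheaf.stalk y)) i)) :
    Subsingleton ((((homFunctor F).rightDerived i).obj E).presheaf.stalk y) := by
  obtain ⟨e⟩ := EdgeIso.nonempty_stalk_ext F hF y i E
  haveI := H29Ref.finite_stalk E ((H10Coh.Tw.isCoh_of_vb hE).2) y
  haveI := H8Props.FinLocFree.free_stalk E hE y
  refine @Equiv.subsingleton _ _ e.toEquiv ?_
  exact EdgeIso.subsingleton_ext_finite_free _ (Module.finBasis (P.presheaf.stalk y) (E.presheaf.stalk y)) h

variable {P X : Scheme.{u}} (ι : X ⟶ P) [IsClosedImmersion ι]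

/-- The stalk of `ι_* O_X` is the quotient by the ideal. -/
noncomputable def quotEquiv (x : X) :
    (P.presheaf.stalk (ι.base x) ⧸ idI ι x) ≃ₗ[P.presheaf.stalk (ι.base x)] (O' ι).presheaf.stalk (ι.base x) :=
  Submodule.quotEquivOfEq _ _ (by
    refine le_antisymm (fun a ha => smul_oneGerm_of_mem ι x ha) fun a ha => ?_
    have h := congrArg (pst ι x) (show a • oneGerm ι x = 0 from ha)
    rwa [pst_smul, pst_oneGerm, mul_one, map_zero] at h) ≪≫ₗ
  (LinearMap.toSpanSingleton (P.presheaf.stalk (ι.base x)) _ (oneGerm ι x)).quotKerEquivOfSurjective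
    (exists_smul_oneGerm ι x)

theorem supportDim_stalk (x : X) :
    Module.supportDim (P.presheaf.stalk (ι.base x)) ((O' ι).presheaf.stalk (ι.base x)) =
      ringKrullDim (X.presheaf.stalk x) :=
  ((Module.supportDim_eq_of_equiv (quotEquiv ι x)).symm.trans (Module.supportDim_quotient_eq_ringKrullDim _)).trans
    (ringKrullDim_eq_of_ringEquiv (RingHom.quotientKerEquivOfSurjective (stalkMap_surj ι x)))

variable {k : Type u} [Field k]

/-- Below the codimension the Ext groups of the stalks vanish. -/
theorem subsingleton_ext_stalk (q : P ⟶ Spec (CommRingCat.of k)) [LocallyOfFiniteType q] [IsLocallyNoetherian P]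
    {n r : ℕ} (hP : ∀ T ∈ irreducibleComponents P, topologicalKrullDim T = (n : WithBot ℕ∞))
    (hX : ∀ T ∈ irreducibleComponents X, topologicalKrullDim T = (r : WithBot ℕ∞))
    (hreg : ∀ p : P, IsRegularLocalRing (P.presheaf.stalk p)) {i : ℕ} (hi : i < n - r) (y : P) :
    Subsingleton (Ext (ModuleCat.of (P.presheaf.stalk y) ((O' ι).presheaf.stalk y))
      (ModuleCat.of (P.presheaf.stalk y) (P.presheaf.stalk y)) i) := by
  haveI := hreg y
  haveI := H4Depth.isCohenMacaulayLocalRing_of_regular (P.presheaf.stalk y)
  by_cases hy : y ∈ Set.range ι.base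
  · obtain ⟨x, rfl⟩ := hy
    haveI : IsLocallyNoetherian X := LocallyOfFiniteType.isLocallyNoetherian ι
    haveI : Module.Finite (P.presheaf.stalk (ι.base x))
        (ModuleCat.of (P.presheaf.stalk (ι.base x)) ((O' ι).presheaf.stalk (ι.base x))) :=
      Module.Finite.equiv (quotEquiv ι x)
    refine ExtLocal.subsingleton_ext_of_dim_lt _ i ?_
    obtain ⟨dP, cP, h1, h2, h3⟩ := exists_dims q hP (ι.base x)
    obtain ⟨dX, cX, h4, h5, h6⟩ := exists_dims (ι ≫ q) hX x
    rw [cdim_closedEmbedding ι.isClosedEmbedding x, h5] at h2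
    have hc : cX = cP := by exact_mod_cast h2
    show Module.supportDim _ ((O' ι).presheaf.stalk (ι.base x)) + _ < _
    rw [supportDim_stalk, h1, h4]
    exact_mod_cast (by omega : dX + i < dP)
  · haveI := subsingleton_stalk_push ι (Coh.structureModule X) y hy
    have hz : IsZero (ModuleCat.of (P.presheaf.stalk y) ((O' ι).presheaf.stalk y)) :=
      ModuleCat.isZero_of_subsingleton _
    exact subsingleton_of_forall_eq 0 fun z => by
      rw [← Ext.mk₀_id_comp z, hz.eq_of_src (𝟙 _) 0, Ext.mk₀_zero, Ext.zero_comp]

/-- Below the codimension the Ext sheaves into a bundle vanish. -/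
theorem isZero_extSh (q : P ⟶ Spec (CommRingCat.of k)) [LocallyOfFiniteType q]
    {n r : ℕ} (hP : ∀ T ∈ irreducibleComponents P, topologicalKrullDim T = (n : WithBot ℕ∞))
    (hX : ∀ T ∈ irreducibleComponents X, topologicalKrullDim T = (r : WithBot ℕ∞))
    (hreg : ∀ p : P, IsRegularLocalRing (P.presheaf.stalk p)) {E : P.Modules} (hE : FlatMod.IsFinLocFree E)
    [ModSite.HasSheafHom (O := P.sheaf) (O' ι)] [HasInjectiveResolutions (ModSite.Mod P.sheaf)]
    {i : ℕ} (hi : i < n - r) : IsZero ((ModSite.extSh (O := P.sheaf) (O' ι) i).obj E) := by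
  haveI : IsLocallyNoetherian P := LocallyOfFiniteType.isLocallyNoetherian q
  haveI : IsLocallyNoetherian X := LocallyOfFiniteType.isLocallyNoetherian ι
  haveI : HasInjectiveResolutions P.Modules := ‹HasInjectiveResolutions (ModSite.Mod P.sheaf)›
  rw [(extShIso (O' ι) i E).isZero_iff, EdgeIso.isZero_iff_stalks]
  exact fun y => subsingleton_stalk_ext (H10Coh.isCoh_push_of_isFinite ι _ (H10Coh.isCoh_structureModule' X)) hE i y
    (subsingleton_ext_stalk ι q hP hX hreg hi y)

end Groth.Agent.H17.FLI.ExtStalk
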