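import Groth.Agent.H17.FLI.ExtStalk
import Groth.Agent.H13CInt.Spread
import Groth.Agent.H17.RegQuasi
import Mathlib.RingTheory.KrullDimension.Regular

/-!
# Few equations in the expected dimension form a regular immersion
-/

set_option autoImplicit false
set_option linter.style.haveILetI false
set_option linter.unusedSectionVars false
set_option synthInstance.maxHeartbeats 400000
set_option maxHeartbeats 1000000
set_option backward.isDefEq.respectTransparency false

universe u

open CategoryTheory CategoryTheory.Limits AlgebraicGeometry Opposite TopologicalSpace RingTheory.Sequence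
open Groth.Agent.H8Props.FieldDim
open scoped Pointwise

namespace Groth.Agent.H17.FLI.LciReg

variable {A : Type u} [CommRing A] [IsNoetherianRing A] [IsLocalRing A]

theorem supportDim_le_add_length : ∀ (rs : List A) (M : Type u) [AddCommGroup M] [Module A M] [Module.Finite A M],
    (∀ r ∈ rs, r ∈ IsLocalRing.maximalIdeal A) →
    Module.supportDim A M ≤ Module.supportDim A (M ⧸ Ideal.ofList rs • (⊤ : Submodule A M)) + (rs.length : WithBot ℕ∞)
  | [], M, _, _, _, _ => by
    refine le_of_eq ?_
    rw [List.length_nil, Nat.cast_zero, add_zero]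
    exact (Module.supportDim_eq_of_equiv (Submodule.quotEquivOfEqBot _ (by rw [Ideal.ofList_nil, Submodule.bot_smul]))).symm
  | x :: rs, M, _, _, _, h => by
    refine (Module.supportDim_le_supportDim_quotSMulTop_succ (h x List.mem_cons_self)).trans ?_
    rw [Module.supportDim_eq_of_equiv (Submodule.quotOfListConsSMulTopEquivQuotSMulTopInner M x rs),
      List.length_cons, Nat.cast_add, Nat.cast_one, ← add_assoc]
    exact add_le_add (supportDim_le_add_length rs _ fun r hr => h r (List.mem_cons_of_mem x hr)) le_rfl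

/-- In a Cohen–Macaulay module, elements cutting the dimension by their number form a regular sequence. -/
theorem isWeaklyRegular_of_dim : ∀ (rs : List A) {M : Type u} [AddCommGroup M] [Module A M] [Module.Finite A M],
    LocCoh.IsCohenMacaulayModule A M → (∀ r ∈ rs, r ∈ IsLocalRing.maximalIdeal A) → ∀ d m : ℕ,
    Module.supportDim A M = m → Module.supportDim A (M ⧸ Ideal.ofList rs • (⊤ : Submodule A M)) ≤ d →
    d + rs.length ≤ m → IsWeaklyRegular M rs
  | [], M, _, _, _, _, _, _, _, _, _, _ => IsWeaklyRegular.nil A M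
  | x :: rs, M, _, _, _, hCM, h, d, m, hm, hd, hle => by
    rw [List.length_cons] at hle
    rw [Module.supportDim_eq_of_equiv (Submodule.quotOfListConsSMulTopEquivQuotSMulTopInner M x rs)] at hd
    have hx := h x List.mem_cons_self
    have h' : ∀ r ∈ rs, r ∈ IsLocalRing.maximalIdeal A := fun r hr => h r (List.mem_cons_of_mem x hr)
    have hlt : Module.supportDim A (QuotSMulTop x M) < Module.supportDim A M := by
      rw [hm]
      refine ((supportDim_le_add_length rs _ h').trans (add_le_add hd le_rfl)).trans_lt ?_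
      exact_mod_cast (by omega : d + rs.length < m)
    have hreg := H4Depth.IsCM.isSMulRegular_of_supportDim_lt hCM hlt
    have hsucc := Module.supportDim_quotSMulTop_succ_eq_supportDim hreg hx
    rw [hm, show (1 : WithBot ℕ∞) = ((1 : ℕ) : WithBot ℕ∞) from Nat.cast_one.symm] at hsucc
    obtain ⟨m', o, hm', ho, hmo⟩ := ExtStalk.exists_nat_of_add hsucc
    have ho' : 1 = o := by exact_mod_cast ho
    rw [isWeaklyRegular_cons_iff]
    exact ⟨hreg, isWeaklyRegular_of_dim rs ((H4Depth.isCM_quotSMulTop_iff hx hreg).2 hCM) h' d m' hm' hd (by omega)⟩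

variable {k : Type u} [Field k] {P X : Scheme.{u}} (ι : X ⟶ P) [IsClosedImmersion ι]

/-- A closed subscheme cut out by as many equations as its codimension is regularly immersed. -/
theorem regImm_of_gen (q : P ⟶ Spec (CommRingCat.of k)) [LocallyOfFiniteType q] {n r c : ℕ} (hn : r + c = n)
    (hP : ∀ T ∈ irreducibleComponents P, topologicalKrullDim T = (n : WithBot ℕ∞))
    (hX : ∀ T ∈ irreducibleComponents X, topologicalKrullDim T = (r : WithBot ℕ∞))
    (hCM : ∀ p : P, IsRegularLocalRing (P.presheaf.stalk p))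
    (hgen : ∀ x : X, ∃ U : P.affineOpens, ι.base x ∈ U.1 ∧
      ∃ f : Fin c → Γ(P, U.1), ι.ker.ideal U = Ideal.span (Set.range f)) :
    RegImm.IsRegularImmersionOfCodim RegImm.Kind.regular c ι := by
  haveI : IsLocallyNoetherian P := LocallyOfFiniteType.isLocallyNoetherian q
  refine ⟨inferInstance, fun z => ?_⟩
  obtain ⟨U, hzU, f, hf⟩ := hgen z
  haveI := hCM (ι.base z)
  haveI := H4Depth.isCohenMacaulayLocalRing_of_regular (P.presheaf.stalk (ι.base z))
  letI := TopCat.Presheaf.algebra_section_stalk P.presheaf (⟨ι.base z, hzU⟩ : U.1)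
  haveI := U.2.isLocalization_stalk ⟨ι.base z, hzU⟩
  haveI : IsNoetherianRing Γ(P, U.1) := IsLocallyNoetherian.component_noetherian U
  let A := P.presheaf.stalk (ι.base z)
  let g : Fin c → A := fun i => algebraMap Γ(P, U.1) A (f i)
  have hspan : (ι.ker.ideal U).map (algebraMap Γ(P, U.1) A) = Ideal.span (Set.range g) := by
    rw [hf, Ideal.map_span, ← Set.range_comp]; rfl
  have hker : idI ι z = Ideal.span (Set.range g) := (H13CInt.ker_stalkMap ι z U hzU).trans hspan
  have hmem : ∀ a ∈ List.ofFn g, a ∈ IsLocalRing.maximalIdeal A := fun a ha => by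
    obtain ⟨i, rfl⟩ := List.mem_ofFn.1 ha
    exact IsLocalRing.le_maximalIdeal (RingHom.ker_ne_top _) (hker.ge (Ideal.subset_span ⟨i, rfl⟩))
  obtain ⟨dP, cP, h1, h2, h3⟩ := ExtStalk.exists_dims q hP (ι.base z)
  obtain ⟨dX, cX, h4, h5, h6⟩ := ExtStalk.exists_dims (ι ≫ q) hX z
  rw [ExtStalk.cdim_closedEmbedding ι.isClosedEmbedding z, h5] at h2
  have hc : cX = cP := by exact_mod_cast h2
  have hw : IsWeaklyRegular A (List.ofFn g) := by
    refine isWeaklyRegular_of_dim _ LocCoh.IsCohenMacaulayLocalRing.supportDim_eq_depth hmem dX dP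
      ((Module.supportDim_self_eq_ringKrullDim (R := A)).trans h1) ?_ (by rw [List.length_ofFn]; omega)
    rw [show Ideal.ofList (List.ofFn g) • (⊤ : Submodule A A) = idI ι z by
      rw [smul_eq_mul, hker]
      exact (Ideal.mul_top _).trans (congrArg Ideal.span (Set.ext fun a => List.mem_ofFn))]
    exact ((Module.supportDim_quotient_eq_ringKrullDim _).trans
      ((ringKrullDim_eq_of_ringEquiv (RingHom.quotientKerEquivOfSurjective (stalkMap_surj ι z))).trans h4)).le
  obtain ⟨t, ht, b, hb⟩ := H13CInt.exists_away_isWeaklyRegular (U.2.primeIdealOf ⟨ι.base z, hzU⟩).asIdeal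
    (ι.ker.ideal U) g hw hspan
  letI : Algebra Γ(P, U.1) Γ(P, P.basicOpen t) := (P.presheaf.map (homOfLE (P.basicOpen_le t)).op).hom.toAlgebra
  haveI : IsLocalization.Away t Γ(P, P.basicOpen t) := U.2.isLocalization_basicOpen t
  obtain ⟨hI, hbs⟩ := hb Γ(P, P.basicOpen t)
  have hzt : ι.base z ∈ P.basicOpen t := (P.mem_basicOpen t _ hzU).2
    ((IsLocalization.AtPrime.isUnit_to_map_iff A (U.2.primeIdealOf ⟨ι.base z, hzU⟩).asIdeal t).2 ht)
  let V : P.affineOpens := ⟨P.basicOpen t, U.2.basicOpen t⟩
  let bs : List Γ(P, V.1) := List.ofFn (algebraMap Γ(P, U.1) Γ(P, P.basicOpen t) ∘ b)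
  have hk : RingHom.ker (ι.app V.1).hom = Ideal.ofList bs := by
    refine (ι.ker_apply V).symm.trans ?_
    rw [← ι.ker.map_ideal (V := U) (U := V) (P.basicOpen_le t)]
    exact hI.trans (congrArg Ideal.span (Set.ext fun a => (List.mem_ofFn).symm))
  haveI : IsClosedImmersion (ι ∣_ V.1) := IsZariskiLocalAtTarget.restrict ‹_› V.1
  exact ⟨V, hzt, inferInstance, bs, by simp [bs], H29Slice.isRegular_of_mem ι z hzt hbs hk, hk⟩

end Groth.Agent.H17.FLI.LciReg
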