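import Groth.Agent.H17.FLI.SheafIso
import Groth.Agent.H10Coh.AffinePush
import Groth.Agent.H10Coh.Proper
import Groth.Agent.H10Coh.FinType2

/-!
# The fundamental local isomorphism
-/

set_option autoImplicit false
set_option linter.style.haveILetI false
set_option linter.unusedSectionVars false
set_option synthInstance.maxHeartbeats 400000
set_option maxHeartbeats 1000000
set_option backward.isDefEq.respectTransparency false

universe u

open CategoryTheory CategoryTheory.Limits AlgebraicGeometry Opposite TopologicalSpace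
open Groth.Agent.H10Inj.SheafExt Groth.Agent.H16Derived.ProjFormula

namespace Groth.Agent.H17.FLI

attribute [local instance] Groth.Agent.H06Mod.stalkAlgebra

variable {X P : Scheme.{u}} (ι : X ⟶ P) [IsClosedImmersion ι] [IsLocallyNoetherian P]

/-- `ι_* O_X` is of finite presentation. -/
theorem isFP_O' : CohB1.IsFP (O' ι) := by
  haveI : IsLocallyNoetherian X := LocallyOfFiniteType.isLocallyNoetherian ι
  exact H10Coh.isFP_of_isCoh _ (H10Coh.isCoh_push_of_isFinite ι _ (H10Coh.isCoh_structureModule' X))

/-- The kernel of `F_y → (ι^* F)_x` is the ideal times `F_y`. -/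
theorem mem_smul_of_pullStalk_eq_zero (F : P.Modules) (x : X) (m : F.presheaf.stalk (ι.base x))
    (hm : H06Mod.pullStalk ι F x m = 0) :
    m ∈ idI ι x • (⊤ : Submodule (P.presheaf.stalk (ι.base x)) (F.presheaf.stalk (ι.base x))) := by
  let A := P.presheaf.stalk (ι.base x)
  let B := X.presheaf.stalk x
  let N := F.presheaf.stalk (ι.base x)
  let Q := N ⧸ (idI ι x • (⊤ : Submodule A N))
  let g := Function.surjInv (stalkMap_surj ι x)
  have hg : ∀ b, (ι.stalkMap x).hom (g b) = b := Function.surjInv_eq (stalkMap_surj ι x)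
  have key : ∀ r s : A, (ι.stalkMap x).hom r = (ι.stalkMap x).hom s → ∀ n : Q, r • n = s • n := by
    intro r s hrs n
    obtain ⟨n, rfl⟩ := Submodule.Quotient.mk_surjective _ n
    rw [← Submodule.Quotient.mk_smul, ← Submodule.Quotient.mk_smul, Submodule.Quotient.eq, ← sub_smul]
    exact Submodule.smul_mem_smul (by rw [RingHom.mem_ker, map_sub, hrs, sub_self]) trivial
  let back : TensorProduct A B N →ₗ[A] Q := TensorProduct.lift
    { toFun := fun b =>
        { toFun := fun n => g b • (Submodule.Quotient.mk n : Q)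
          map_add' := fun _ _ => by rw [Submodule.Quotient.mk_add, smul_add]
          map_smul' := fun s n => by rw [Submodule.Quotient.mk_smul, RingHom.id_apply, smul_comm] }
      map_add' := fun b c => LinearMap.ext fun n => by
        show g (b + c) • (Submodule.Quotient.mk n : Q) = g b • Submodule.Quotient.mk n + g c • Submodule.Quotient.mk n
        rw [← add_smul]
        exact key _ _ (by rw [map_add, hg, hg, hg]) _
      map_smul' := fun s b => LinearMap.ext fun n => by
        show g (s • b) • (Submodule.Quotient.mk n : Q) = s • g b • Submodule.Quotient.mk n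
        rw [smul_smul]
        exact key _ _ (by rw [map_mul, hg, hg, Algebra.smul_def]; rfl) _ }
  have h1 : (H06Mod.pullStalkEquiv ι F x) ((1 : B) ⊗ₜ[A] m) = 0 :=
    ((H06Mod.pullStalkLin_tmul ι F x 1 m).trans (one_smul _ _)).trans hm
  have h2 : back ((1 : B) ⊗ₜ[A] m) = Submodule.Quotient.mk m :=
    (show g 1 • (Submodule.Quotient.mk m : Q) = Submodule.Quotient.mk m from
      (key _ 1 (by rw [hg, map_one]) _).trans (one_smul A _))
  rw [(LinearEquiv.map_eq_zero_iff _).1 h1, map_zero] at h2
  exact (Submodule.Quotient.mk_eq_zero _).1 h2.symm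

/-- Off the closed subscheme the Ext sheaves vanish. -/
theorem subsingleton_homology_stalk {G : P.Modules} (J : InjectiveResolution G) (r : ℕ) (y : P)
    (hy : y ∉ Set.range ι.base) : Subsingleton (((homCx ι J).homology r).presheaf.stalk y) := by
  haveI hO : Subsingleton ((O' ι).presheaf.stalk y) := subsingleton_stalk_push ι _ y hy
  haveI : Subsingleton (((homFunctor (O' ι)).obj (J.cocomplex.X r)).presheaf.stalk y) :=
    ⟨fun a b => (H29Ref.evalStalk_bijective (O' ι) (J.cocomplex.X r) (isFP_O' ι) y).1
      (LinearMap.ext fun σ => by rw [Subsingleton.elim σ 0, map_zero, map_zero])⟩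
  have hi : Function.Injective ((DerSch.stalkFunctor P y).map ((homCx ι J).iCycles r)) := by
    haveI : Mono ((DerSch.stalkFunctor P y).map ((homCx ι J).iCycles r)) := inferInstance
    exact (ModuleCat.mono_iff_injective _).1 inferInstance
  have hp : Function.Surjective ((DerSch.stalkFunctor P y).map ((homCx ι J).homologyπ r)) := by
    haveI : Epi ((DerSch.stalkFunctor P y).map ((homCx ι J).homologyπ r)) := inferInstance
    exact (ModuleCat.epi_iff_surjective _).1 inferInstance
  refine ⟨fun a b => ?_⟩
  obtain ⟨a, rfl⟩ := hp a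
  obtain ⟨b, rfl⟩ := hp b
  exact congrArg _ (hi (Subsingleton.elim (α := ((homFunctor (O' ι)).obj (J.cocomplex.X r)).presheaf.stalk y) _ _))

variable {G G' : P.Modules} (J : InjectiveResolution G) (J' : InjectiveResolution G') (φ : J.cocomplex ⟶ J'.cocomplex)

/-- The map of complexes computing the Ext sheaves. -/
noncomputable abbrev homCxMap : homCx ι J ⟶ homCx ι J' :=
  ((homFunctor (O' ι)).mapHomologicalComplex (ComplexShape.up ℕ)).map φ

/-- Representatives are natural. -/
theorem rep_map (x : X) {r : ℕ} {h : ((homCx ι J).homology r).presheaf.stalk (ι.base x)} {z}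
    (hz : Rep ι x J r h z) :
    Rep ι x J' r ((DerSch.stalkFunctor P (ι.base x)).map (HomologicalComplex.homologyMap (homCxMap ι J J' φ) r) h)
      ((DerSch.stalkFunctor P (ι.base x)).map (φ.f r) z) := by
  obtain ⟨c, rfl, rfl⟩ := hz
  refine ⟨(DerSch.stalkFunctor P (ι.base x)).map (HomologicalComplex.cyclesMap (homCxMap ι J J' φ) r) c, ?_, ?_⟩
  · erw [stalkLin_map_comp, stalkLin_map_comp, HomologicalComplex.homologyπ_naturality]
  · erw [stalkLin_map_comp, HomologicalComplex.cyclesMap_i]
    rw [← evOne_natural, Functor.map_comp]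
    rfl

theorem exists_of_cocycle (y : P) {n : (stalkRes J y).K 0} (hn : (stalkRes J y).d 0 n = 0) :
    ∃ m : G.presheaf.stalk y, (DerSch.stalkFunctor P y).map (J.ι.f 0) m = n := by
  have h : (ShortComplex.mk (J.ι.f 0) (J.cocomplex.d 0 1) J.ι_f_zero_comp_complex_d).Exact :=
    ShortComplex.exact_of_f_is_kernel _ J.isLimitKernelFork
  have h' := h.map (DerSch.stalkFunctor P y)
  rw [ShortComplex.moduleCat_exact_iff] at h'
  exact h' n hn

theorem cocycle_of_map (y : P) (m : G.presheaf.stalk y) :
    (stalkRes J y).d 0 ((DerSch.stalkFunctor P y).map (J.ι.f 0) m) = 0 := by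
  show (DerSch.stalkFunctor P y).map (J.cocomplex.d 0 1) _ = 0
  erw [stalkLin_map_comp]
  rw [J.ι_f_zero_comp_complex_d, Functor.map_zero]
  rfl

variable {r : ℕ} (hι : RegImm.IsRegularImmersionOfCodim RegImm.Kind.regular r ι)

include hι in
/-- The Ext sheaf in the codimension only sees the restriction to the closed subscheme. -/
theorem nonempty_reduce_iso (F : P.Modules) (J : InjectiveResolution F)
    (J' : InjectiveResolution ((push ι).obj ((pull ι).obj F))) :
    Nonempty ((homCx ι J).homology r ≅ (homCx ι J').homology r) := by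
  let η : F ⟶ (push ι).obj ((pull ι).obj F) := (adj ι).unit.app F
  let φ := InjectiveResolution.desc η J' J
  have hφ0 : J.ι.f 0 ≫ φ.f 0 = η ≫ J'.ι.f 0 := by
    have h := congrArg (fun t => HomologicalComplex.Hom.f t 0) (InjectiveResolution.desc_commutes η J' J)
    simpa [φ] using h
  haveI : IsIso (HomologicalComplex.homologyMap (homCxMap ι J J' φ) r) := by
    refine Groth.Agent.H16Derived.KFlat.Stalk.isIso_of_stalk _ fun y => (ConcreteCategory.isIso_iff_bijective _).2 ?_
    show Function.Bijective ((DerSch.stalkFunctor P y).map (HomologicalComplex.homologyMap (homCxMap ι J J' φ) r))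
    by_cases hy : y ∈ Set.range ι.base
    · obtain ⟨x, rfl⟩ := hy
      obtain ⟨C, hx⟩ := exists_chart_at ι r hι x
      let f : Fin r → P.presheaf.stalk (ι.base x) := fun i => P.presheaf.germ C.U.1 (ι.base x) hx (C.f i)
      have hreg : Res.Regular f := C.regular x hx
      have hspan : Res.spanOf f = idI ι x := C.span x hx
      let ψ : ∀ q, (stalkRes J (ι.base x)).K q →ₗ[P.presheaf.stalk (ι.base x)] (stalkRes J' (ι.base x)).K q :=
        fun q => ((DerSch.stalkFunctor P (ι.base x)).map (φ.f q)).hom
      have hψ : ∀ q z, ψ (q + 1) ((stalkRes J (ι.base x)).d q z) = (stalkRes J' (ι.base x)).d q (ψ q z) := by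
        intro q z
        show (DerSch.stalkFunctor P (ι.base x)).map _ ((DerSch.stalkFunctor P (ι.base x)).map _ z) =
          (DerSch.stalkFunctor P (ι.base x)).map _ ((DerSch.stalkFunctor P (ι.base x)).map _ z)
        erw [stalkLin_map_comp, stalkLin_map_comp, φ.comm]
      have hη : ∀ m, ψ 0 ((DerSch.stalkFunctor P (ι.base x)).map (J.ι.f 0) m) =
          (DerSch.stalkFunctor P (ι.base x)).map (J'.ι.f 0) ((DerSch.stalkFunctor P (ι.base x)).map η m) := by
        intro m
        show (DerSch.stalkFunctor P (ι.base x)).map _ _ = _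
        erw [stalkLin_map_comp, stalkLin_map_comp, hφ0]
        rfl
      have hs : ∀ n, (stalkRes J' (ι.base x)).d 0 n = 0 →
          ∃ m, (stalkRes J (ι.base x)).d 0 m = 0 ∧ ψ 0 m = n := by
        intro n hn
        obtain ⟨n', rfl⟩ := exists_of_cocycle J' (ι.base x) hn
        obtain ⟨m, hm⟩ : ∃ m, (DerSch.stalkFunctor P (ι.base x)).map η m = n' := by
          obtain ⟨t, ht⟩ := (H06Mod.pullStalkEquiv ι F x).surjective (pushStalk ι _ x n')
          obtain ⟨m, hm⟩ : ∃ m, H06Mod.pullStalk ι F x m = pushStalk ι _ x n' := by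
            rw [← ht]
            clear ht
            induction t using TensorProduct.induction_on with
            | zero => exact ⟨0, by simp only [map_zero]⟩
            | add a b ha hb =>
              obtain ⟨a', ha'⟩ := ha
              obtain ⟨b', hb'⟩ := hb
              exact ⟨a' + b', by rw [map_add, map_add, ha', hb']⟩
            | tmul b m =>
              obtain ⟨a, rfl⟩ := stalkMap_surj ι x b
              exact ⟨a • m, (H06Mod.pullStalk_smul ι F x a m).trans (H06Mod.pullStalkLin_tmul ι F x _ m).symm⟩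
          exact ⟨m, (pushStalk_bijective ι _ x).1 ((pushStalk_unit ι F x m).trans hm)⟩
        exact ⟨_, cocycle_of_map J (ι.base x) m, (hη m).trans (congrArg _ hm)⟩
      have hk : ∀ m, (stalkRes J (ι.base x)).d 0 m = 0 → ψ 0 m = 0 →
          m ∈ (Res.spanOf f ⊔ ⊥) • LinearMap.ker ((stalkRes J (ι.base x)).d 0) := by
        intro m hm hm'
        obtain ⟨m, rfl⟩ := exists_of_cocycle J (ι.base x) hm
        rw [hη] at hm'
        haveI : Mono ((DerSch.stalkFunctor P (ι.base x)).map (J'.ι.f 0)) := inferInstance
        have h0 : (DerSch.stalkFunctor P (ι.base x)).map η m = 0 :=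
          (ModuleCat.mono_iff_injective _).1 inferInstance (hm'.trans (map_zero _).symm)
        have h1 : H06Mod.pullStalk ι F x m = 0 :=
          (pushStalk_unit ι F x m).symm.trans ((congrArg (pushStalk ι _ x) h0).trans (map_zero _))
        rw [sup_bot_eq, hspan]
        have h2 := Submodule.mem_map_of_mem (f := ((DerSch.stalkFunctor P (ι.base x)).map (J.ι.f 0)).hom)
          (mem_smul_of_pullStalk_eq_zero ι F x m h1)
        rw [Submodule.map_smul''] at h2
        refine Submodule.smul_mono le_rfl ?_ h2
        rintro _ ⟨a, -, rfl⟩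
        exact cocycle_of_map J (ι.base x) a
      constructor
      · refine (injective_iff_map_eq_zero _).2 fun h hh => ?_
        obtain ⟨z, hz⟩ := exists_rep ι x J h
        have hz' := rep_map ι J J' φ x hz
        rw [hh, rep_zero_iff ι x (isFP_O' ι) J', ← hspan] at hz'
        have h1 := Res.map_ker ψ hψ hs f hreg ⊥ hk z (hspan.symm ▸ rep_zc ι x J hz) hz'
        rw [Submodule.bot_smul, bot_sup_eq] at h1
        have h2 : (stalkRes J (ι.base x)).Bd (idI ι x) r z := hspan ▸ h1
        rw [← rep_zero_iff ι x (isFP_O' ι) J] at h2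
        obtain ⟨c, rfl, hc⟩ := hz
        obtain ⟨c', hc1, hc1'⟩ := h2
        rw [iCycles_stalk_injective ι x J r (evOne_injective ι x (isFP_O' ι) _ (hc.trans hc1'.symm))]
        exact hc1
      · intro h'
        obtain ⟨z', hz'⟩ := exists_rep ι x J' h'
        obtain ⟨z, hz, hbd⟩ := Res.map_surjective ψ hψ hs f hreg z' (hspan.symm ▸ rep_zc ι x J' hz')
        obtain ⟨h, hh⟩ := exists_rep_of_zc ι x (isFP_O' ι) J (hspan ▸ hz)
        refine ⟨h, ?_⟩
        have h1 := rep_add ι x J' hz' (rep_smul ι x J' (-1) (rep_map ι J J' φ x hh))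
        rw [hspan, ← rep_zero_iff ι x (isFP_O' ι) J'] at hbd
        obtain ⟨c, hc, hc'⟩ := h1
        obtain ⟨c0, hc0, hc0'⟩ := hbd
        have e : c = c0 := iCycles_stalk_injective ι x J' r (evOne_injective ι x (isFP_O' ι) _
          (hc'.trans ((by rw [neg_one_smul, ← sub_eq_add_neg]; rfl : _ = z' - ψ r z).trans hc0'.symm)))
        rw [e, hc0, neg_one_smul, ← sub_eq_add_neg, eq_comm, sub_eq_zero] at hc
        exact hc.symm
    · haveI h1 := subsingleton_homology_stalk ι J r y hy
      haveI h2 := subsingleton_homology_stalk ι J' r y hy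
      exact ⟨fun (a b : ((homCx ι J).homology r).presheaf.stalk y) _ => Subsingleton.elim a b,
        fun (b : ((homCx ι J').homology r).presheaf.stalk y) =>
          ⟨(0 : ((homCx ι J).homology r).presheaf.stalk y), Subsingleton.elim _ b⟩⟩
  exact ⟨asIso (HomologicalComplex.homologyMap (homCxMap ι J J' φ) r)⟩

include hι in
/-- The fundamental local isomorphism, for any module. -/
theorem nonempty_extSh_iso (F : P.Modules) {L : X.Modules} (hL : ExtPow.IsExtPow r (Omega.conormal ι) L)
    [ModSite.HasSheafHom (O := X.sheaf) L] [ModSite.HasSheafHom (O := P.sheaf) (O' ι)]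
    [HasInjectiveResolutions (ModSite.Mod P.sheaf)] :
    Nonempty ((ModSite.extSh (O := P.sheaf) (O' ι) r).obj F ≅
      (Scheme.Modules.pushforward ι).obj
        ((ModSite.sheafHom (O := X.sheaf) L).obj ((Scheme.Modules.pullback ι).obj F))) := by
  haveI : HasInjectiveResolutions P.Modules := ‹HasInjectiveResolutions (ModSite.Mod P.sheaf)›
  let J : InjectiveResolution F := injectiveResolution F
  let J' : InjectiveResolution ((push ι).obj ((pull ι).obj F)) := injectiveResolution _
  obtain ⟨e1⟩ := nonempty_reduce_iso ι hι F J J'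
  obtain ⟨e2⟩ := nonempty_extH_iso ι J' (isFP_O' ι) hι hL
  exact ⟨extShIso (O' ι) r F ≪≫ J.isoRightDerivedObj (homFunctor (O' ι)) r ≪≫ e1 ≪≫ e2 ≪≫
    (push ι).mapIso ((modSiteHomIso L).app ((pull ι).obj F)).symm⟩

end Groth.Agent.H17.FLI
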