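import Groth.Agent.H17.FLI.Alg
import Mathlib.Data.Fin.Tuple.Basic

/-!
# The iterated homotopy pairing
-/

set_option autoImplicit false
set_option linter.unusedSectionVars false

universe u

namespace Groth.Agent.H17.FLI.Res

variable {A : Type u} [CommRing A] {R : Res A}

/-- `h_{f₁} ⋯ h_{f_c}`. -/
def op : ∀ {c : ℕ} {f : Fin c → A}, (∀ i, R.Hmt (f i)) → (R.K c →ₗ[A] R.K 0)
  | 0, _, _ => LinearMap.id
  | c + 1, f, h => (op (f := fun i : Fin c => f i.castSucc) fun i => h i.castSucc) ∘ₗ (h (Fin.last c)).h c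

theorem op_succ {c : ℕ} {f : Fin (c + 1) → A} (h : ∀ i, R.Hmt (f i)) (z : R.K (c + 1)) :
    op h z = op (fun i : Fin c => h i.castSucc) ((h (Fin.last c)).h c z) := rfl

variable {I : Ideal A}

theorem op_bd : ∀ {c : ℕ} {f : Fin c → A} (h : ∀ i, R.Hmt (f i)), (∀ i, f i ∈ I) →
    ∀ {z : R.K c}, R.Bd I c z → op h z = 0
  | 0, _, _, _, z, hz => hz
  | c + 1, f, h, hf, z, hz => op_bd (fun i : Fin c => h i.castSucc) (fun _ => hf _) (Bd.h (hf (Fin.last c)) (h (Fin.last c)) hz)

theorem op_mem : ∀ {c : ℕ} {f : Fin c → A} (h : ∀ i, R.Hmt (f i)), (∀ i, f i ∈ I) →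
    ∀ {z : R.K c}, R.Zc I c z → R.Zc I 0 (op h z)
  | 0, _, _, _, z, hz => hz
  | c + 1, f, h, hf, z, hz => op_mem (fun i : Fin c => h i.castSucc) (fun _ => hf _) (Zc.h (hf (Fin.last c)) (h (Fin.last c)) hz)

theorem op_eq_of_bd {c : ℕ} {f : Fin c → A} (h : ∀ i, R.Hmt (f i)) (hf : ∀ i, f i ∈ I) {y z : R.K c}
    (hyz : R.Bd I c (y - z)) : op h y = op h z :=
  sub_eq_zero.1 (by rw [← map_sub]; exact op_bd h hf hyz)

/-- The value depends only on the tuple. -/
theorem op_congr : ∀ {c : ℕ} {f f' : Fin c → A} (h : ∀ i, R.Hmt (f i)) (h' : ∀ i, R.Hmt (f' i)), f = f' →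
    (∀ i, f i ∈ I) → ∀ {z : R.K c}, R.Zc I c z → op h z = op h' z
  | 0, _, _, _, _, _, _, z, _ => rfl
  | c + 1, f, f', h, h', e, hf, z, hz => by
    subst e
    rw [op_succ, op_succ, op_eq_of_bd (fun i : Fin c => h i.castSucc) (fun _ => hf _)
      (bd_hmt_sub (h (Fin.last c)) (h' (Fin.last c)) hz)]
    exact op_congr _ _ rfl (fun _ => hf _) (Zc.h (hf _) _ hz)

theorem op_update_add : ∀ {c : ℕ} (f : Fin c → A) (i : Fin c) (a b : A) {ha : Fin c → A} {hb : Fin c → A}
    {hab : Fin c → A} (Ha : ∀ j, R.Hmt (ha j)) (Hb : ∀ j, R.Hmt (hb j)) (Hab : ∀ j, R.Hmt (hab j)),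
    ha = Function.update f i a → hb = Function.update f i b → hab = Function.update f i (a + b) →
    (∀ j, ha j ∈ I) → (∀ j, hb j ∈ I) → ∀ {z : R.K c}, R.Zc I c z → op Hab z = op Ha z + op Hb z
  | 0, _, i, _, _, _, _, _, _, _, _, _, _, _, _, _, _, _ => i.elim0
  | c + 1, f, i, a, b, ha, hb, hab, Ha, Hb, Hab, ea, eb, eab, hIa, hIb, z, hz => by
    have hIab : ∀ j, hab j ∈ I := fun j => by
      have h1 := hIa j; have h2 := hIb j
      subst ea eb eab
      by_cases hj : j = i
      · subst hj; rw [Function.update_self] at h1 h2 ⊢; exact I.add_mem h1 h2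
      · rw [Function.update_of_ne hj] at h1 ⊢; exact h1
    rw [op_succ, op_succ, op_succ]
    subst ea eb eab
    induction i using Fin.lastCases with
    | last =>
      have e : ∀ (x : A) (j : Fin c), Function.update f (Fin.last c) x j.castSucc = f j.castSucc := fun x j =>
        Function.update_of_ne (Fin.castSucc_lt_last j).ne _ _
      let hl : R.Hmt (Function.update f (Fin.last c) (a + b) (Fin.last c)) :=
        Hmt.cast (by simp) ((Ha (Fin.last c)).add (Hb (Fin.last c)))
      have hfm : ∀ j : Fin c, f j.castSucc ∈ I := fun j => e a j ▸ hIa j.castSucc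
      rw [op_eq_of_bd _ (fun j => hIab _) (bd_hmt_sub (Hab (Fin.last c)) hl hz)]
      show op (fun j : Fin c => Hab j.castSucc) ((Ha (Fin.last c)).h c z + (Hb (Fin.last c)).h c z) = _
      rw [map_add]
      congr 1
      · exact op_congr _ _ (funext fun j => (e _ j).trans (e _ j).symm) (fun j => hIab _) (Zc.h (hIa _) _ hz)
      · exact op_congr _ _ (funext fun j => (e _ j).trans (e _ j).symm) (fun j => hIab _) (Zc.h (hIb _) _ hz)
    | cast i =>
      have e : ∀ x : A, (fun j : Fin c => Function.update f i.castSucc x j.castSucc) =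
          Function.update (fun j : Fin c => f j.castSucc) i x := fun x => funext fun j => by
        by_cases hj : j = i
        · subst hj; simp
        · rw [Function.update_of_ne hj, Function.update_of_ne (fun h => hj (Fin.castSucc_injective c h))]
      have el : ∀ x : A, Function.update f i.castSucc x (Fin.last c) = f (Fin.last c) := fun x =>
        Function.update_of_ne (Fin.castSucc_lt_last i).ne' _ _
      rw [op_update_add (fun j : Fin c => f j.castSucc) i a b _ _ _ (e a) (e b) (e (a + b))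
        (fun j => hIa _) (fun j => hIb _) (Zc.h (hIab _) (Hab (Fin.last c)) hz)]
      congr 1
      · exact op_eq_of_bd _ (fun j => hIa _)
          (bd_hmt_sub (Hmt.cast ((el _).trans (el a).symm) (Hab (Fin.last c))) (Ha (Fin.last c)) hz)
      · exact op_eq_of_bd _ (fun j => hIb _)
          (bd_hmt_sub (Hmt.cast ((el _).trans (el b).symm) (Hab (Fin.last c))) (Hb (Fin.last c)) hz)

theorem op_update_smul : ∀ {c : ℕ} (f : Fin c → A) (i : Fin c) (t a : A) {ha : Fin c → A}
    {hta : Fin c → A} (Ha : ∀ j, R.Hmt (ha j)) (Hta : ∀ j, R.Hmt (hta j)),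
    ha = Function.update f i a → hta = Function.update f i (t * a) →
    (∀ j, ha j ∈ I) → ∀ {z : R.K c}, R.Zc I c z → op Hta z = t • op Ha z
  | 0, _, i, _, _, _, _, _, _, _, _, _, _, _ => i.elim0
  | c + 1, f, i, t, a, ha, hta, Ha, Hta, ea, eta, hIa, z, hz => by
    have hIt : ∀ j, hta j ∈ I := fun j => by
      have h1 := hIa j
      subst ea eta
      by_cases hj : j = i
      · subst hj; rw [Function.update_self] at h1 ⊢; exact I.mul_mem_left t h1
      · rw [Function.update_of_ne hj] at h1 ⊢; exact h1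
    rw [op_succ, op_succ]
    subst ea eta
    induction i using Fin.lastCases with
    | last =>
      have e : ∀ (x : A) (j : Fin c), Function.update f (Fin.last c) x j.castSucc = f j.castSucc := fun x j =>
        Function.update_of_ne (Fin.castSucc_lt_last j).ne _ _
      let hl : R.Hmt (Function.update f (Fin.last c) (t * a) (Fin.last c)) :=
        Hmt.cast (by simp) ((Ha (Fin.last c)).smul t)
      rw [op_eq_of_bd _ (fun j => hIt _) (bd_hmt_sub (Hta (Fin.last c)) hl hz)]
      show op (fun j : Fin c => Hta j.castSucc) (t • (Ha (Fin.last c)).h c z) = _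
      rw [map_smul]
      congr 1
      exact op_congr _ _ (funext fun j => (e _ j).trans (e _ j).symm) (fun j => hIt _) (Zc.h (hIa _) _ hz)
    | cast i =>
      have e : ∀ x : A, (fun j : Fin c => Function.update f i.castSucc x j.castSucc) =
          Function.update (fun j : Fin c => f j.castSucc) i x := fun x => funext fun j => by
        by_cases hj : j = i
        · subst hj; simp
        · rw [Function.update_of_ne hj, Function.update_of_ne (fun h => hj (Fin.castSucc_injective c h))]
      have el : ∀ x : A, Function.update f i.castSucc x (Fin.last c) = f (Fin.last c) := fun x =>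
        Function.update_of_ne (Fin.castSucc_lt_last i).ne' _ _
      rw [op_update_smul (fun j : Fin c => f j.castSucc) i t a _ _ (e a) (e (t * a)) (fun j => hIa _)
        (Zc.h (hIt _) (Hta (Fin.last c)) hz)]
      congr 1
      exact op_eq_of_bd _ (fun j => hIa _)
        (bd_hmt_sub (Hmt.cast ((el _).trans (el a).symm) (Hta (Fin.last c))) (Ha (Fin.last c)) hz)

/-- The pairing alternates. -/
theorem op_eq_zero_of_eq : ∀ {c : ℕ} {f : Fin c → A} (h : ∀ j, R.Hmt (f j)) (i j : Fin c), i < j → f i = f j →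
    (∀ i, f i ∈ I) → ∀ {z : R.K c}, R.Zc I c z → op h z = 0
  | 0, _, _, i, _, _, _, _, _, _ => i.elim0
  | 1, _, _, i, j, hij, _, _, _, _ => absurd hij (by omega)
  | c + 2, f, h, i, j, hij, e, hf, z, hz => by
    induction j using Fin.lastCases with
    | cast j =>
      obtain ⟨i, rfl⟩ : ∃ i' : Fin (c + 1), i'.castSucc = i :=
        ⟨⟨i.1, lt_trans hij j.2⟩, rfl⟩
      rw [op_succ]
      exact op_eq_zero_of_eq (fun i : Fin (c + 1) => h i.castSucc) i j (by simpa using hij) e (fun _ => hf _)
        (Zc.h (hf _) _ hz)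
    | last =>
      obtain ⟨i, rfl⟩ : ∃ i' : Fin (c + 1), i'.castSucc = i := ⟨⟨i.1, hij⟩, rfl⟩
      let a := h (Fin.last c).castSucc
      let b := h (Fin.last (c + 1))
      change op (fun i : Fin c => h i.castSucc.castSucc) (a.h c (b.h (c + 1) z)) = 0
      induction i using Fin.lastCases with
      | last =>
        rw [op_eq_of_bd (fun i : Fin c => h i.castSucc.castSucc) (fun _ => hf _)
          (z := a.h c (a.h (c + 1) z)) (by
          rw [← map_sub]
          exact Bd.h (hf _) _ (bd_hmt_sub b (Hmt.cast e a) hz))]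
        exact op_bd _ (fun _ => hf _) (bd_hmt_sq a hz)
      | cast i =>
        rw [show op (fun i : Fin c => h i.castSucc.castSucc) (a.h c (b.h (c + 1) z)) =
            - op (fun i : Fin c => h i.castSucc.castSucc) (b.h c (a.h (c + 1) z)) from
          eq_neg_of_add_eq_zero_left (by
            rw [← map_add]; exact op_bd _ (fun _ => hf _) (bd_hmt_anticomm a b hz)), neg_eq_zero]
        let g : Fin (c + 1) → A := Fin.snoc (fun i => f i.castSucc.castSucc) (f (Fin.last (c + 1)))
        let H : ∀ k, R.Hmt (g k) := Fin.lastCases (Hmt.cast (by simp [g]) b)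
          fun k => Hmt.cast (by simp [g]) (h k.castSucc.castSucc)
        have hH : op H (a.h (c + 1) z) = op (fun i : Fin c => h i.castSucc.castSucc) (b.h c (a.h (c + 1) z)) := by
          rw [op_succ]
          simp only [H, Fin.lastCases_last, Hmt.cast]
          refine op_congr _ _ (funext fun k => Fin.snoc_castSucc _ _ k) (fun k => ?_) (Zc.h (hf _) _ (Zc.h (hf _) _ hz))
          simp only [g, Fin.snoc_castSucc]; exact hf _
        rw [← hH]
        refine op_eq_zero_of_eq H i.castSucc (Fin.last c) (Fin.castSucc_lt_last i)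
          (by simp only [g, Fin.snoc_castSucc, Fin.snoc_last]; exact e) (fun k => ?_) (Zc.h (hf _) _ hz)
        induction k using Fin.lastCases with
        | last => simp only [g, Fin.snoc_last]; exact hf _
        | cast k => simp only [g, Fin.snoc_castSucc]; exact hf _

/-- A tuple with an entry in `J` times the ideal pairs into `J` times. -/
theorem op_mul_mem {c : ℕ} (f : Fin c → A) (i : Fin c) {t a : A} (ht : t ∈ I) {hta : Fin c → A}
    (Hta : ∀ j, R.Hmt (hta j)) (eta : hta = Function.update f i (t * a))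
    (hI : ∀ j, Function.update f i a j ∈ I) (ha : ∀ j, ∀ x, R.d 0 x = 0 → Function.update f i a j • x = 0)
    {z : R.K c} (hz : R.Zc I c z) : op Hta z = 0 := by
  have H : ∀ j, R.Hmt (Function.update f i a j) := fun j => (R.nonempty_hmt _ (ha j)).some
  rw [op_update_smul f i t a H Hta rfl eta hI hz]
  exact (op_mem H hI hz).2 t ht

/-- The ideal of a tuple. -/
abbrev spanOf {c : ℕ} (f : Fin c → A) : Ideal A := Ideal.span (Set.range f)

theorem spanOf_succ {c : ℕ} (f : Fin (c + 1) → A) :
    spanOf f = spanOf (fun i : Fin c => f i.castSucc) ⊔ Ideal.span {f (Fin.last c)} := by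
  refine le_antisymm (Ideal.span_le.2 ?_) (sup_le (Ideal.span_le.2 ?_) (Ideal.span_le.2 ?_))
  · rintro _ ⟨i, rfl⟩
    induction i using Fin.lastCases with
    | last => exact Ideal.mem_sup_right (Ideal.mem_span_singleton_self _)
    | cast i => exact Ideal.mem_sup_left (Ideal.subset_span ⟨i, rfl⟩)
  · rintro _ ⟨i, rfl⟩; exact Ideal.subset_span ⟨_, rfl⟩
  · rintro _ rfl; exact Ideal.subset_span ⟨_, rfl⟩

/-- A tuple is regular: each entry is a non-zero-divisor modulo the earlier ones. -/
def Regular : ∀ {c : ℕ}, (Fin c → A) → Prop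
  | 0, _ => True
  | c + 1, f => Regular (fun i : Fin c => f i.castSucc) ∧
      IsSMulRegular (A ⧸ spanOf (fun i : Fin c => f i.castSucc)) (f (Fin.last c))

/-- Division inside the elements killed by `J`. -/
theorem exists_div {J : Ideal A} {a : A} (ha : IsSMulRegular (A ⧸ J) a) {q : ℕ} {x : R.K q} (hx : R.Killed J x) :
    ∃ y, R.Killed J y ∧ a • y = x := by
  let g : (A ⧸ J) →ₗ[A] R.K q := Submodule.liftQ J (LinearMap.toSpanSingleton A (R.K q) x) fun b hb => hx b hb
  obtain ⟨l, hl⟩ := exists_factor (R.baer q) (a • LinearMap.id : (A ⧸ J) →ₗ[A] A ⧸ J) g fun b hb => by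
    rw [ha.right_eq_zero_of_smul (x := b) (by simpa using hb)]; exact zero_mem _
  let e : A ⧸ J := Submodule.Quotient.mk 1
  refine ⟨l e, fun b hb => ?_, ?_⟩
  · rw [← map_smul]
    have : b • e = 0 := by
      rw [← Submodule.Quotient.mk_smul, Submodule.Quotient.mk_eq_zero, smul_eq_mul, mul_one]; exact hb
    rw [this, map_zero]
  · rw [← map_smul]
    refine (LinearMap.congr_fun hl e).trans ?_
    change (1 : A) • x = x
    exact one_smul _ _

theorem killed_of_succ {c : ℕ} {f : Fin (c + 1) → A} {q : ℕ} {x : R.K q}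
    (h1 : R.Killed (spanOf fun i : Fin c => f i.castSucc) x) (h2 : f (Fin.last c) • x = 0) :
    R.Killed (spanOf f) x := by
  intro b hb
  rw [spanOf_succ] at hb
  obtain ⟨b1, hb1, b2, hb2, rfl⟩ := Submodule.mem_sup.1 hb
  obtain ⟨t, rfl⟩ := Ideal.mem_span_singleton'.1 hb2
  rw [add_smul, h1 b1 hb1, mul_smul, h2, smul_zero, add_zero]

theorem killed_mono {J J' : Ideal A} (h : J ≤ J') {q : ℕ} {x : R.K q} (hx : R.Killed J' x) : R.Killed J x :=
  fun b hb => hx b (h hb)

/-- Vanishing above and bijectivity at the length of a regular sequence. -/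
theorem main : ∀ {c : ℕ} (f : Fin c → A), Regular f → (∀ x, R.d 0 x = 0 → ∀ i, f i • x = 0) →
    (∀ q, c < q → ∀ z, R.Zc (spanOf f) q z → R.Bd (spanOf f) q z) ∧
    ∀ h : ∀ i, R.Hmt (f i),
      (∀ n, R.d 0 n = 0 → ∃ z, R.Zc (spanOf f) c z ∧ op h z = n) ∧
      (∀ z, R.Zc (spanOf f) c z → op h z = 0 → R.Bd (spanOf f) c z)
  | 0, f, _, _ => by
    have h0 : ∀ {q : ℕ} (x : R.K q), R.Killed (spanOf f) x := fun x b hb => by
      simp only [spanOf, Set.range_eq_empty, Ideal.span_empty, Ideal.mem_bot] at hb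
      rw [hb, zero_smul]
    refine ⟨fun q hq z hz => ?_, fun h => ⟨fun n hn => ⟨n, ⟨hn, h0 n⟩, rfl⟩, fun z _ e => e⟩⟩
    obtain ⟨q, rfl⟩ : ∃ p, q = p + 1 := ⟨q - 1, by omega⟩
    obtain ⟨w, hw⟩ := R.exact q z hz.1
    exact ⟨w, h0 w, hw⟩
  | c + 1, f, ⟨hr, ha⟩, hN => by
    have hle : spanOf (fun i : Fin c => f i.castSucc) ≤ spanOf f := by rw [spanOf_succ f]; exact le_sup_left
    have hlast : f (Fin.last c) ∈ spanOf f := Ideal.subset_span ⟨_, rfl⟩
    obtain ⟨hv, hb⟩ := main (fun i : Fin c => f i.castSucc) hr fun x hx i => hN x hx _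
    have lower : ∀ q, c < q + 1 → ∀ z, R.Zc (spanOf f) (q + 1) z →
        ∃ v, R.Killed (spanOf fun i : Fin c => f i.castSucc) v ∧ R.d q v = z :=
      fun q hq z hz => hv (q + 1) hq z ⟨hz.1, killed_mono hle hz.2⟩
    have fix_ : ∀ q, ∀ v, R.Killed (spanOf fun i : Fin c => f i.castSucc) v →
        R.Bd (spanOf fun i : Fin c => f i.castSucc) q (f (Fin.last c) • v) →
        R.Bd (spanOf f) (q + 1) (R.d q v) := by
      intro q v hv' hbd
      cases q with
      | zero => exact ⟨v, killed_of_succ hv' hbd, rfl⟩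
      | succ q =>
        obtain ⟨w, hw, e⟩ := hbd
        obtain ⟨w', hw', rfl⟩ := exists_div ha hw
        refine ⟨v - R.d q w', killed_of_succ (fun b hb => ?_) ?_, ?_⟩
        · rw [smul_sub, hv' b hb, (hw'.map (R.d q)) b hb, sub_zero]
        · rw [smul_sub, ← map_smul, e, sub_self]
        · rw [map_sub, R.dd, sub_zero]
    refine ⟨fun q hq z hz => ?_, fun h => ⟨fun n hn => ?_, fun z hz e => ?_⟩⟩
    · obtain ⟨q, rfl⟩ : ∃ p, q = p + 1 := ⟨q - 1, by omega⟩
      obtain ⟨v, hv', rfl⟩ := lower q (by omega) z hz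
      refine fix_ q v hv' (hv q (by omega) _ ⟨?_, hv'.smul _⟩)
      rw [map_smul, hz.2 _ hlast]
    · obtain ⟨u, hu, hun⟩ := (hb fun i => h i.castSucc).1 n hn
      obtain ⟨v, hv', hvu⟩ := exists_div ha hu.2
      have hz : R.Zc (spanOf f) (c + 1) (R.d c v) := by
        refine ⟨R.dd c v, killed_of_succ (hv'.map _) ?_⟩
        rw [← map_smul, hvu, hu.1]
      refine ⟨_, hz, ?_⟩
      rw [op_succ, ← hun]
      refine op_eq_of_bd (I := spanOf fun i : Fin c => f i.castSucc) _ (fun i => Ideal.subset_span ⟨i, rfl⟩) ?_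
      cases c with
      | zero => show _ = 0; rw [(h (Fin.last 0)).h_zero, hvu, sub_self]
      | succ c =>
        refine ⟨-(h (Fin.last (c + 1))).h c v, (hv'.map _).neg, ?_⟩
        have hs := (h (Fin.last (c + 1))).h_succ c v
        rw [map_neg, ← hvu, ← hs]; abel
    · rw [op_succ] at e
      have hz' : R.Zc (spanOf fun i : Fin c => f i.castSucc) c ((h (Fin.last c)).h c z) :=
        ⟨(Zc.h hlast _ hz).1, killed_mono hle (Zc.h hlast _ hz).2⟩
      have hbd := (hb fun i => h i.castSucc).2 _ hz' e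
      obtain ⟨v, hv', rfl⟩ := lower c (Nat.lt_succ_self c) z hz
      refine fix_ c v hv' ?_
      cases c with
      | zero =>
        have h0 : (h (Fin.last 0)).h 0 (R.d 0 v) = 0 := hbd
        rw [(h (Fin.last 0)).h_zero] at h0
        exact h0
      | succ c =>
        rw [← (h (Fin.last (c + 1))).h_succ c v]
        exact hbd.add ⟨_, hv'.map _, rfl⟩

end Groth.Agent.H17.FLI.Res
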