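import Groth.Agent.H17.ExtRegVanish.RegImm
import Groth.Agent.H17.FLI.ExtStalk
import Groth.Agent.H13CInt.Spread
import Groth.Agent.H22Alg.CohSupport
import Groth.Agent.H22Alg.CurveCompact
import Groth.Agent.H29Ref.HomSections

/-!
# Ext groups out of a coherent module with small support
-/

set_option autoImplicit false
set_option linter.style.haveILetI false
set_option linter.unusedSectionVars false
set_option synthInstance.maxHeartbeats 400000
set_option maxHeartbeats 1000000
set_option backward.isDefEq.respectTransparency false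

universe u

open CategoryTheory CategoryTheory.Limits AlgebraicGeometry Opposite TopologicalSpace RingTheory.Sequence
open Groth.Agent.H8Props.FieldDim

namespace Groth.Agent.H17.FLI.SuppVanish

theorem isWeaklyRegular_replicate_one {R : Type u} [CommRing R] : ∀ (p : ℕ) (M : Type u) [AddCommGroup M] [Module R M],
    IsWeaklyRegular M (List.replicate p (1 : R))
  | 0, M, _, _ => IsWeaklyRegular.nil R M
  | p + 1, M, _, _ => by
    rw [List.replicate_succ, isWeaklyRegular_cons_iff]
    exact ⟨IsSMulRegular.one M, isWeaklyRegular_replicate_one p _⟩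

/-- The primes of a localised quotient. -/
theorem ringKrullDim_quot_le {B A : Type u} [CommRing B] [CommRing A] [Algebra B A] (P : Ideal B) [P.IsPrime]
    [IsLocalization.AtPrime A P] (I : Ideal B) (z : PrimeSpectrum (B ⧸ I))
    (hz : z.asIdeal.comap (Ideal.Quotient.mk I) = P) :
    ringKrullDim (A ⧸ I.map (algebraMap B A)) ≤ (z.asIdeal.height : WithBot ℕ∞) := by
  let J := I.map (algebraMap B A)
  let f : B ⧸ I →+* A ⧸ J := Ideal.quotientMap J (algebraMap B A) Ideal.le_comap_map
  have key : ∀ q : PrimeSpectrum (A ⧸ J), (q.asIdeal.comap f).comap (Ideal.Quotient.mk I) =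
      (q.asIdeal.comap (Ideal.Quotient.mk J)).comap (algebraMap B A) := fun q => by
    rw [Ideal.comap_comap, Ideal.comap_comap, Ideal.quotientMap_comp_mk]
  have hmap : ∀ q : PrimeSpectrum (A ⧸ J),
      Ideal.map (algebraMap B A) ((q.asIdeal.comap (Ideal.Quotient.mk J)).comap (algebraMap B A)) =
        q.asIdeal.comap (Ideal.Quotient.mk J) := fun q =>
    IsLocalization.map_comap P.primeCompl A _
  have hle : ∀ a b : PrimeSpectrum (A ⧸ J), a.asIdeal.comap f ≤ b.asIdeal.comap f → a ≤ b := fun a b h => by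
    have h1 := Ideal.comap_mono (f := Ideal.Quotient.mk I) h
    rw [key, key] at h1
    have h2 := Ideal.map_mono (f := algebraMap B A) h1
    rw [hmap, hmap] at h2
    exact (Ideal.comap_le_comap_iff_of_surjective (Ideal.Quotient.mk J) Ideal.Quotient.mk_surjective _ _).1 h2
  have hbelow : ∀ q : PrimeSpectrum (A ⧸ J), (⟨q.asIdeal.comap f, inferInstance⟩ : PrimeSpectrum (B ⧸ I)) ≤ z := by
    intro q
    refine (Ideal.comap_le_comap_iff_of_surjective (Ideal.Quotient.mk I) Ideal.Quotient.mk_surjective _ _).1 ?_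
    rw [key, hz]
    intro b hb
    by_contra hbP
    exact (Ideal.IsPrime.ne_top inferInstance : q.asIdeal.comap (Ideal.Quotient.mk J) ≠ ⊤)
      (Ideal.eq_top_of_isUnit_mem _ hb (IsLocalization.map_units A (⟨b, hbP⟩ : P.primeCompl)))
  rw [PrimeSpectrum.height_eq_orderHeight, Order.height_eq_krullDim_Iic]
  refine Order.krullDim_le_of_strictMono (fun q => ⟨⟨q.asIdeal.comap f, inferInstance⟩, hbelow q⟩) fun a b hab => ?_
  exact lt_of_le_not_ge (show a.asIdeal.comap f ≤ b.asIdeal.comap f from Ideal.comap_mono hab.le)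
    fun h => hab.not_ge (hle b a h)

variable {k : Type u} [Field k] {X : Scheme.{u}} (g : X ⟶ Spec (CommRingCat.of k)) [LocallyOfFiniteType g]

include g in
/-- Near every point, `p` functions killing the module and forming a regular sequence. -/
theorem exists_chart {F : X.Modules} (hF : Coh.IsCoh F) {n p : ℕ}
    (hn : ∀ x : X, FlatMor.localDim X x = (n : WithBot ℕ∞))
    (hCM : ∀ x : X, LocCoh.IsCohenMacaulayLocalRing (X.presheaf.stalk x))
    (hsupp : topologicalKrullDim ↥(CohB1.support F) + (p : WithBot ℕ∞) ≤ (n : WithBot ℕ∞)) (x : X) :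
    ∃ (V : X.affineOpens) (rs : List Γ(X, V.1)), x ∈ V.1 ∧ rs.length = p ∧ IsWeaklyRegular Γ(X, V.1) rs ∧
      ∀ r ∈ rs, ∀ (y : X) (hy : y ∈ V.1) (v : F.presheaf.stalk y), X.presheaf.germ V.1 y hy r • v = 0 := by
  haveI : IsLocallyNoetherian X := LocallyOfFiniteType.isLocallyNoetherian g
  obtain ⟨U, hU, hxU, -⟩ := exists_isAffineOpen_mem_and_subset (x := x) (U := ⊤) trivial
  let B := Γ(X, U)
  let A := X.presheaf.stalk x
  haveI : IsNoetherianRing B := IsLocallyNoetherian.component_noetherian ⟨U, hU⟩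
  haveI : Module.Finite B Γ(F, U) := ((H10Coh.isCoh_iff_finite_sections F).1 hF).2 U hU
  letI := TopCat.Presheaf.algebra_section_stalk X.presheaf (⟨x, hxU⟩ : U)
  let P := (hU.primeIdealOf ⟨x, hxU⟩).asIdeal
  haveI : IsLocalization.AtPrime A P := hU.isLocalization_stalk ⟨x, hxU⟩
  let I := Module.annihilator B Γ(F, U)
  have hkill : ∀ a ∈ I, ∀ (y : X) (hy : y ∈ U) (v : F.presheaf.stalk y), X.presheaf.germ U y hy a • v = 0 := by
    intro a ha y hy v
    have hv : v ∈ Submodule.span (X.presheaf.stalk y) (Set.range fun m : Γ(F, U) => F.presheaf.germ U y hy m) := by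
      rw [H29Ref.span_germ_all F hF.1 hU le_rfl y hy]; exact Submodule.mem_top
    induction hv using Submodule.span_induction with
    | mem w hw =>
      obtain ⟨m, rfl⟩ := hw
      exact ((Mero.germ_smul ..).symm.trans (congrArg _ (Module.mem_annihilator.1 ha m))).trans (map_zero _)
    | zero => rw [smul_zero]
    | add w w' _ _ h h' => rw [smul_add, h, h', add_zero]
    | smul s w _ h => rw [smul_comm, h, smul_zero]
  by_cases hIP : I ≤ P
  swap
  · obtain ⟨t, htI, htP⟩ := Set.not_subset.1 hIP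
    have hxt : x ∈ X.basicOpen t := (X.mem_basicOpen t _ hxU).2
      ((IsLocalization.AtPrime.isUnit_to_map_iff A P t).2 htP)
    refine ⟨⟨X.basicOpen t, hU.basicOpen t⟩, List.replicate p 1, hxt, List.length_replicate,
      isWeaklyRegular_replicate_one p _, fun r hr y hy v => ?_⟩
    rw [(List.mem_replicate.1 hr).2, map_one, one_smul]
    exact ((X.mem_basicOpen t y (X.basicOpen_le t hy)).1 hy).smul_eq_zero.1 (hkill t htI y (X.basicOpen_le t hy) v)
  haveI := hCM x
  let J := I.map (algebraMap B A)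
  have hJ : J ≠ ⊤ := ne_top_of_le_ne_top (IsLocalRing.maximalIdeal.isMaximal A).ne_top
    ((Ideal.map_mono hIP).trans (IsLocalization.AtPrime.map_eq_maximalIdeal P A).le)
  let z : PrimeSpectrum (B ⧸ I) := ⟨P.map (Ideal.Quotient.mk I),
    Ideal.map_isPrime_of_surjective Ideal.Quotient.mk_surjective (by rwa [Ideal.mk_ker])⟩
  have hz : z.asIdeal.comap (Ideal.Quotient.mk I) = P := by
    rw [Ideal.comap_map_of_surjective _ Ideal.Quotient.mk_surjective, ← RingHom.ker_eq_comap_bot, Ideal.mk_ker,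
      sup_eq_left.2 hIP]
  let j : Spec (CommRingCat.of (B ⧸ I)) ⟶ X := Spec.map (CommRingCat.ofHom (Ideal.Quotient.mk I)) ≫ hU.fromSpec
  haveI : IsClosedImmersion (Spec.map (CommRingCat.ofHom (Ideal.Quotient.mk I))) :=
    IsClosedImmersion.spec_of_surjective _ Ideal.Quotient.mk_surjective
  have hjz : j z = x := by
    refine (Scheme.Hom.comp_apply _ _ _).trans ?_
    rw [show (Spec.map (CommRingCat.ofHom (Ideal.Quotient.mk I))) z = hU.primeIdealOf ⟨x, hxU⟩ from
      PrimeSpectrum.ext hz]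
    exact hU.fromSpec_primeIdealOf ⟨x, hxU⟩
  have hsub : Set.range j ⊆ CohB1.support F := by
    rintro _ ⟨w, rfl⟩ hsing
    let q : PrimeSpectrum B := Spec.map (CommRingCat.ofHom (Ideal.Quotient.mk I)) w
    have hq : I ≤ q.asIdeal := fun b hb => by
      show Ideal.Quotient.mk I b ∈ w.asIdeal
      rw [Ideal.Quotient.eq_zero_iff_mem.2 hb]; exact Ideal.zero_mem _
    have hmem : hU.fromSpec q ∈ U := (hU.range_fromSpec).le ⟨q, rfl⟩
    have hp : hU.primeIdealOf ⟨hU.fromSpec q, hmem⟩ = q :=
      hU.fromSpec.isEmbedding.injective (hU.fromSpec_primeIdealOf ⟨_, hmem⟩)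
    have hnt : Nontrivial (F.presheaf.stalk (hU.fromSpec q)) := by
      rw [H22Alg.CohSupport.nontrivial_stalk_iff F hF.1 hU ⟨_, hmem⟩, hp, Module.support_eq_zeroLocus]
      exact hq
    haveI : Subsingleton (F.presheaf.stalk (hU.fromSpec q)) := hsing
    exact not_nontrivial _ hnt
  haveI : LocallyOfFiniteType (j ≫ g) := inferInstance
  have hdim : ringKrullDim (A ⧸ J) + cdim x + (p : WithBot ℕ∞) ≤ (n : WithBot ℕ∞) := by
    refine le_trans (add_le_add ?_ le_rfl) hsupp
    haveI : z.asIdeal.IsPrime := z.2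
    let k' : Algebra (B ⧸ I) ((Spec (CommRingCat.of (B ⧸ I))).presheaf.stalk z) :=
      StructureSheaf.stalkAlgebra (B ⧸ I) z
    haveI : IsLocalization.AtPrime ((Spec (CommRingCat.of (B ⧸ I))).presheaf.stalk z) z.asIdeal :=
      StructureSheaf.IsLocalization.to_stalk (B ⧸ I) z
    calc ringKrullDim (A ⧸ J) + cdim x
        ≤ ringKrullDim ((Spec (CommRingCat.of (B ⧸ I))).presheaf.stalk z) + cdim z := by
          refine add_le_add ?_ (le_of_eq ?_)
          · exact (ringKrullDim_quot_le P I z hz).trans (IsLocalization.AtPrime.ringKrullDim_eq_height z.asIdeal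
              ((Spec (CommRingCat.of (B ⧸ I))).presheaf.stalk z)).ge
          · conv_lhs => rw [← hjz]
            exact H22Alg.CurveCompact.cdim_map k (j ≫ g) g j rfl z
      _ = FlatMor.localDim (Spec (CommRingCat.of (B ⧸ I))) z := (localDim_eq_stalk_add_cdim (j ≫ g) z).symm
      _ ≤ topologicalKrullDim (Spec (CommRingCat.of (B ⧸ I))) := by
          rw [localDim_eq (j ≫ g), dim_eq_iSup_cdim]
          exact iSup_le fun η => le_iSup (fun w => cdim w) η.1
      _ = topologicalKrullDim (Set.range j) := (dim_range j.isEmbedding).symm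
      _ ≤ topologicalKrullDim ↥(CohB1.support F) := dim_mono hsub
  have hCMA := H4Depth.IsCM.supportDim_eq_add_idealDepth (M := A) hJ LocCoh.IsCohenMacaulayLocalRing.supportDim_eq_depth
  rw [Module.supportDim_self_eq_ringKrullDim, show J • (⊤ : Submodule A A) = J from
    (smul_eq_mul _ _).trans (Ideal.mul_top J), Module.supportDim_quotient_eq_ringKrullDim] at hCMA
  have hloc := localDim_eq_stalk_add_cdim g x
  rw [hn x] at hloc
  obtain ⟨d, c, hd, hc, hdc⟩ := ExtStalk.exists_nat_of_add hloc.symm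
  rw [hd] at hCMA
  obtain ⟨a, e, ha, he, hae⟩ := ExtStalk.exists_nat_of_add hCMA.symm
  rw [ha, hc] at hdim
  have hnat : a + c + p ≤ n := by exact_mod_cast hdim
  have hpe : (p : ℕ∞) ≤ LocCoh.idealDepth J A := by
    rw [← WithBot.coe_le_coe]
    refine le_trans ?_ he.ge
    exact_mod_cast (by omega : p ≤ e)
  obtain ⟨fs, hlen, hmem, hreg⟩ := H4Depth.exists_isWeaklyRegular_of_le_idealDepth (by
    rw [smul_eq_mul, Ideal.mul_top]; exact hJ) hpe
  subst hlen
  let f : Fin fs.length → A := fs.get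
  have hb : ∀ i, ∃ b ∈ I, ∃ s : Aˣ, algebraMap B A b = f i * s := fun i => by
    obtain ⟨⟨⟨b, hb⟩, s⟩, hbs⟩ := (IsLocalization.mem_map_algebraMap_iff P.primeCompl A).1 (hmem _ (List.get_mem fs i))
    exact ⟨b, hb, (IsLocalization.map_units A s).unit, hbs.symm⟩
  choose b hbI s hbs using hb
  have hspan : (Ideal.span (Set.range b)).map (algebraMap B A) = Ideal.span (Set.range f) := by
    rw [Ideal.map_span]
    refine le_antisymm (Ideal.span_le.2 ?_) (Ideal.span_le.2 ?_)
    · rintro _ ⟨_, ⟨i, rfl⟩, rfl⟩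
      rw [hbs i]
      exact Ideal.mul_mem_right _ _ (Ideal.subset_span ⟨i, rfl⟩)
    · rintro _ ⟨i, rfl⟩
      rw [show f i = algebraMap B A (b i) * ↑(s i)⁻¹ by rw [hbs i, Units.mul_inv_cancel_right]]
      exact Ideal.mul_mem_right _ _ (Ideal.subset_span ⟨_, ⟨i, rfl⟩, rfl⟩)
  obtain ⟨t, ht, b', hb'⟩ := H13CInt.exists_away_isWeaklyRegular P (Ideal.span (Set.range b)) f
    (by rw [List.ofFn_get]; exact hreg) hspan
  let ρ := (X.presheaf.map (homOfLE (X.basicOpen_le t)).op).hom
  letI : Algebra B Γ(X, X.basicOpen t) := ρ.toAlgebra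
  haveI : IsLocalization.Away t Γ(X, X.basicOpen t) := hU.isLocalization_basicOpen t
  obtain ⟨hI', hw⟩ := hb' Γ(X, X.basicOpen t)
  refine ⟨⟨X.basicOpen t, hU.basicOpen t⟩, List.ofFn (algebraMap B Γ(X, X.basicOpen t) ∘ b'),
    (X.mem_basicOpen t _ hxU).2 ((IsLocalization.AtPrime.isUnit_to_map_iff A P t).2 ht), List.length_ofFn, hw,
    fun r hr y hy v => ?_⟩
  obtain ⟨i, rfl⟩ := List.mem_ofFn.1 hr
  have hr' : algebraMap B Γ(X, X.basicOpen t) (b' i) ∈ I.map (algebraMap B Γ(X, X.basicOpen t)) :=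
    Ideal.map_mono (Ideal.span_le.2 (Set.range_subset_iff.2 hbI)) (hI'.ge (Ideal.subset_span ⟨i, rfl⟩))
  simp only [Function.comp_apply]
  revert hr'
  generalize algebraMap B Γ(X, X.basicOpen t) (b' i) = r
  intro hr'
  induction hr' using Submodule.span_induction with
  | mem w hw =>
    obtain ⟨a, ha, rfl⟩ := hw
    show X.presheaf.germ (X.basicOpen t) y hy (X.presheaf.map (homOfLE (X.basicOpen_le t)).op a) • v = 0
    rw [TopCat.Presheaf.germ_res_apply]
    exact hkill a ha y _ v
  | zero => rw [map_zero, zero_smul]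
  | add w w' _ _ h h' => rw [map_add, add_smul, h, h', add_zero]
  | smul s w _ h => rw [smul_eq_mul, map_mul, mul_smul, h, smul_zero]

include g in
/-- Ext groups vanish below the codimension of the support. -/
theorem subsingleton_ext [HasExt.{u} X.Modules] {F L : X.Modules} (hF : Coh.IsCoh F) (hL : FlatMod.IsFinLocFree L)
    {n p : ℕ} (hn : ∀ x : X, FlatMor.localDim X x = (n : WithBot ℕ∞))
    (hCM : ∀ x : X, LocCoh.IsCohenMacaulayLocalRing (X.presheaf.stalk x))
    (hsupp : topologicalKrullDim ↥(CohB1.support F) + (p : WithBot ℕ∞) ≤ (n : WithBot ℕ∞)) {i : ℕ} (hi : i < p) :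
    Subsingleton (Abelian.Ext F L i) := by
  choose V rs hx hlen hreg hkill using exists_chart g hF hn hCM hsupp
  refine H17.ExtRegVanish.subsingleton_ext_of_local (fun x : X => (V x).1) (fun x => (rs x).map (V x).1.topIso.inv)
    (eq_top_iff.2 fun x _ => Opens.mem_iSup.2 ⟨x, hx x⟩) L p (fun x => by rw [List.length_map, hlen x])
    (fun x y => H17.ExtRegVanish.isWeaklyRegular_restrict (V x).1 (V x).2 hL (rs x) (hreg x) y) i hi F fun x a ha => ?_
  obtain ⟨r, hr, rfl⟩ := List.mem_map.1 ha
  refine H17.ExtRegVanish.mulEnd_restrict_eq_zero (V x).1 F r fun W hW m => H29Ref.sec_ext F fun y hy => ?_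
  rw [Mero.germ_smul, TopCat.Presheaf.germ_res_apply, map_zero]
  exact hkill x r hr y (hW hy) _

end Groth.Agent.H17.FLI.SuppVanish
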